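import Cfsg.Agent.Lib.SmallGroups.Counting
import Cfsg.Agent.S2792

/-!
First properties of a simple group of order 6048 without elements of order 9, 14 or 21.
-/

set_option autoImplicit false

namespace Cfsg.Agent.Lib.U33Recog

open Subgroup
open Cfsg.Agent.Lib.SmallGroups

/-- The hypotheses on the group. -/
structure Hyp (T : Type*) [Group T] [Finite T] : Prop where
  simple : IsSimpleGroup T
  card : Nat.card T = 6048
  not9 : ∀ g : T, orderOf g ≠ 9
  not14 : ∀ g : T, orderOf g ≠ 14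
  not21 : ∀ g : T, orderOf g ≠ 21

variable {T : Type*} [Group T] [Finite T]

/-- normalizer of a subgroup -/
abbrev Nm (D : Subgroup T) : Subgroup T := normalizer (D : Set T)

theorem three_prime : Fact (Nat.Prime 3) := ⟨Nat.prime_three⟩

theorem card_inf_mul_relIndex {G : Type*} [Group G] (A B : Subgroup G) :
    Nat.card ↥(A ⊓ B) * B.relIndex A = Nat.card A := by
  rw [← Nat.card_congr (subgroupOfEquivOfLe (inf_le_left : A ⊓ B ≤ A)).toEquiv, inf_subgroupOf_left]
  exact Subgroup.card_mul_index (B.subgroupOf A)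

/-- `x` is in the normalizer of `D` when it conjugates `D` into itself. -/
theorem mem_Nm_of_conj {D : Subgroup T} {x : T} (h : ∀ y ∈ D, x * y * x⁻¹ ∈ D) : x ∈ Nm D := by
  rw [Nm, mem_normalizer_iff]
  intro y
  refine ⟨h y, fun hy => ?_⟩
  have hinj : Function.Injective fun z : D => (⟨x * z.1 * x⁻¹, h z.1 z.2⟩ : D) := fun a b e =>
    Subtype.ext (by simpa using congrArg Subtype.val e)
  obtain ⟨z, hz⟩ := Finite.injective_iff_surjective.1 hinj ⟨_, hy⟩
  have : z.1 = y := by simpa using congrArg Subtype.val hz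
  exact this ▸ z.2

theorem conj_mem {D : Subgroup T} {x y : T} (hx : x ∈ Nm D) (hy : y ∈ D) : x * y * x⁻¹ ∈ D :=
  (mem_normalizer_iff.1 hx y).1 hy

/-- Elements of order 2 exist in subgroups of even order. -/
theorem exists_involution {H : Subgroup T} (h : 2 ∣ Nat.card H) :
    ∃ t ∈ H, orderOf t = 2 := by
  haveI : Fact (Nat.Prime 2) := ⟨Nat.prime_two⟩
  obtain ⟨t, ht⟩ := exists_prime_orderOf_dvd_card' (G := H) 2 h
  exact ⟨t.1, t.2, by rw [← ht, Subgroup.orderOf_coe]⟩

namespace Hyp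

variable (hT : Hyp T)
include hT

theorem not_comm : ¬ IsMulCommutative T := by
  haveI := hT.simple
  exact Sylow.not_comm_of_card (by rw [hT.card]; norm_num)

theorem card_proper {H : Subgroup T} (hH : H ≠ ⊤) : Nat.card H ≤ 672 := by
  haveI := hT.simple
  have h := Sylow.two_mul_card_dvd_factorial hT.not_comm hH
  have h2 := H.card_mul_index
  rw [hT.card] at h h2
  by_contra hlt
  have h9 : H.index ≤ 8 := by
    by_contra h8
    have : 673 * 9 ≤ Nat.card H * H.index := Nat.mul_le_mul (by omega) (by omega)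
    omega
  have := Nat.dvd_trans h (Nat.factorial_dvd_factorial h9)
  norm_num [Nat.factorial] at this

theorem card_dvd (H : Subgroup T) : Nat.card H ∣ 6048 := hT.card ▸ H.card_subgroup_dvd_card

theorem card_sylow (P : Sylow 3 T) : Nat.card (P : Subgroup T) = 27 := by
  haveI := three_prime
  exact Sylow.card_sylow_eq (a := 3) (m := 224) P (by rw [hT.card]; norm_num) (by norm_num)

theorem exists_sylow {D : Subgroup T} (hD : IsPGroup 3 D) : ∃ P : Sylow 3 T, D ≤ P :=
  hD.exists_le_sylow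

theorem pow_three {D : Subgroup T} (hD : IsPGroup 3 D) {x : T} (hx : x ∈ D) : x ^ 3 = 1 := by
  obtain ⟨P, hP⟩ := hT.exists_sylow hD
  have h1 : orderOf (⟨x, hP hx⟩ : (P : Subgroup T)) ∣ 27 := hT.card_sylow P ▸ orderOf_dvd_natCard _
  rw [Subgroup.orderOf_mk] at h1
  have hd : orderOf x ∈ Nat.divisors 27 := Nat.mem_divisors.2 ⟨h1, by norm_num⟩
  rw [show Nat.divisors 27 = {1, 3, 9, 27} from by decide] at hd
  simp only [Finset.mem_insert, Finset.mem_singleton] at hd
  apply orderOf_dvd_iff_pow_eq_one.1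
  rcases hd with h | h | h | h
  · rw [h]; norm_num
  · rw [h]
  · exact absurd h (hT.not9 x)
  · refine absurd ?_ (hT.not9 (x ^ 3))
    rw [orderOf_pow, h]; norm_num

theorem orderOf_eq_three {D : Subgroup T} (hD : IsPGroup 3 D) {x : T} (hx : x ∈ D) (hx1 : x ≠ 1) :
    orderOf x = 3 :=
  haveI := three_prime
  orderOf_eq_prime (hT.pow_three hD hx) hx1

theorem seven {D : Subgroup T} (hD : IsPGroup 3 D) (hne : D ≠ ⊥) : ¬ 7 ∣ Nat.card (Nm D) := by
  intro h7
  haveI := three_prime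
  haveI : Fact (Nat.Prime 7) := ⟨by norm_num⟩
  obtain ⟨y, hy⟩ := exists_prime_orderOf_dvd_card' (G := Nm D) 7 h7
  have hyT : orderOf (y : T) = 7 := by rw [Subgroup.orderOf_coe, hy]
  let A : Subgroup (Nm D) := zpowers y
  have hA : IsPGroup 7 A := IsPGroup.of_card (n := 1) (by rw [pow_one, Nat.card_zpowers, hy])
  letI : MulAction A D :=
    { smul := fun a d => ⟨(a.1 : T) * d.1 * (a.1 : T)⁻¹, conj_mem a.1.2 d.2⟩
      one_smul := fun d => Subtype.ext (by show (1 : T) * d.1 * (1 : T)⁻¹ = d.1; group)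
      mul_smul := fun a b d => Subtype.ext (by
        show ((a.1 : T) * (b.1 : T)) * d.1 * ((a.1 : T) * (b.1 : T))⁻¹ =
          (a.1 : T) * ((b.1 : T) * d.1 * (b.1 : T)⁻¹) * (a.1 : T)⁻¹
        group) }
  have h := hA.card_modEq_card_fixedPoints D
  obtain ⟨k, hk⟩ := IsPGroup.iff_card.1 hD
  have hk3 : k ≤ 3 := by
    obtain ⟨P, hP⟩ := hT.exists_sylow hD
    have := Subgroup.card_dvd_of_le hP
    rw [hk, hT.card_sylow P, show 27 = 3 ^ 3 by norm_num] at this
    exact (Nat.pow_dvd_pow_iff_le_right (by norm_num)).1 this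
  have hk0 : k ≠ 0 := by
    rintro rfl
    exact hne (Subgroup.eq_bot_of_card_eq _ hk)
  have h1 : (⟨1, D.one_mem⟩ : D) ∈ MulAction.fixedPoints A D := fun a => Subtype.ext (by
    show (a.1 : T) * 1 * (a.1 : T)⁻¹ = 1; group)
  have hne1 : Nat.card (MulAction.fixedPoints A D) ≠ 1 := by
    intro he
    rw [he, hk] at h
    rcases (show k = 1 ∨ k = 2 ∨ k = 3 by omega) with e | e | e <;> rw [e] at h <;> norm_num [Nat.ModEq] at h
  obtain ⟨⟨d, hd⟩, hd1⟩ : ∃ d : MulAction.fixedPoints A D, d ≠ ⟨_, h1⟩ := by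
    by_contra hc
    push Not at hc
    exact hne1 (Nat.card_eq_one_iff_unique.2 ⟨⟨fun a b => (hc a).trans (hc b).symm⟩, ⟨⟨_, h1⟩⟩⟩)
  have hdne : (d : T) ≠ 1 := fun e => hd1 (Subtype.ext (Subtype.ext e))
  have e := congrArg Subtype.val (hd ⟨y, mem_zpowers y⟩)
  have hcomm : Commute (y : T) d.1 := mul_inv_eq_iff_eq_mul.1 e
  have h21 := hcomm.orderOf_mul_eq_mul_orderOf_of_coprime (by
    rw [hyT, hT.orderOf_eq_three hD d.2 hdne]; norm_num)
  rw [hyT, hT.orderOf_eq_three hD d.2 hdne] at h21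
  exact hT.not21 _ h21

theorem Nm_ne_top {D : Subgroup T} (hne : D ≠ ⊥) (hle : D ≠ ⊤) : Nm D ≠ ⊤ := by
  haveI := hT.simple
  intro h
  haveI : D.Normal := Subgroup.normalizer_eq_top_iff.1 h
  rcases IsSimpleGroup.eq_bot_or_eq_top_of_normal D inferInstance with h | h
  exacts [hne h, hle h]

theorem card_Nm {D : Subgroup T} (hD : IsPGroup 3 D) (hne : D ≠ ⊥) :
    Nat.card (Nm D) ∣ 864 ∧ Nat.card (Nm D) ≤ 672 := by
  refine ⟨(Nat.Coprime.dvd_mul_left ?_).1 (show Nat.card (Nm D) ∣ 7 * 864 from hT.card_dvd _),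
    hT.card_proper (hT.Nm_ne_top hne fun h => ?_)⟩
  · exact ((Nat.Prime.coprime_iff_not_dvd (by norm_num)).2 (hT.seven hD hne)).symm
  · obtain ⟨P, hP⟩ := hT.exists_sylow hD
    have := Subgroup.card_le_of_le hP
    rw [h, Subgroup.card_top, hT.card, hT.card_sylow P] at this
    omega

theorem sylow_ne_bot (P : Sylow 3 T) : (P : Subgroup T) ≠ ⊥ := fun h => by
  have := hT.card_sylow P
  rw [h, Subgroup.card_bot] at this
  omega

theorem card_sylow_set : Nat.card (Sylow 3 T) = 28 ∨ Nat.card (Sylow 3 T) = 112 := by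
  haveI := three_prime
  let P : Sylow 3 T := default
  have hm := Sylow.card_sylow_mem (G := T) (p := 3) (a := 3) (m := 224) (by rw [hT.card]; norm_num) (by norm_num)
  have h := Sylow.card_normalizer_mul P
  obtain ⟨h1, h2⟩ := hT.card_Nm P.2 (hT.sylow_ne_bot P)
  have h7 := hT.seven P.2 (hT.sylow_ne_bot P)
  rw [hT.card] at h
  change Nat.card (Nm (P : Subgroup T)) * _ = _ at h
  rw [show (Nat.divisors 224).filter (fun d => d % 3 = 1) = {1, 4, 7, 16, 28, 112} from by decide +kernel] at hm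
  simp only [Finset.mem_insert, Finset.mem_singleton] at hm
  rcases hm with e | e | e | e | e | e <;> rw [e] at h
  · omega
  · omega
  · omega
  · exact absurd ⟨54, by omega⟩ h7
  · exact Or.inl e
  · exact Or.inr e

theorem center_ne (P : Sylow 3 T) (x y : T) (hx : x ∈ (P : Subgroup T)) (hy : y ∈ (P : Subgroup T))
    (c : T) (hc : c ∈ (P : Subgroup T)) : Commute (x⁻¹ * y⁻¹ * x * y) c := by
  haveI := three_prime
  haveI : Nontrivial ↥(P : Subgroup T) := (Subgroup.nontrivial_iff_ne_bot _).2 (hT.sylow_ne_bot P)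
  haveI := P.2.center_nontrivial
  let P' : Subgroup T := P
  set Z := Subgroup.center ↥P'
  have hZ : 3 ∣ Nat.card Z := by
    obtain ⟨k, hk⟩ := IsPGroup.iff_card.1 (P.2.to_subgroup Z)
    rcases k with _ | k
    · exfalso
      rw [pow_zero] at hk
      exact (not_nontrivial_iff_subsingleton.2 (Nat.card_eq_one_iff_unique.1 hk).1) ‹_›
    · exact ⟨3 ^ k, by rw [hk, pow_succ']⟩
  have hq : Nat.card (↥P' ⧸ Z) ∣ 9 := by
    obtain ⟨k, hk⟩ := hZ
    refine ⟨k, ?_⟩
    have := Subgroup.card_eq_card_quotient_mul_card_subgroup Z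
    rw [show Nat.card ↥P' = 27 from hT.card_sylow P, hk] at this
    nlinarith
  have hcomm : ∀ a b : ↥P' ⧸ Z, a * b = b * a := by
    obtain ⟨j, hj, e⟩ := (Nat.dvd_prime_pow Nat.prime_three (m := 2)).1 (by norm_num; exact hq)
    have hI : IsMulCommutative (↥P' ⧸ Z) := by
      interval_cases j
      · haveI := (Nat.card_eq_one_iff_unique.1 (by simpa using e)).1
        exact ⟨⟨fun a b => Subsingleton.elim _ _⟩⟩
      · haveI := isCyclic_of_prime_card (by simpa using e)
        exact IsCyclic.isMulCommutative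
      · exact IsPGroup.isMulCommutative_of_card_eq_prime_sq e
    exact fun a b => hI.is_comm.comm a b
  have hmem : (⟨x, hx⟩⁻¹ * ⟨y, hy⟩⁻¹ * ⟨x, hx⟩ * ⟨y, hy⟩ : ↥P') ∈ Z := by
    rw [← QuotientGroup.eq_one_iff]
    simp only [QuotientGroup.mk_mul, QuotientGroup.mk_inv]
    rw [hcomm (QuotientGroup.mk _)⁻¹ (QuotientGroup.mk _)⁻¹]
    group
  exact congrArg Subtype.val (Subgroup.mem_center_iff.1 hmem ⟨c, hc⟩).symm

/-- Transfer: a Sylow 3-subgroup lies in the derived subgroup of its normalizer. -/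
theorem le_commutator (P : Sylow 3 T) :
    (P : Subgroup T) ≤ ⁅Nm (P : Subgroup T), Nm (P : Subgroup T)⁆ := by
  haveI := three_prime
  haveI := hT.simple
  have hW : Cfsg.IsWeaklyClosed (P : Subgroup T) (P : Subgroup T) :=
    ⟨le_rfl, fun g hg => Subgroup.eq_of_le_of_card_ge hg (Subgroup.card_map_of_injective
      (MulAut.conj g).injective).ge⟩
  by_contra hle
  obtain ⟨x, hx, z, hz, W₀, -, -, h2⟩ := Cfsg.Agent.S2792.result P (P : Subgroup T) hW (fun e => hle (by
    rw [Sylow.commutator_eq_top hT.not_comm, inf_top_eq] at e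
    exact inf_eq_left.1 e.symm))
  refine h2 ?_
  rw [show 3 - 1 = 1 + 1 from rfl, Function.iterate_succ_apply', Function.iterate_one]
  have hc := hT.center_ne P x z hx hz z hz
  have e : (x⁻¹ * z⁻¹ * x * z)⁻¹ * z⁻¹ * (x⁻¹ * z⁻¹ * x * z) * z = 1 := by
    rw [mul_assoc _ z⁻¹, ← (hc.inv_right).eq, inv_mul_cancel_left, inv_mul_cancel]
  rw [e]
  exact one_mem _

end Hyp

end Cfsg.Agent.Lib.U33Recog
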