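import Mathlib

/-!
The degree equations of a principal 7-block for a putative simple group of order 12096.
-/

set_option autoImplicit false
set_option maxRecDepth 100000

namespace Cfsg.Agent.Lib.U33Recog.Block7

/-- value at the 7-element, degree, value at the inverting involution -/
abbrev Opt := ℤ × ℕ × ℤ

/-- the possible entries -/
def opts : List Opt := [
  (2, 2, -2), (2, 2, 2), (2, 9, -3), (2, 9, 1), (-2, 12, 0), (2, 16, -4),
  (2, 16, 0), (2, 16, 4), (-2, 54, -6), (-2, 54, -2), (-2, 54, 2), (-2, 54, 6),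
  (2, 72, -12), (2, 72, -8), (2, 72, -4), (2, 72, 0), (2, 72, 4), (2, 72, 8),
  (2, 72, 12), (-2, 96, -12), (-2, 96, -8), (-2, 96, -4), (-2, 96, 0), (-2, 96, 4),
  (-2, 96, 8), (-2, 96, 12), (1, 8, 0), (-1, 27, -1), (-1, 27, 3), (1, 36, -4),
  (1, 36, 0), (1, 36, 4), (-1, 48, -4), (-1, 48, 0), (-1, 48, 4), (1, 64, -8),
  (1, 64, -4), (1, 64, 0), (1, 64, 4), (1, 64, 8)]

/-- all numbers below `n` -/
def allUpTo : ℕ → (ℕ → Bool) → Bool
  | 0, _ => true
  | n + 1, p => p n && allUpTo n p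

theorem allUpTo_spec : ∀ {n : ℕ} {p : ℕ → Bool}, allUpTo n p = true → ∀ i < n, p i = true
  | n + 1, p, h, i, hi => by
    rw [allUpTo, Bool.and_eq_true] at h
    rcases Nat.lt_succ_iff_lt_or_eq.1 hi with hi | rfl
    exacts [allUpTo_spec h.2 i hi, h.1]

/-- the degree and value constraints of one entry -/
def okEntry (a : ℤ) (f : ℕ) (v : ℤ) : Bool :=
  decide (2 ≤ f) && decide (12096 % f = 0) && decide (((f : ℤ) - a) % 7 = 0) &&
    decide (((f : ℤ) + 6 * a + 7 * v) % 14 = 0) && decide (-((f : ℤ) + 6 * a) ≤ 7 * v) &&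
    decide (7 * v ≤ (f : ℤ) + 6 * a) && decide ((v - f) % 4 = 0) && decide (a ≠ 0)

theorem opts_table : allUpTo 110 (fun f => !(decide (2 ≤ f) && decide (12096 % f = 0)) ||
    allUpTo 5 (fun i => allUpTo 69 fun k =>
      !okEntry ((i : ℤ) - 2) f ((k : ℤ) - 34) || opts.contains ((i : ℤ) - 2, f, (k : ℤ) - 34))) = true := by
  decide +kernel

theorem mem_opts {a : ℤ} {f : ℕ} {v : ℤ} (hf : f < 110) (ha : -2 ≤ a ∧ a ≤ 2) (h2 : 2 ≤ f)
    (hd : f ∣ 12096) (h7 : ((f : ℤ) - a) % 7 = 0) (h14 : ((f : ℤ) + 6 * a + 7 * v) % 14 = 0)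
    (hlo : -((f : ℤ) + 6 * a) ≤ 7 * v) (hhi : 7 * v ≤ (f : ℤ) + 6 * a) (h4 : (v - f) % 4 = 0)
    (ha0 : a ≠ 0) : (a, f, v) ∈ opts := by
  have h := allUpTo_spec opts_table f hf
  rw [show decide (2 ≤ f) = true from decide_eq_true h2,
    show decide (12096 % f = 0) = true from decide_eq_true (Nat.mod_eq_zero_of_dvd hd), Bool.and_self,
    Bool.not_true, Bool.false_or] at h
  have hv : -17 ≤ v ∧ v ≤ 17 := by omega
  have := allUpTo_spec (allUpTo_spec h (a + 2).toNat (by omega)) (v + 34).toNat (by omega)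
  rw [show (((a + 2).toNat : ℤ) - 2) = a by omega, show (((v + 34).toNat : ℤ) - 34) = v by omega] at this
  have hok : okEntry a f v = true := by
    simp only [okEntry, Bool.and_eq_true, decide_eq_true_eq]
    exact ⟨⟨⟨⟨⟨⟨⟨h2, Nat.mod_eq_zero_of_dvd hd⟩, h7⟩, h14⟩, hlo⟩, hhi⟩, h4⟩, ha0⟩
  rw [hok, Bool.not_true, Bool.false_or] at this
  simpa using this

/-- the accumulated sums: `∑ a f`, `∑ a v`, `∑ f²`, `∑ a v² (12096 / f)` -/
def sums : List Opt → ℤ × ℤ × ℕ × ℤ
  | [] => (0, 0, 0, 0)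
  | (a, f, v) :: l =>
    let s := sums l
    (a * f + s.1, a * v + s.2.1, f * f + s.2.2.1, a * v * v * (12096 / f : ℕ) + s.2.2.2)

/-- the only admissible block -/
def target : List Opt :=
  [(1, 8, 0), (-1, 27, -1), (-1, 27, -1), (-1, 27, -1), (1, 36, -4), (1, 36, 0)]

/-- the possible centralizer orders of the inverting involution: divisors of 12096 that are multiples of 3 -/
def cents : List ℕ := [3, 6, 9, 12, 18, 21, 24, 27, 36, 42, 48, 54, 63, 72, 84, 96, 108, 126, 144, 168, 189, 192, 216, 252, 288, 336, 378, 432, 504, 576, 672, 756, 864, 1008, 1344, 1512, 1728, 2016, 3024, 4032, 6048, 12096]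

theorem cents_table : allUpTo 12097 (fun c =>
    !(Nat.beq (12096 % c) 0 && Nat.beq (c % 3) 0) || cents.contains c) = true := by decide +kernel

theorem mem_cents {c : ℕ} (hd : c ∣ 12096) (h3 : 3 ∣ c) : c ∈ cents := by
  have h := allUpTo_spec cents_table c (Nat.lt_succ_of_le (Nat.le_of_dvd (by norm_num) hd))
  rw [Nat.mod_eq_zero_of_dvd hd, Nat.mod_eq_zero_of_dvd h3] at h
  simpa using h

/-- the test at a leaf: an admissible list is the target with centralizer of order 48 -/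
def leaf (l : List Opt) : Bool :=
  let s := sums l
  !(decide (s.1 = -1) && decide (s.2.1 = -1) && Nat.ble s.2.2.1 12095) ||
    cents.all fun c => !decide (12096 + s.2.2.2 = 7 * (c : ℤ) * c) || (Nat.beq c 48 && l.isPerm target)

/-- all ways of choosing multiplicities -/
def go : List Opt → ℕ → List Opt → Bool
  | [], rem, acc => !(Nat.beq rem 0) || leaf acc
  | o :: os, rem, acc => allUpTo 7 fun k =>
    !(Nat.ble (k * o.1.natAbs ^ 2) rem) || go os (rem - k * o.1.natAbs ^ 2) (List.replicate k o ++ acc)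

theorem go_spec : ∀ {os : List Opt} {rem : ℕ} {acc : List Opt}, go os rem acc = true →
    ∀ M : Multiset Opt, (∀ x ∈ M, x ∈ os) → (∀ x ∈ M, x.1 ≠ 0) → rem ≤ 6 →
      (M.map fun x => x.1.natAbs ^ 2).sum = rem →
      ∃ l : List Opt, (l : Multiset Opt) = M + acc ∧ leaf l = true
  | [], rem, acc, h, M, hM, _, _, hs => by
    obtain rfl : M = 0 := Multiset.eq_zero_of_forall_notMem fun x hx => by simpa using hM x hx
    have hr : rem = 0 := by simpa using hs.symm
    subst hr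
    rw [go] at h
    exact ⟨acc, by simp, by simpa using h⟩
  | o :: os, rem, acc, h, M, hM, hne, hr, hs => by
    set k := M.count o with hk
    set R := M.filter (fun x => ¬ o = x) with hR
    have hsplit : M = Multiset.replicate k o + R := by
      conv_lhs => rw [← Multiset.filter_add_not (fun x => o = x) M]
      rw [Multiset.filter_eq, hk, hR]
    have hsum : k * o.1.natAbs ^ 2 + (R.map fun x => x.1.natAbs ^ 2).sum = rem := by
      rw [← hs]
      conv_rhs => rw [hsplit]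
      simp [Multiset.sum_replicate]
    have hk7 : k < 7 := by
      rcases Nat.eq_zero_or_pos k with h0 | h0
      · omega
      · have h1 : 1 ≤ o.1.natAbs ^ 2 :=
          Nat.one_le_pow _ _ (Int.natAbs_pos.2 (hne o (Multiset.count_pos.1 (hk ▸ h0))))
        have : k * 1 ≤ k * o.1.natAbs ^ 2 := Nat.mul_le_mul_left k h1
        omega
    rw [go] at h
    have h' := allUpTo_spec h k hk7
    rw [show Nat.ble (k * o.1.natAbs ^ 2) rem = true from Nat.ble_eq_true_of_le (by omega), Bool.not_true,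
      Bool.false_or] at h'
    obtain ⟨l, hl, hleaf⟩ := go_spec h' R (fun x hx => by
      obtain ⟨hxM, hxo⟩ := Multiset.mem_filter.1 hx
      exact (List.mem_cons.1 (hM x hxM)).resolve_left fun e => hxo e.symm)
      (fun x hx => hne x (Multiset.mem_filter.1 hx).1) (by omega) (by omega)
    refine ⟨l, ?_, hleaf⟩
    rw [hl]
    conv_rhs => rw [hsplit]
    rw [← Multiset.coe_add, Multiset.coe_replicate]
    abel

theorem go_table : go opts 6 [] = true := by decide +kernel

theorem block_unique (M : Multiset Opt) (hM : ∀ x ∈ M, x ∈ opts) (hs : (M.map fun x => x.1.natAbs ^ 2).sum = 6)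
    (h1 : (M.map fun x => x.1 * (x.2.1 : ℤ)).sum = -1) (h2 : (M.map fun x => x.1 * x.2.2).sum = -1)
    (h3 : (M.map fun x => x.2.1 * x.2.1).sum ≤ 12095) {c : ℕ} (hd : c ∣ 12096) (hc3 : 3 ∣ c)
    (h4 : 12096 + (M.map fun x => x.1 * x.2.2 * x.2.2 * ((12096 / x.2.1 : ℕ) : ℤ)).sum = 7 * (c : ℤ) * c) :
    M = (target : Multiset Opt) ∧ c = 48 := by
  have hne : ∀ x ∈ M, x.1 ≠ 0 := fun x hx => by
    have t : opts.all (fun x => decide (x.1 ≠ 0)) = true := by decide +kernel
    simpa using List.all_eq_true.1 t x (hM x hx)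
  obtain ⟨l, hl, hleaf⟩ := go_spec go_table M hM hne le_rfl hs
  rw [Multiset.coe_nil, add_zero] at hl
  subst hl
  have hsums : ∀ l : List Opt, sums l = ((l.map fun x => x.1 * (x.2.1 : ℤ)).sum,
      (l.map fun x => x.1 * x.2.2).sum, (l.map fun x => x.2.1 * x.2.1).sum,
      (l.map fun x => x.1 * x.2.2 * x.2.2 * ((12096 / x.2.1 : ℕ) : ℤ)).sum) := by
    intro l
    induction l with
    | nil => rfl
    | cons x l ih => obtain ⟨a, f, v⟩ := x; simp only [sums, ih, List.map_cons, List.sum_cons]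
  simp only [Multiset.map_coe, Multiset.sum_coe] at h1 h2 h3 h4
  rw [leaf] at hleaf
  simp only [hsums, h1, h2, decide_true, Bool.and_self, Nat.ble_eq_true_of_le h3, Bool.and_true, Bool.not_true,
    Bool.false_or, List.all_eq_true] at hleaf
  have := hleaf c (mem_cents hd hc3)
  rw [decide_eq_true h4] at this
  simp only [Bool.not_true, Bool.false_or, Bool.and_eq_true, List.isPerm_iff] at this
  exact ⟨Multiset.coe_eq_coe.2 this.2, Nat.eq_of_beq_eq_true this.1⟩

theorem second_table : allUpTo 3 (fun i => allUpTo 17 fun j => allUpTo 17 fun k => allUpTo 13 fun l =>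
    allUpTo 13 fun m =>
      let a : ℤ := 4 * (i : ℤ) - 4
      let b : ℤ := 4 * (j : ℤ) - 32
      let c : ℤ := 4 * (k : ℤ) - 32
      let d : ℤ := 4 * (l : ℤ) - 25
      let e : ℤ := 4 * (m : ℤ) - 25
      let g : ℤ := 1 + a + b + c - d - e
      decide (g ≤ -27) || decide (27 ≤ g) ||
        !decide (216 + 27 * a * a + 6 * (b * b + c * c) - 8 * (d * d + e * e + g * g) = 0)) = true := by
  decide +kernel

/-- No second class of involutions fits the block. -/
theorem second_class {a b c d e g : ℤ} (ha : (a - 8) % 4 = 0) (hb : (b - 36) % 4 = 0) (hc : (c - 36) % 4 = 0)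
    (hd : (d - 27) % 4 = 0) (he : (e - 27) % 4 = 0) (a1 : -8 < a ∧ a < 8) (b1 : -36 < b ∧ b < 36)
    (c1 : -36 < c ∧ c < 36) (d1 : -27 < d ∧ d < 27) (e1 : -27 < e ∧ e < 27) (g1 : -27 < g ∧ g < 27)
    (h : 1 + a + b + c - (d + e + g) = 0) :
    216 + 27 * a * a + 6 * (b * b + c * c) - 8 * (d * d + e * e + g * g) ≠ 0 := by
  intro hz
  obtain ⟨i, hi, rfl⟩ : ∃ i : ℕ, i < 3 ∧ a = 4 * (i : ℤ) - 4 := ⟨((a + 4) / 4).toNat, by omega, by omega⟩
  obtain ⟨j, hj, rfl⟩ : ∃ j : ℕ, j < 17 ∧ b = 4 * (j : ℤ) - 32 := ⟨((b + 32) / 4).toNat, by omega, by omega⟩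
  obtain ⟨k, hk, rfl⟩ : ∃ k : ℕ, k < 17 ∧ c = 4 * (k : ℤ) - 32 := ⟨((c + 32) / 4).toNat, by omega, by omega⟩
  obtain ⟨l, hl, rfl⟩ : ∃ l : ℕ, l < 13 ∧ d = 4 * (l : ℤ) - 25 := ⟨((d + 25) / 4).toNat, by omega, by omega⟩
  obtain ⟨m, hm, rfl⟩ : ∃ m : ℕ, m < 13 ∧ e = 4 * (m : ℤ) - 25 := ⟨((e + 25) / 4).toNat, by omega, by omega⟩
  obtain rfl : g = 1 + (4 * (i : ℤ) - 4) + (4 * (j : ℤ) - 32) + (4 * (k : ℤ) - 32) - (4 * (l : ℤ) - 25) -
      (4 * (m : ℤ) - 25) := by omega
  have t := allUpTo_spec (allUpTo_spec (allUpTo_spec (allUpTo_spec (allUpTo_spec second_table i hi) j hj) k hk) l hl) m hm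
  simp only [Bool.or_eq_true, decide_eq_true_eq, Bool.not_eq_true', decide_eq_false_iff_not] at t
  rcases t with (t | t) | t
  · omega
  · omega
  · exact t hz

end Cfsg.Agent.Lib.U33Recog.Block7
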