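import Cfsg.Agent.Lib.U33Recog.Spec

/-!
Coordinates in a group of order 27 of exponent 3: the map from coded elements.
-/

set_option autoImplicit false
set_option maxRecDepth 100000

namespace Cfsg.Agent.Lib.U33Recog

open Model

/-- first exponent -/
def dA (x : ℕ) : ℕ := Nat.mod x 3

/-- second exponent -/
def dB (x : ℕ) : ℕ := Nat.mod (Nat.div x 3) 3

/-- third exponent -/
def dE (h : Bool) (x : ℕ) : ℕ :=
  Nat.mod (Nat.add (Nat.div x 9) (cond h (Nat.mul (dA x) (dB x)) 0)) 3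

/-- the twist -/
def tw (h : Bool) : ℕ := cond h 2 0

/-- powers of a coded element -/
def pw (h : Bool) (u : ℕ) : ℕ → ℕ
  | 0 => 0
  | n + 1 => mulC h (pw h u n) u

/-- the code of a word with given images of the basis -/
def lin (h : Bool) (u v w x : ℕ) : ℕ :=
  mulC h (mulC h (pw h u (dA x)) (pw h v (dB x))) (pw h w (dE h x))

theorem code_table : allB 2 (fun k => allB 27 fun x => allB 27 fun y =>
    Nat.beq (dA (mulC (Nat.beq k 1) x y)) (Nat.mod (Nat.add (dA x) (dA y)) 3) &&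
      Nat.beq (dB (mulC (Nat.beq k 1) x y)) (Nat.mod (Nat.add (dB x) (dB y)) 3) &&
      Nat.beq (dE (Nat.beq k 1) (mulC (Nat.beq k 1) x y)) (Nat.mod (Nat.add (Nat.add (dE (Nat.beq k 1) x)
        (dE (Nat.beq k 1) y)) (Nat.mul (tw (Nat.beq k 1)) (Nat.mul (dB x) (dA y)))) 3) &&
      Nat.blt (mulC (Nat.beq k 1) x y) 27 &&
      Nat.beq (mulC (Nat.beq k 1) x (invC (Nat.beq k 1) x)) 0) = true := by
  decide +kernel

theorem code_facts (h : Bool) {x y : ℕ} (hx : x < 27) (hy : y < 27) :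
    dA (mulC h x y) = (dA x + dA y) % 3 ∧ dB (mulC h x y) = (dB x + dB y) % 3 ∧
      dE h (mulC h x y) = (dE h x + dE h y + tw h * (dB x * dA y)) % 3 ∧
      mulC h x y < 27 ∧ mulC h x (invC h x) = 0 := by
  obtain ⟨k, hk, rfl⟩ : ∃ k < 2, Nat.beq k 1 = h := by
    cases h
    exacts [⟨0, by norm_num, rfl⟩, ⟨1, by norm_num, rfl⟩]
  have := allB_iff.1 (allB_iff.1 (allB_iff.1 code_table k hk) x hx) y hy
  simp only [Bool.and_eq_true, Nat.blt_eq] at this
  exact ⟨Nat.eq_of_beq_eq_true this.1.1.1.1, Nat.eq_of_beq_eq_true this.1.1.1.2,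
    Nat.eq_of_beq_eq_true this.1.1.2, this.1.2, Nat.eq_of_beq_eq_true this.2⟩

theorem pow_red {G : Type*} [Group G] {u : G} (hu : u ^ 3 = 1) (n : ℕ) : u ^ n = u ^ (n % 3) :=
  pow_eq_pow_mod n hu

/-- Coordinates: two generators, a central element and their commutation rule. -/
structure Frame (T : Type*) [Group T] (h : Bool) where
  /-- first generator -/
  e1 : T
  /-- second generator -/
  e2 : T
  /-- central element -/
  z : T
  p1 : e1 ^ 3 = 1
  p2 : e2 ^ 3 = 1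
  pz : z ^ 3 = 1
  c1 : z * e1 = e1 * z
  c2 : z * e2 = e2 * z
  c12 : e2 * e1 = e1 * e2 * z ^ tw h

namespace Frame

variable {T : Type*} [Group T] {h : Bool} (F : Frame T h)

/-- the element with a given code -/
def Ψ (x : ℕ) : T := F.e1 ^ dA x * F.e2 ^ dB x * F.z ^ dE h x

theorem swap_one (a : ℕ) : F.e2 * F.e1 ^ a = F.e1 ^ a * F.e2 * F.z ^ (tw h * a) := by
  induction a with
  | zero => simp
  | succ a ih =>
    have hc : F.z ^ (tw h * a) * F.e1 = F.e1 * F.z ^ (tw h * a) :=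
      ((show Commute F.z F.e1 from F.c1).pow_left _).eq
    calc F.e2 * F.e1 ^ (a + 1) = F.e2 * F.e1 ^ a * F.e1 := by rw [pow_succ, mul_assoc]
      _ = F.e1 ^ a * F.e2 * (F.z ^ (tw h * a) * F.e1) := by rw [ih]; simp only [mul_assoc]
      _ = F.e1 ^ a * (F.e2 * F.e1) * F.z ^ (tw h * a) := by rw [hc]; simp only [mul_assoc]
      _ = _ := by
        rw [F.c12, pow_succ, show tw h * (a + 1) = tw h + tw h * a by ring, pow_add]
        simp only [mul_assoc]

theorem swap (b a : ℕ) : F.e2 ^ b * F.e1 ^ a = F.e1 ^ a * F.e2 ^ b * F.z ^ (tw h * (b * a)) := by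
  induction b with
  | zero => simp
  | succ b ih =>
    have hc : F.z ^ (tw h * a) * F.e2 ^ b = F.e2 ^ b * F.z ^ (tw h * a) :=
      (((show Commute F.z F.e2 from F.c2).pow_left _).pow_right _).eq
    calc F.e2 ^ (b + 1) * F.e1 ^ a = F.e2 * (F.e2 ^ b * F.e1 ^ a) := by rw [pow_succ', mul_assoc]
      _ = (F.e2 * F.e1 ^ a) * F.e2 ^ b * F.z ^ (tw h * (b * a)) := by rw [ih]; simp only [mul_assoc]
      _ = F.e1 ^ a * F.e2 * (F.z ^ (tw h * a) * F.e2 ^ b) * F.z ^ (tw h * (b * a)) := by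
        rw [F.swap_one]; simp only [mul_assoc]
      _ = _ := by
        rw [hc, pow_succ', show tw h * ((b + 1) * a) = tw h * a + tw h * (b * a) by ring, pow_add]
        simp only [mul_assoc]

theorem Ψ_mul {x y : ℕ} (hx : x < 27) (hy : y < 27) : F.Ψ (mulC h x y) = F.Ψ x * F.Ψ y := by
  obtain ⟨ha, hb, he, -, -⟩ := code_facts h hx hy
  have z1 : ∀ n m, F.z ^ n * F.e1 ^ m = F.e1 ^ m * F.z ^ n := fun n m =>
    (((show Commute F.z F.e1 from F.c1).pow_left n).pow_right m).eq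
  have z2 : ∀ n m, F.z ^ n * F.e2 ^ m = F.e2 ^ m * F.z ^ n := fun n m =>
    (((show Commute F.z F.e2 from F.c2).pow_left n).pow_right m).eq
  unfold Ψ
  rw [ha, hb, he, ← pow_red F.p1, ← pow_red F.p2, ← pow_red F.pz]
  symm
  calc F.e1 ^ dA x * F.e2 ^ dB x * F.z ^ dE h x * (F.e1 ^ dA y * F.e2 ^ dB y * F.z ^ dE h y)
      = F.e1 ^ dA x * F.e2 ^ dB x * (F.z ^ dE h x * F.e1 ^ dA y) * F.e2 ^ dB y * F.z ^ dE h y := by
        simp only [mul_assoc]
    _ = F.e1 ^ dA x * (F.e2 ^ dB x * F.e1 ^ dA y) * (F.z ^ dE h x * F.e2 ^ dB y) * F.z ^ dE h y := by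
        rw [z1]; simp only [mul_assoc]
    _ = F.e1 ^ dA x * F.e1 ^ dA y * F.e2 ^ dB x * (F.z ^ (tw h * (dB x * dA y)) * F.e2 ^ dB y) *
          F.z ^ dE h x * F.z ^ dE h y := by
        rw [F.swap, z2 (dE h x)]; simp only [mul_assoc]
    _ = F.e1 ^ (dA x + dA y) * F.e2 ^ (dB x + dB y) * F.z ^ (dE h x + dE h y + tw h * (dB x * dA y)) := by
        rw [z2, show dE h x + dE h y + tw h * (dB x * dA y) = tw h * (dB x * dA y) + dE h x + dE h y by ring,
          pow_add, pow_add, pow_add, pow_add]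
        simp only [mul_assoc]

theorem Ψ_zero : F.Ψ 0 = 1 := by
  simp [Ψ, show dA 0 = 0 from rfl, show dB 0 = 0 from rfl, show dE h 0 = 0 by cases h <;> rfl]

theorem Ψ_one : F.Ψ 1 = F.e1 := by
  simp [Ψ, show dA 1 = 1 from rfl, show dB 1 = 0 from rfl, show dE h 1 = 0 by cases h <;> rfl]

theorem Ψ_three : F.Ψ 3 = F.e2 := by
  simp [Ψ, show dA 3 = 0 from rfl, show dB 3 = 1 from rfl, show dE h 3 = 0 by cases h <;> rfl]

theorem Ψ_nine : F.Ψ 9 = F.z := by
  simp [Ψ, show dA 9 = 0 from rfl, show dB 9 = 0 from rfl, show dE h 9 = 1 by cases h <;> rfl]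

theorem Ψ_inv {x : ℕ} (hx : x < 27) : F.Ψ (invC h x) = (F.Ψ x)⁻¹ := by
  obtain ⟨-, -, -, hlt, -⟩ := code_facts h hx hx
  refine eq_inv_of_mul_eq_one_right ?_
  have e := (code_facts h hx hx).2.2.2.2
  rw [invC] at e ⊢
  rw [← F.Ψ_mul hx hlt, e, F.Ψ_zero]

theorem pw_lt {u : ℕ} (hu : u < 27) : ∀ n, pw h u n < 27
  | 0 => by simp [pw]
  | n + 1 => (code_facts h (pw_lt hu n) hu).2.2.2.1

theorem Ψ_pw {u : ℕ} (hu : u < 27) (n : ℕ) : F.Ψ (pw h u n) = F.Ψ u ^ n := by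
  induction n with
  | zero => rw [pw, F.Ψ_zero, pow_zero]
  | succ n ih => rw [pw, F.Ψ_mul (pw_lt hu n) hu, ih, pow_succ]

theorem lin_lt {u v w : ℕ} (hu : u < 27) (hv : v < 27) (hw : w < 27) (x : ℕ) : lin h u v w x < 27 :=
  (code_facts h (code_facts h (pw_lt hu _) (pw_lt hv _)).2.2.2.1 (pw_lt hw _)).2.2.2.1

/-- An endomorphism is known from the images of the basis. -/
theorem map_Ψ (f : T →* T) {u v w : ℕ} (hu : u < 27) (hv : v < 27) (hw : w < 27)
    (h1 : f F.e1 = F.Ψ u) (h2 : f F.e2 = F.Ψ v) (h3 : f F.z = F.Ψ w) (x : ℕ) :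
    f (F.Ψ x) = F.Ψ (lin h u v w x) := by
  rw [lin, F.Ψ_mul (code_facts h (pw_lt hu _) (pw_lt hv _)).2.2.2.1 (pw_lt hw _),
    F.Ψ_mul (pw_lt hu _) (pw_lt hv _), F.Ψ_pw hu, F.Ψ_pw hv, F.Ψ_pw hw, ← h1, ← h2, ← h3, ← map_pow,
    ← map_pow, ← map_pow, ← map_mul, ← map_mul]
  rfl

end Frame

/-- the models act by automorphisms of the coded groups -/
theorem hs_lin_table : allB 6 (fun m => allB 27 fun x =>
    Nat.beq (hs m (gen1 m) x) (lin (heis m) (hs m (gen1 m) 1) (hs m (gen1 m) 3) (hs m (gen1 m) 9) x) &&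
      Nat.beq (hs m (gen2 m) x) (lin (heis m) (hs m (gen2 m) 1) (hs m (gen2 m) 3) (hs m (gen2 m) 9) x))
    = true := by
  decide +kernel

theorem hs_lin {m x : ℕ} (hm : m < 6) (hx : x < 27) {g : ℕ} (hg : g = gen1 m ∨ g = gen2 m) :
    hs m g x = lin (heis m) (hs m g 1) (hs m g 3) (hs m g 9) x := by
  have := allB_iff.1 (allB_iff.1 hs_lin_table m hm) x hx
  simp only [Bool.and_eq_true] at this
  rcases hg with rfl | rfl
  exacts [Nat.eq_of_beq_eq_true this.1, Nat.eq_of_beq_eq_true this.2]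

end Cfsg.Agent.Lib.U33Recog
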