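import Cfsg.Agent.Lib.U33Recog.Model

/-! The exhaustive searches for the models 0 and 1. -/

set_option autoImplicit false
set_option maxRecDepth 100000
set_option Elab.async false

namespace Cfsg.Agent.Lib.U33Recog.Model

theorem search0_0 : searchOK 0 0x398a418820 27 start = true := by decide +kernel

theorem search0_1 : searchOK 0 0x288e409860 27 start = true := by decide +kernel

theorem search0_2 : searchOK 0 0x19824388a0 27 start = true := by decide +kernel

theorem search0_3 : searchOK 0 0x8864298e0 27 start = true := by decide +kernel

theorem theta0 : checkTheta 0 = true := by decide +kernel

theorem check0 : checkModel 0 = true := by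
  simp only [checkModel, thsD, List.getD_cons_succ, List.getD_cons_zero, List.all_cons, List.all_nil,
    Bool.and_true, search0_0, search0_1, search0_2, search0_3]

theorem search1_0 : searchOK 1 0x398a418820 27 start = true := by decide +kernel

theorem search1_1 : searchOK 1 0x3984321420 27 start = true := by decide +kernel

theorem search1_2 : searchOK 1 0x394c320440 27 start = true := by decide +kernel

theorem search1_3 : searchOK 1 0x38823218a0 27 start = true := by decide +kernel

theorem search1_4 : searchOK 1 0x384a3208c0 27 start = true := by decide +kernel

theorem search1_5 : searchOK 1 0x38444194c0 27 start = true := by decide +kernel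

theorem theta1 : checkTheta 1 = true := by decide +kernel

theorem check1 : checkModel 1 = true := by
  simp only [checkModel, thsD, List.getD_cons_succ, List.getD_cons_zero, List.all_cons, List.all_nil,
    Bool.and_true, search1_0, search1_1, search1_2, search1_3, search1_4, search1_5]

end Cfsg.Agent.Lib.U33Recog.Model
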