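import Cfsg.Agent.Lib.U33Recog.Model

/-! The exhaustive searches for the models 2 and 3. -/

set_option autoImplicit false
set_option maxRecDepth 100000
set_option Elab.async false

namespace Cfsg.Agent.Lib.U33Recog.Model

theorem search2_0 : searchOK 2 0x398a418820 27 start = true := by decide +kernel

theorem search2_1 : searchOK 2 0x1188519c20 27 start = true := by decide +kernel

theorem search2_2 : searchOK 2 0x31c8518440 27 start = true := by decide +kernel

theorem search2_3 : searchOK 2 0x114c119c80 27 start = true := by decide +kernel

theorem search2_4 : searchOK 2 0x1102619ca0 27 start = true := by decide +kernel

theorem search2_5 : searchOK 2 0x38485188c0 27 start = true := by decide +kernel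

theorem search2_6 : searchOK 2 0x284e2190c0 27 start = true := by decide +kernel

theorem search2_7 : searchOK 2 0x20447194c0 27 start = true := by decide +kernel

theorem search2_8 : searchOK 2 0x104a419cc0 27 start = true := by decide +kernel

theorem search2_9 : searchOK 2 0x8885198e0 27 start = true := by decide +kernel

theorem theta2 : checkTheta 2 = true := by decide +kernel

theorem check2 : checkModel 2 = true := by
  simp only [checkModel, thsD, List.getD_cons_succ, List.getD_cons_zero, List.all_cons, List.all_nil,
    Bool.and_true, search2_0, search2_1, search2_2, search2_3, search2_4, search2_5, search2_6, search2_7, search2_8, search2_9]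

theorem search3_0 : searchOK 3 0x398a418820 27 start = true := by decide +kernel

theorem search3_1 : searchOK 3 0x288e409860 27 start = true := by decide +kernel

theorem search3_2 : searchOK 3 0x19824388a0 27 start = true := by decide +kernel

theorem search3_3 : searchOK 3 0x8864298e0 27 start = true := by decide +kernel

theorem theta3 : checkTheta 3 = true := by decide +kernel

theorem check3 : checkModel 3 = true := by
  simp only [checkModel, thsD, List.getD_cons_succ, List.getD_cons_zero, List.all_cons, List.all_nil,
    Bool.and_true, search3_0, search3_1, search3_2, search3_3]

end Cfsg.Agent.Lib.U33Recog.Model
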