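import Cfsg.Agent.Lib.U33Recog.Model

/-! The exhaustive searches for the models 4 and 5. -/

set_option autoImplicit false
set_option maxRecDepth 100000
set_option Elab.async false

namespace Cfsg.Agent.Lib.U33Recog.Model

theorem search4_0 : searchOK 4 0x398a418820 27 start = true := by decide +kernel

theorem search4_1 : searchOK 4 0x3984321420 27 start = true := by decide +kernel

theorem search4_2 : searchOK 4 0x394c320440 27 start = true := by decide +kernel

theorem search4_3 : searchOK 4 0x38823218a0 27 start = true := by decide +kernel

theorem search4_4 : searchOK 4 0x384a3208c0 27 start = true := by decide +kernel

theorem search4_5 : searchOK 4 0x38444194c0 27 start = true := by decide +kernel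

theorem theta4 : checkTheta 4 = true := by decide +kernel

theorem check4 : checkModel 4 = true := by
  simp only [checkModel, thsD, List.getD_cons_succ, List.getD_cons_zero, List.all_cons, List.all_nil,
    Bool.and_true, search4_0, search4_1, search4_2, search4_3, search4_4, search4_5]

theorem search5_0 : searchOK 5 0x398a418820 27 start = true := by decide +kernel

theorem search5_1 : searchOK 5 0x1188519c20 27 start = true := by decide +kernel

theorem search5_2 : searchOK 5 0x31c8518440 27 start = true := by decide +kernel

theorem search5_3 : searchOK 5 0x114c119c80 27 start = true := by decide +kernel

theorem search5_4 : searchOK 5 0x1102619ca0 27 start = true := by decide +kernel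

theorem search5_5 : searchOK 5 0x38485188c0 27 start = true := by decide +kernel

theorem search5_6 : searchOK 5 0x284e2190c0 27 start = true := by decide +kernel

theorem search5_7 : searchOK 5 0x20447194c0 27 start = true := by decide +kernel

theorem search5_8 : searchOK 5 0x104a419cc0 27 start = true := by decide +kernel

theorem search5_9 : searchOK 5 0x8885198e0 27 start = true := by decide +kernel

theorem theta5 : checkTheta 5 = true := by decide +kernel

theorem check5 : checkModel 5 = true := by
  simp only [checkModel, thsD, List.getD_cons_succ, List.getD_cons_zero, List.all_cons, List.all_nil,
    Bool.and_true, search5_0, search5_1, search5_2, search5_3, search5_4, search5_5, search5_6, search5_7, search5_8, search5_9]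

end Cfsg.Agent.Lib.U33Recog.Model
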