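import Cfsg.Agent.Lib.U33Recog.Spec
import Cfsg.Agent.Lib.U33Recog.CheckA
import Cfsg.Agent.Lib.U33Recog.CheckB
import Cfsg.Agent.Lib.U33Recog.CheckC

/-!
Groups acting on 28 points according to one of the coded models are all isomorphic.
-/

set_option autoImplicit false
set_option maxRecDepth 100000

namespace Cfsg.Agent.Lib.U33Recog

open Model

theorem mulC_lt : allB 2 (fun h => allB 27 fun x => allB 27 fun y =>
    Nat.blt (mulC (Nat.beq h 1) x y) 27 &&
      Nat.beq (mulC (Nat.beq h 1) (invC (Nat.beq h 1) x) (mulC (Nat.beq h 1) x y)) y &&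
      Nat.beq (mulC (Nat.beq h 1) x 0) x && Nat.beq (mulC (Nat.beq h 1) 0 x) x) = true := by
  decide +kernel

theorem mulC_facts (h : Bool) {x y : ℕ} (hx : x < 27) (hy : y < 27) :
    mulC h x y < 27 ∧ mulC h (invC h x) (mulC h x y) = y ∧ mulC h x 0 = x ∧ mulC h 0 x = x := by
  obtain ⟨k, hk, rfl⟩ : ∃ k < 2, Nat.beq k 1 = h := by
    cases h
    exacts [⟨0, by norm_num, rfl⟩, ⟨1, by norm_num, rfl⟩]
  have := allB_iff.1 (allB_iff.1 (allB_iff.1 mulC_lt k hk) x hx) y hy
  simp only [Bool.and_eq_true, Nat.blt_eq] at this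
  exact ⟨this.1.1.1, Nat.eq_of_beq_eq_true this.1.1.2, Nat.eq_of_beq_eq_true this.1.2,
    Nat.eq_of_beq_eq_true this.2⟩

theorem invC_lt (h : Bool) {x : ℕ} (hx : x < 27) : invC h x < 27 := (mulC_facts h hx hx).1

/-- fix the last point -/
def hF (m i x : ℕ) : ℕ := cond (Nat.beq x 27) 27 (hs m i x)

theorem hF_of_lt {m i x : ℕ} (hx : x < 27) : hF m i x = hs m i x := by
  rw [hF, show Nat.beq x 27 = false from Bool.eq_false_iff.2 fun e => by
    have := Nat.eq_of_beq_eq_true e; omega]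
  rfl

theorem lF_of_lt {h : Bool} {a x : ℕ} (hx : x < 27) : lF h a x = mulC h a x := by
  rw [lF, show Nat.beq x 27 = false from Bool.eq_false_iff.2 fun e => by
    have := Nat.eq_of_beq_eq_true e; omega]
  rfl

theorem lF_last {h : Bool} {a : ℕ} : lF h a 27 = 27 := rfl

/-- A faithful action on 28 points following the model `m`. -/
structure Data (T : Type*) [Group T] (m : ℕ) where
  /-- the action -/
  ρ : T →* Equiv.Perm (Fin 28)
  inj : Function.Injective ρ
  hm : m < 6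
  /-- the regular normal subgroup -/
  aP : Fin 27 → T
  aP_apply : ∀ (k : Fin 27) (x : Fin 28), (ρ (aP k) x).val = lF (heis m) k.val x.val
  /-- the two-point stabiliser -/
  hH : Fin 8 → T
  hH_apply : ∀ (i : Fin 8) (x : Fin 28), (ρ (hH i) x).val = hF m i.val x.val
  /-- the exchanging element -/
  w : T
  w_invol : w * w = 1
  w_zero : ρ w 0 = Fin.last 27
  stab : ∀ g : T, ρ g (Fin.last 27) = Fin.last 27 → ∃ k i, g = aP k * hH i
  gen : Subgroup.closure (Set.range aP ∪ Set.range hH ∪ {w}) = ⊤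

namespace Data

variable {T : Type*} [Group T] {m : ℕ} (D : Data T m)

/-- the values of the exchanging element -/
def sig (x : ℕ) : ℕ :=
  if x = 0 then 0 else if h : x < 28 then (D.ρ D.w ⟨x, h⟩).val else 0

theorem w_last : D.ρ D.w (Fin.last 27) = 0 := by
  rw [← D.w_zero, ← Equiv.Perm.mul_apply, ← map_mul, D.w_invol, map_one]; rfl

theorem w_w (x : Fin 28) : D.ρ D.w (D.ρ D.w x) = x := by
  rw [← Equiv.Perm.mul_apply, ← map_mul, D.w_invol, map_one]; rfl

theorem sig_eq {x : ℕ} (h0 : 0 < x) (hx : x < 27) :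
    (D.ρ D.w ⟨x, by omega⟩).val = D.sig x ∧ 0 < D.sig x ∧ D.sig x < 27 := by
  have e : (D.ρ D.w ⟨x, by omega⟩).val = D.sig x := by
    rw [sig, if_neg (by omega), dif_pos (show x < 28 by omega)]
  refine ⟨e, ?_, ?_⟩
  · rw [← e]
    by_contra hn
    have h : D.ρ D.w ⟨x, by omega⟩ = 0 := Fin.ext (by simp only [Fin.val_zero]; omega)
    have h2 := congrArg Fin.val (congrArg (D.ρ D.w) h)
    rw [D.w_w, D.w_zero] at h2
    simp at h2
    omega
  · rw [← e]
    by_contra hn
    have h : D.ρ D.w ⟨x, by omega⟩ = Fin.last 27 := Fin.ext (by simp only [Fin.val_last]; omega)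
    have h2 := congrArg Fin.val (congrArg (D.ρ D.w) h)
    rw [D.w_w, D.w_last] at h2
    simp at h2
    omega

theorem sig_zero : D.sig 0 = 0 := if_pos rfl

theorem sig_lt {x : ℕ} (hx : x < 27) : D.sig x < 27 := by
  rcases Nat.eq_zero_or_pos x with rfl | h0
  · rw [D.sig_zero]; exact hx
  · exact (D.sig_eq h0 hx).2.2

theorem sig_sig {x : ℕ} (hx : x < 27) : D.sig (D.sig x) = x := by
  rcases Nat.eq_zero_or_pos x with rfl | h0
  · rw [D.sig_zero, D.sig_zero]
  · obtain ⟨e, h1, h2⟩ := D.sig_eq h0 hx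
    obtain ⟨e', -, -⟩ := D.sig_eq h1 h2
    rw [← e', show (⟨D.sig x, by omega⟩ : Fin 28) = D.ρ D.w ⟨x, by omega⟩ from Fin.ext e.symm, D.w_w]

theorem exists_theta (i : Fin 8) : ∃ j : Fin 8, D.w * D.hH i * D.w = D.hH j := by
  have hfix : ∀ x : Fin 28, x = 0 ∨ x = Fin.last 27 → D.ρ (D.hH i) x = x := by
    rintro x (rfl | rfl) <;> apply Fin.ext <;> rw [D.hH_apply]
    · rw [Fin.val_zero, hF_of_lt (by norm_num), hs_zero D.hm i.2]
    · rfl
  obtain ⟨k, j, e⟩ := D.stab (D.w * D.hH i * D.w) (by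
    simp only [map_mul, Equiv.Perm.mul_apply]
    rw [D.w_last, hfix 0 (Or.inl rfl), D.w_zero])
  have h0 : (D.ρ (D.w * D.hH i * D.w) 0).val = 0 := by
    simp only [map_mul, Equiv.Perm.mul_apply]
    rw [D.w_zero, hfix _ (Or.inr rfl), D.w_last, Fin.val_zero]
  rw [e, map_mul, Equiv.Perm.mul_apply, D.aP_apply, D.hH_apply, Fin.val_zero, hF_of_lt (by norm_num),
    hs_zero D.hm j.2, lF_of_lt (by norm_num), (mulC_facts _ k.2 k.2).2.2.1] at h0
  refine ⟨j, ?_⟩
  rw [e]
  have h1 : D.aP k = 1 := by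
    refine D.inj (Equiv.ext fun x => Fin.ext ?_)
    rw [map_one, Equiv.Perm.one_apply, D.aP_apply, h0]
    by_cases hx : x.val < 27
    · rw [lF_of_lt hx, (mulC_facts _ hx hx).2.2.2]
    · rw [show x.val = 27 by omega, lF_last]
  rw [h1, one_mul]

/-- the automorphism of the two-point stabiliser induced by the exchanging element -/
noncomputable def th (i : Fin 8) : Fin 8 := (D.exists_theta i).choose

theorem th_spec (i : Fin 8) : D.w * D.hH i * D.w = D.hH (D.th i) := (D.exists_theta i).choose_spec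

theorem hH_injective : Function.Injective D.hH := fun i j h => Fin.ext (hs_inj D.hm i.2 j.2 fun x hx => by
  have := congrArg (fun g => (D.ρ g ⟨x, by omega⟩).val) h
  simpa [D.hH_apply, hF_of_lt hx] using this)

theorem th_th (i : Fin 8) : D.th (D.th i) = i := by
  apply D.hH_injective
  rw [← D.th_spec, ← D.th_spec, ← mul_assoc, ← mul_assoc, D.w_invol, one_mul, mul_assoc, D.w_invol,
    mul_one]

theorem comm (i : Fin 8) {x : ℕ} (hx : x < 27) :
    D.sig (hs m i.val x) = hs m (D.th i).val (D.sig x) := by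
  rcases Nat.eq_zero_or_pos x with rfl | h0
  · rw [hs_zero D.hm i.2, D.sig_zero, hs_zero D.hm (D.th i).2]
  have hy := hs_lt D.hm i.2 hx
  have hy0 : 0 < hs m i.val x := by
    by_contra hn
    have e : D.ρ (D.hH i) ⟨x, by omega⟩ = D.ρ (D.hH i) 0 := Fin.ext (by
      rw [D.hH_apply, D.hH_apply, hF_of_lt hx, Fin.val_zero, hF_of_lt (by norm_num), hs_zero D.hm i.2]
      omega)
    have := congrArg Fin.val ((D.ρ (D.hH i)).injective e)
    simp at this
    omega
  obtain ⟨e1, -, h12⟩ := D.sig_eq h0 hx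
  obtain ⟨e2, -, -⟩ := D.sig_eq hy0 hy
  have key : D.w * D.hH i = D.hH (D.th i) * D.w := by
    rw [← D.th_spec, mul_assoc, D.w_invol, mul_one]
  have := congrArg (fun g => (D.ρ g ⟨x, by omega⟩).val) key
  simp only [map_mul, Equiv.Perm.mul_apply] at this
  rw [D.hH_apply, show (D.ρ (D.hH i) ⟨x, by omega⟩) = (⟨hs m i.val x, by omega⟩ : Fin 28) from
    Fin.ext (by rw [D.hH_apply, hF_of_lt hx]), e2, e1, hF_of_lt h12] at this
  exact this

theorem theta_eq (i : Fin 8) :
    theta m (D.th ⟨gen1 m, gen1_lt D.hm⟩).val (D.th ⟨gen2 m, gen2_lt D.hm⟩).val i.val = (D.th i).val := by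
  set u := (D.th ⟨gen1 m, gen1_lt D.hm⟩).val
  set v := (D.th ⟨gen2 m, gen2_lt D.hm⟩).val
  have hw : ∀ (l : List ℕ) (x : ℕ), x < 27 →
      D.sig (wordApp m (gen1 m) (gen2 m) l x) = wordApp m u v l (D.sig x) := by
    intro l
    induction l with
    | nil => intro x _; rfl
    | cons k l ih =>
      intro x hx
      have hlt := wordApp_lt D.hm (gen1_lt D.hm) (gen2_lt D.hm) l hx
      rw [wordApp, wordApp, ← ih x hx]
      cases Nat.beq k 0
      · exact D.comm ⟨gen2 m, gen2_lt D.hm⟩ hlt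
      · exact D.comm ⟨gen1 m, gen1_lt D.hm⟩ hlt
  have key : ∀ y < 27, hs m (D.th i).val y = wordApp m u v ((wordsD.getD m []).getD i.val []) y := by
    intro y hy
    have h1 := D.comm i (D.sig_lt hy)
    rw [hs_word D.hm i.2 (D.sig_lt hy), hw _ _ (D.sig_lt hy), D.sig_sig hy] at h1
    exact h1.symm
  obtain ⟨h1, h2⟩ := findB_spec (d := 8) (n := 8)
    (p := fun j => allB 27 fun x => Nat.beq (hs m j x) (wordApp m u v ((wordsD.getD m []).getD i.val []) x))
    ⟨(D.th i).val, (D.th i).2, allB_iff.2 fun x hx => by rw [key x hx]; exact Nat.beq_refl _⟩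
  refine hs_inj D.hm h1 (D.th i).2 fun x hx => ?_
  rw [key x hx]
  exact Nat.eq_of_beq_eq_true (allB_iff.1 h2 x hx)

theorem exists_code : ∃ th ∈ thsD.getD m [], checkModel m = true ∧ ∀ i : Fin 8, tbl th i.val = (D.th i).val := by
  set u := (D.th ⟨gen1 m, gen1_lt D.hm⟩)
  set v := (D.th ⟨gen2 m, gen2_lt D.hm⟩)
  have hok : thetaOK m u.val v.val = true := by
    refine allB_iff.2 fun i hi => ?_
    rw [D.theta_eq ⟨i, hi⟩, D.theta_eq, D.th_th]
    simp [Nat.blt]
  obtain ⟨h1, h2⟩ : checkModel m = true ∧ checkTheta m = true := by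
    have h := D.hm
    clear hok u v
    rcases m with _ | _ | _ | _ | _ | _ | m
    exacts [⟨check0, theta0⟩, ⟨check1, theta1⟩, ⟨check2, theta2⟩, ⟨check3, theta3⟩, ⟨check4, theta4⟩,
      ⟨check5, theta5⟩, absurd h (by omega)]
  have h := allB_iff.1 (allB_iff.1 h2 u.val u.2) v.val v.2
  rw [hok, Bool.not_true, Bool.false_or] at h
  obtain ⟨th, hth, he⟩ := List.any_eq_true.1 h
  exact ⟨th, hth, h1, fun i => (Nat.eq_of_beq_eq_true (allB_iff.1 he i.val i.2)).trans (D.theta_eq i)⟩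

theorem real {th : ℕ} (hth : ∀ i : Fin 8, tbl th i.val = (D.th i).val) : Real m th D.sig where
  zero := D.sig_zero
  pos x h0 hx := ⟨(D.sig_eq h0 hx).2.1, (D.sig_eq h0 hx).2.2⟩
  invol x hx := D.sig_sig hx
  th_lt i hi := by rw [hth ⟨i, hi⟩]; exact Fin.isLt _
  comm i hi x hx := by rw [hth ⟨i, hi⟩]; exact D.comm ⟨i, hi⟩ hx

variable {s : ℕ} (hs' : ∀ x < 27, tbl s x = D.sig x)
include hs'

theorem wF_code (x : Fin 28) : wF s x.val = (D.ρ D.w x).val := by
  rw [wF]
  by_cases h27 : x.val = 27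
  · rw [show x = Fin.last 27 from Fin.ext h27, D.w_last]; rfl
  rw [show Nat.beq x.val 27 = false from Bool.eq_false_iff.2 fun e => h27 (Nat.eq_of_beq_eq_true e),
    cond_false]
  by_cases h0 : x.val = 0
  · rw [show x = 0 from Fin.ext h0, D.w_zero]; rfl
  rw [show Nat.beq x.val 0 = false from Bool.eq_false_iff.2 fun e => h0 (Nat.eq_of_beq_eq_true e),
    cond_false, hs' _ (by omega)]
  exact (D.sig_eq (by omega) (by omega)).1.symm

theorem valid_code : valid m s = true := by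
  refine allB_iff.2 fun a ha => ?_
  show anyB 8 (fun i => allB 27 fun x => Nat.beq (lF (heis m) (invC (heis m) (gF m s (a + 1) 0))
    (gF m s (a + 1) x)) (hs m i x)) = true
  obtain ⟨e, h1, h2⟩ := D.sig_eq (Nat.succ_pos a) (show a + 1 < 27 by omega)
  set g := D.w * D.aP ⟨invC (heis m) (D.sig (a + 1)), invC_lt _ h2⟩ * D.w * D.aP ⟨a + 1, by omega⟩ * D.w
  have hg : ∀ x : Fin 28, (D.ρ g x).val = gF m s (a + 1) x.val := by
    intro x
    simp only [g, map_mul, Equiv.Perm.mul_apply]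
    rw [gF, hs' _ (by omega), ← D.wF_code hs', D.aP_apply, ← D.wF_code hs', D.aP_apply, ← D.wF_code hs']
  obtain ⟨k, i, hki⟩ := D.stab g (Fin.ext (by
    rw [hg, gF, hs' _ (by omega)]
    have e1 : wF s (Fin.last 27).val = 0 := rfl
    have e2 : wF s (a + 1) = D.sig (a + 1) := (D.wF_code hs' ⟨a + 1, by omega⟩).trans e
    have h0' : lF (heis m) (a + 1) 0 = mulC (heis m) (a + 1) 0 := lF_of_lt (by norm_num)
    rw [e1, h0', (mulC_facts _ (show a + 1 < 27 by omega) (show a + 1 < 27 by omega)).2.2.1,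
      e2, lF_of_lt h2]
    have e3 : mulC (heis m) (invC (heis m) (D.sig (a + 1))) (D.sig (a + 1)) = 0 := by
      have := (mulC_facts (heis m) h2 (show 0 < 27 by norm_num)).2.1
      rwa [(mulC_facts (heis m) h2 h2).2.2.1] at this
    rw [e3]
    rfl))
  have hg' : ∀ x : ℕ, x < 27 → gF m s (a + 1) x = mulC (heis m) k.val (hs m i.val x) := by
    intro x hx
    have := hg ⟨x, by omega⟩
    rw [hki, map_mul, Equiv.Perm.mul_apply, D.aP_apply, D.hH_apply, hF_of_lt hx,
      lF_of_lt (hs_lt D.hm i.2 hx)] at this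
    exact this.symm
  refine anyB_iff.2 ⟨i.val, i.2, allB_iff.2 fun x hx => ?_⟩
  rw [hg' 0 (by norm_num), hs_zero D.hm i.2, (mulC_facts _ k.2 k.2).2.2.1, hg' x hx,
    lF_of_lt (mulC_facts _ k.2 (hs_lt D.hm i.2 hx)).1, (mulC_facts _ k.2 (hs_lt D.hm i.2 hx)).2.1]
  exact Nat.beq_refl _

omit hs'

theorem classify : m = 3 ∧ ((∀ x < 27, tbl sol0 x = D.sig x) ∨ ∀ x < 27, tbl sol1 x = D.sig x) := by
  obtain ⟨th, hmem, hchk, hth⟩ := D.exists_code
  refine searchOK_spec D.hm (D.real hth) (fun s hs => D.valid_code hs) 27 start ⟨rfl, fun x hx => ?_⟩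
    (List.all_eq_true.1 hchk th hmem)
  rcases Nat.eq_zero_or_pos x with rfl | h0
  · right; rw [D.sig_zero]; rfl
  · left; interval_cases x <;> rfl

end Data

end Cfsg.Agent.Lib.U33Recog
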