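import Cfsg.Agent.Lib.U33Recog.Stab
import Cfsg.Agent.Lib.U33Recog.Frame
import Cfsg.Agent.Lib.U33Recog.Perm28

/-!
From coordinates in `P` and two generators of the two-point stabiliser to an action following a
coded model.
-/

set_option autoImplicit false
set_option linter.unusedSectionVars false

namespace Cfsg.Agent.Lib.U33Recog

open Subgroup Model
open Cfsg.Agent.Lib.SmallGroups

variable {T : Type*} [Group T] [Finite T]

namespace Hyp

variable (hT : Hyp T) (h28 : Nat.card (Sylow 3 T) = 28)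
include hT h28

theorem exists_swap {P Q : Sylow 3 T} (hne : Q ≠ P) : ∃ w : T, w * w = 1 ∧ w • P = Q ∧ w • Q = P := by
  haveI := three_prime
  obtain ⟨u, -, hu⟩ := exists_involution (T := T) (H := ⊤) (by rw [Subgroup.card_top, hT.card]; norm_num)
  have hu1 : u ≠ 1 := fun e => by rw [e, orderOf_one] at hu; omega
  have huu : u * u = 1 := by rw [← pow_two, ← hu, pow_orderOf_eq_one]
  obtain ⟨R, hR⟩ : ∃ R : Sylow 3 T, u • R ≠ R := by
    by_contra hc
    push Not at hc
    exact hu1 (hT.faithful h28 hc)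
  obtain ⟨g, hg⟩ := MulAction.exists_smul_eq T R P
  have hgu : g • u • R ≠ P := fun e => hR (smul_left_cancel g (e.trans hg.symm))
  obtain ⟨x, hx, hxQ⟩ := hT.reg_surj h28 hne hgu
  set g' := x⁻¹ * g with hg'
  have e1 : g' • R = P := by
    rw [hg', mul_smul, hg]; exact mem_Nm_sylow.1 (inv_mem (Subgroup.le_normalizer hx))
  have e2 : g' • u • R = Q := by rw [hg', mul_smul, ← hxQ, inv_smul_smul]
  refine ⟨g' * u * g'⁻¹, ?_, ?_, ?_⟩
  · rw [show g' * u * g'⁻¹ * (g' * u * g'⁻¹) = g' * (u * u) * g'⁻¹ by group, huu, mul_one, mul_inv_cancel]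
  · rw [← e1, mul_smul, mul_smul, inv_smul_smul, e2]
  · rw [← e2, mul_smul, mul_smul, inv_smul_smul, ← mul_smul u u, huu, one_smul, e1]

/-- `N(P)` and an element exchanging two points generate. -/
theorem closure_eq_top {P Q : Sylow 3 T} (hne : Q ≠ P) {w : T} (hwP : w • P = Q) {K : Subgroup T}
    (hN : Nm (P : Subgroup T) ≤ K) (hw : w ∈ K) : K = ⊤ := by
  haveI := three_prime
  by_contra hK
  have h216 := hT.card_Nm_216 h28 P
  have hlt : Nat.card (Nm (P : Subgroup T)) < Nat.card K := lt_of_le_of_ne (Subgroup.card_le_of_le hN) fun e => by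
    have := Subgroup.eq_of_le_of_card_ge hN e.ge
    exact hne (hwP ▸ mem_Nm_sylow.1 (this ▸ hw))
  have hd := Subgroup.card_dvd_of_le hN
  have hle := hT.card_proper hK
  have hd' := hT.card_dvd K
  rw [h216] at hlt hd
  have h432 : Nat.card K = 432 := by
    obtain ⟨k, hk⟩ := hd
    rw [hk] at hd' hle hlt ⊢
    have hk2 : k ≤ 3 := by omega
    interval_cases k <;> first | omega | (norm_num at hd')
  haveI : ((Nm (P : Subgroup T)).subgroupOf K).Normal := Subgroup.normal_of_index_eq_two (by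
    have h1 := Subgroup.card_mul_index ((Nm (P : Subgroup T)).subgroupOf K)
    rw [Nat.card_congr (subgroupOfEquivOfLe hN).toEquiv, h216, h432] at h1
    omega)
  have hQN : (Q : Subgroup T) ≤ Nm (P : Subgroup T) := by
    rw [← hwP, sylow_le_iff_conj]
    rintro _ ⟨y, hy, rfl⟩
    exact Subgroup.Normal.conj_mem ‹((Nm (P : Subgroup T)).subgroupOf K).Normal› ⟨y, hN (Subgroup.le_normalizer hy)⟩
      (Subgroup.le_normalizer hy) ⟨w, hw⟩
  exact hne (Sylow.ext (Subgroup.eq_of_le_of_card_ge (le_sylow_of_le_Nm P.2 hQN)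
    (by rw [hT.card_sylow, hT.card_sylow])).symm)

/-- Coordinates and two generators of the stabiliser give an action following a model. -/
theorem exists_data {P Q : Sylow 3 T} (hne : Q ≠ P) {m : ℕ} (hm : m < 6) (F : Frame T (heis m))
    (hFP : ∀ x, F.Ψ x ∈ (P : Subgroup T))
    (hinj : ∀ x < 27, ∀ y < 27, F.Ψ x = F.Ψ y → x = y)
    {g1 g2 : T} (hg1 : g1 ∈ stabH P Q) (hg2 : g2 ∈ stabH P Q)
    (h1 : g1 * F.e1 * g1⁻¹ = F.Ψ (hs m (gen1 m) 1) ∧ g1 * F.e2 * g1⁻¹ = F.Ψ (hs m (gen1 m) 3) ∧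
      g1 * F.z * g1⁻¹ = F.Ψ (hs m (gen1 m) 9))
    (h2 : g2 * F.e1 * g2⁻¹ = F.Ψ (hs m (gen2 m) 1) ∧ g2 * F.e2 * g2⁻¹ = F.Ψ (hs m (gen2 m) 3) ∧
      g2 * F.z * g2⁻¹ = F.Ψ (hs m (gen2 m) 9)) :
    Nonempty (Data T m) := by
  classical
  haveI := three_prime
  haveI := Fintype.ofFinite (Sylow 3 T)
  -- the generators act as coded
  have hgen : ∀ (g : T) (k : ℕ), (k = gen1 m ∨ k = gen2 m) → k < 8 →
      (g * F.e1 * g⁻¹ = F.Ψ (hs m k 1) ∧ g * F.e2 * g⁻¹ = F.Ψ (hs m k 3) ∧ g * F.z * g⁻¹ = F.Ψ (hs m k 9)) →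
      ∀ x < 27, g * F.Ψ x * g⁻¹ = F.Ψ (hs m k x) := by
    intro g k hk hk8 ⟨ha, hb, hc⟩ x hx
    rw [hs_lin hm hx hk]
    exact F.map_Ψ (MulAut.conj g).toMonoidHom (hs_lt hm hk8 (by norm_num)) (hs_lt hm hk8 (by norm_num))
      (hs_lt hm hk8 (by norm_num)) ha hb hc x
  let el : List ℕ → T := fun l => l.foldr (fun k a => (cond (Nat.beq k 0) g1 g2) * a) 1
  have hel : ∀ l : List ℕ, el l ∈ stabH P Q ∧ ∀ x < 27, el l * F.Ψ x * (el l)⁻¹ =
      F.Ψ (wordApp m (gen1 m) (gen2 m) l x) := by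
    intro l
    induction l with
    | nil => exact ⟨one_mem _, fun x _ => by simp [el, wordApp]⟩
    | cons k l ih =>
      have hlt : ∀ x < 27, wordApp m (gen1 m) (gen2 m) l x < 27 := fun x hx =>
        wordApp_lt hm (gen1_lt hm) (gen2_lt hm) l hx
      refine ⟨mul_mem ?_ ih.1, fun x hx => ?_⟩
      · cases Nat.beq k 0
        exacts [hg2, hg1]
      · show cond (Nat.beq k 0) g1 g2 * el l * F.Ψ x * (cond (Nat.beq k 0) g1 g2 * el l)⁻¹ = _
        rw [mul_inv_rev, show ∀ a b c : T, a * b * c * (b⁻¹ * a⁻¹) = a * (b * c * b⁻¹) * a⁻¹ from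
          fun a b c => by group, ih.2 x hx, wordApp]
        cases Nat.beq k 0
        · exact hgen g2 _ (Or.inr rfl) (gen2_lt hm) h2 _ (hlt x hx)
        · exact hgen g1 _ (Or.inl rfl) (gen1_lt hm) h1 _ (hlt x hx)
  let hH : Fin 8 → T := fun i => el ((wordsD.getD m []).getD i.val [])
  have hHmem : ∀ i, hH i ∈ stabH P Q := fun i => (hel _).1
  have hHconj : ∀ (i : Fin 8), ∀ x < 27, hH i * F.Ψ x * (hH i)⁻¹ = F.Ψ (hs m i.val x) := fun i x hx => by
    rw [hs_word hm i.2 hx]; exact (hel _).2 x hx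
  have hHinj : Function.Injective hH := fun a b e => Fin.ext (hs_inj hm a.2 b.2 fun x hx => by
    refine hinj _ (hs_lt hm a.2 hx) _ (hs_lt hm b.2 hx) ?_
    rw [← hHconj a x hx, ← hHconj b x hx, e])
  have hHsurj : ∀ h ∈ stabH P Q, ∃ i, hH i = h := by
    have hb : Function.Bijective (fun i => (⟨hH i, hHmem i⟩ : stabH P Q)) :=
      Function.Injective.bijective_of_nat_card_le (fun a b e => hHinj (congrArg Subtype.val e))
        (by rw [hT.card_stabH h28 hne, Nat.card_eq_fintype_card, Fintype.card_fin])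
    intro h hh
    obtain ⟨i, hi⟩ := hb.2 ⟨h, hh⟩
    exact ⟨i, congrArg Subtype.val hi⟩
  let aP : Fin 27 → T := fun k => F.Ψ k.val
  have hPsurj : ∀ x ∈ (P : Subgroup T), ∃ k, aP k = x := by
    have hb : Function.Bijective (fun k => (⟨aP k, hFP _⟩ : (P : Subgroup T))) :=
      Function.Injective.bijective_of_nat_card_le
        (fun a b e => Fin.ext (hinj _ a.2 _ b.2 (congrArg Subtype.val e)))
        (by rw [hT.card_sylow, Nat.card_eq_fintype_card, Fintype.card_fin])
    intro x hx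
    obtain ⟨i, hi⟩ := hb.2 ⟨x, hx⟩
    exact ⟨i, congrArg Subtype.val hi⟩
  -- the points
  let ι : Fin 28 → Sylow 3 T := fun k => if k.val = 27 then P else F.Ψ k.val • Q
  have hι0 : ∀ k : Fin 28, k.val < 27 → ι k = F.Ψ k.val • Q := fun k hk => if_neg (by omega)
  have hι1 : ι (Fin.last 27) = P := if_pos rfl
  have hιne : ∀ x, F.Ψ x • Q ≠ P := fun x => hT.smul_ne h28 (Subgroup.le_normalizer (hFP x)) hne
  have hι : Function.Bijective ι := by
    refine Function.Injective.bijective_of_nat_card_le (fun a b e => ?_)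
      (by rw [h28, Nat.card_eq_fintype_card, Fintype.card_fin])
    by_cases ha : a.val = 27 <;> by_cases hb : b.val = 27
    · exact Fin.ext (ha.trans hb.symm)
    · simp only [ι, if_pos ha, if_neg hb] at e
      exact absurd e.symm (hιne _)
    · simp only [ι, if_neg ha, if_pos hb] at e
      exact absurd e (hιne _)
    · simp only [ι, if_neg ha, if_neg hb] at e
      exact Fin.ext (hinj _ (by omega) _ (by omega) (hT.reg_inj h28 hne (hFP _) (hFP _) e))
  let eι := Equiv.ofBijective ι hι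
  let ρ : T →* Equiv.Perm (Fin 28) :=
    eι.symm.permCongrHom.toMonoidHom.comp (MulAction.toPermHom T (Sylow 3 T))
  have hρ : ∀ (g : T) (x : Fin 28), ι (ρ g x) = g • ι x := by
    intro g x
    show eι (eι.symm (g • eι x)) = _
    rw [Equiv.apply_symm_apply]
    rfl
  have hρv : ∀ (g : T) (x y : Fin 28), g • ι x = ι y → ρ g x = y := fun g x y e =>
    hι.1 (by rw [hρ, e])
  obtain ⟨w, hw2, hwP, hwQ⟩ := hT.exists_swap h28 hne
  refine ⟨
    { ρ := ρ
      inj := ?_
      hm := hm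
      aP := aP
      aP_apply := ?_
      hH := hH
      hH_apply := ?_
      w := w
      w_invol := hw2
      w_zero := ?_
      stab := ?_
      gen := ?_ }⟩
  · refine (injective_iff_map_eq_one ρ).2 fun g hg => hT.faithful h28 fun R => ?_
    obtain ⟨x, rfl⟩ := hι.2 R
    rw [← hρ, hg]
    rfl
  · intro k x
    by_cases hx : x.val = 27
    · rw [show x = Fin.last 27 from Fin.ext hx]
      rw [hρv (aP k) _ (Fin.last 27) (by rw [hι1]; exact mem_Nm_sylow.1 (Subgroup.le_normalizer (hFP _)))]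
      exact (lF_last).symm
    · have hx' : x.val < 27 := by omega
      have hlt := (mulC_facts (heis m) k.2 hx').1
      rw [hρv (aP k) x ⟨mulC (heis m) k.val x.val, by omega⟩ (by
        rw [hι0 x hx', hι0 _ hlt, ← mul_smul, F.Ψ_mul k.2 hx'])]
      exact (lF_of_lt hx').symm
  · intro i x
    by_cases hx : x.val = 27
    · rw [show x = Fin.last 27 from Fin.ext hx]
      rw [hρv (hH i) _ (Fin.last 27) (by rw [hι1]; exact mem_Nm_sylow.1 (hHmem i).1)]
      rfl
    · have hx' : x.val < 27 := by omega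
      have hlt := hs_lt hm i.2 hx'
      rw [hρv (hH i) x ⟨hs m i.val x.val, by omega⟩ (by
        rw [hι0 x hx', hι0 _ hlt]
        show hH i • F.Ψ x.val • Q = F.Ψ (hs m i.val x.val) • Q
        rw [← hHconj i x.val hx']
        simp only [mul_smul]
        rw [mem_Nm_sylow.1 (inv_mem (hHmem i).2)])]
      exact (hF_of_lt hx').symm
  · refine hρv w 0 (Fin.last 27) ?_
    rw [hι1, hι0 0 (by norm_num), show ((0 : Fin 28).val) = 0 from rfl, F.Ψ_zero, one_smul, hwQ]
  · intro g hg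
    have hgN : g ∈ Nm (P : Subgroup T) := by
      rw [mem_Nm_sylow, ← hι1, ← hρ, hg]
    obtain ⟨x, hx, h, hh, e⟩ := hT.decomp h28 hne hgN
    obtain ⟨k, hk⟩ := hPsurj x hx
    obtain ⟨i, hi⟩ := hHsurj h hh
    exact ⟨k, i, by rw [hk, hi, e]⟩
  · refine hT.closure_eq_top h28 hne hwP (fun g hg => ?_)
      (Subgroup.subset_closure (Set.mem_union_right _ rfl))
    obtain ⟨x, hx, h, hh, rfl⟩ := hT.decomp h28 hne hg
    obtain ⟨k, rfl⟩ := hPsurj x hx
    obtain ⟨i, rfl⟩ := hHsurj h hh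
    exact mul_mem (Subgroup.subset_closure (Set.mem_union_left _ (Set.mem_union_left _ ⟨k, rfl⟩)))
      (Subgroup.subset_closure (Set.mem_union_left _ (Set.mem_union_right _ ⟨i, rfl⟩)))

end Hyp

end Cfsg.Agent.Lib.U33Recog
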