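import Cfsg.Agent.Lib.U33Recog.Perm28

/-!
Two groups acting on 28 points according to the coded models are isomorphic.
-/

set_option autoImplicit false
set_option maxRecDepth 100000

namespace Cfsg.Agent.Lib.U33Recog

open Model

/-- the relabelling of the points carrying the first solution to the second -/
def relT : ℕ := 0xde6d3d5e98aca0d545cb7b1272050511860

/-- its inverse -/
def relI : ℕ := 0xddf54b6675c49d15b60a63d254088708cc0

/-- the induced map on the two-point stabiliser -/
def relH : ℕ := 0x288e409860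

theorem rel_inv : allB 28 (fun x => Nat.blt (tbl relT x) 28 && Nat.blt (tbl relI x) 28 &&
    Nat.beq (tbl relT (tbl relI x)) x && Nat.beq (tbl relI (tbl relT x)) x) = true := by decide +kernel

/-- the relabelling as a permutation -/
def rel : Equiv.Perm (Fin 28) where
  toFun x := ⟨tbl relT x.val, by
    have := allB_iff.1 rel_inv x.val x.2
    simp only [Bool.and_eq_true, Nat.blt_eq] at this
    exact this.1.1.1⟩
  invFun x := ⟨tbl relI x.val, by
    have := allB_iff.1 rel_inv x.val x.2
    simp only [Bool.and_eq_true, Nat.blt_eq] at this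
    exact this.1.1.2⟩
  left_inv x := Fin.ext (by
    have := allB_iff.1 rel_inv x.val x.2
    simp only [Bool.and_eq_true, Nat.blt_eq] at this
    exact Nat.eq_of_beq_eq_true this.2)
  right_inv x := Fin.ext (by
    have := allB_iff.1 rel_inv x.val x.2
    simp only [Bool.and_eq_true, Nat.blt_eq] at this
    exact Nat.eq_of_beq_eq_true this.1.2)

theorem rel_val (x : Fin 28) : (rel x).val = tbl relT x.val := rfl

theorem rel_symm_val (x : Fin 28) : (rel.symm x).val = tbl relI x.val := rfl

theorem rel_ok : (allB 27 (fun k => Nat.blt (tbl relI k) 27 && allB 28 fun x =>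
      Nat.beq (tbl relT (lF true (tbl relI k) (tbl relI x))) (lF true k x)) &&
    allB 8 (fun i => allB 28 fun x =>
      Nat.beq (tbl relT (hF 3 i (tbl relI x))) (hF 3 (tbl relH i) x)) &&
    allB 8 (fun i => Nat.blt (tbl relH i) 8 && anyB 8 fun j => Nat.beq (tbl relH j) i) &&
    allB 27 (fun x => Nat.beq (tbl relT (wF sol0 (tbl relI x))) (wF sol1 x))) = true := by decide +kernel

/-- A group with the first solution also has the second. -/
theorem exists_sol1 {T : Type*} [Group T] (D : Data T 3) :
    ∃ D' : Data T 3, ∀ x < 27, tbl sol1 x = D'.sig x := by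
  obtain ⟨-, h | h⟩ := D.classify
  swap
  · exact ⟨D, h⟩
  have hok := rel_ok
  simp only [Bool.and_eq_true] at hok
  obtain ⟨⟨⟨hP, hH⟩, hperm⟩, hw⟩ := hok
  have hh : heis 3 = true := rfl
  let c : Equiv.Perm (Fin 28) →* Equiv.Perm (Fin 28) := (MulAut.conj rel).toMonoidHom
  have hc : ∀ (g : T) (x : Fin 28), c (D.ρ g) x = rel (D.ρ g (rel.symm x)) := fun g x => rfl
  have hkI : ∀ k : Fin 27, tbl relI k.val < 27 := fun k => by
    have := allB_iff.1 hP k.val k.2
    simp only [Bool.and_eq_true, Nat.blt_eq] at this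
    exact this.1
  have hj : ∀ i : Fin 8, ∃ j : Fin 8, tbl relH j.val = i.val := fun i => by
    have := allB_iff.1 hperm i.val i.2
    simp only [Bool.and_eq_true] at this
    obtain ⟨j, hj, e⟩ := anyB_iff.1 this.2
    exact ⟨⟨j, hj⟩, Nat.eq_of_beq_eq_true e⟩
  choose q hq using hj
  let aP' : Fin 27 → T := fun k => D.aP ⟨tbl relI k.val, hkI k⟩
  let hH' : Fin 8 → T := fun i => D.hH (q i)
  have aP'_apply : ∀ (k : Fin 27) (x : Fin 28), (c (D.ρ (aP' k)) x).val = lF (heis 3) k.val x.val := by
    intro k x
    have := allB_iff.1 hP k.val k.2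
    simp only [Bool.and_eq_true] at this
    rw [hc, rel_val, D.aP_apply, rel_symm_val, hh]
    exact Nat.eq_of_beq_eq_true (allB_iff.1 this.2 x.val x.2)
  have hH'_apply : ∀ (i : Fin 8) (x : Fin 28), (c (D.ρ (hH' i)) x).val = hF 3 i.val x.val := by
    intro i x
    rw [hc, rel_val, D.hH_apply, rel_symm_val, ← hq i]
    exact Nat.eq_of_beq_eq_true (allB_iff.1 (allB_iff.1 hH (q i).val (q i).2) x.val x.2)
  have e27 : rel.symm (Fin.last 27) = Fin.last 27 := by decide +kernel
  have e0 : rel.symm 0 = 0 := by decide +kernel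
  have r27 : rel (Fin.last 27) = Fin.last 27 := by decide +kernel
  have r0 : rel 0 = 0 := by decide +kernel
  have hwz : c (D.ρ D.w) 0 = Fin.last 27 := by rw [hc, e0, D.w_zero, r27]
  have hqs : Function.Surjective q := by
    refine Finite.injective_iff_surjective.1 fun a b e => Fin.ext ?_
    rw [← hq a, ← hq b, e]
  have hIs : Function.Surjective fun k : Fin 27 => (⟨tbl relI k.val, hkI k⟩ : Fin 27) := by
    refine Finite.injective_iff_surjective.1 fun a b e => ?_
    have := rel.symm.injective (a₁ := Fin.castSucc a) (a₂ := Fin.castSucc b)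
      (Fin.ext (by simpa [rel_symm_val] using congrArg Fin.val e))
    exact Fin.castSucc_inj.1 this
  let D' : Data T 3 :=
    { ρ := c.comp D.ρ
      inj := (MulAut.conj rel).injective.comp D.inj
      hm := D.hm
      aP := aP'
      aP_apply := aP'_apply
      hH := hH'
      hH_apply := hH'_apply
      w := D.w
      w_invol := D.w_invol
      w_zero := hwz
      stab := fun g hg => by
        have hg' : rel (D.ρ g (Fin.last 27)) = Fin.last 27 := by rw [← e27]; exact (hc g _).symm.trans hg |>.trans e27.symm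
        obtain ⟨k, i, e⟩ := D.stab g (rel.injective (hg'.trans r27.symm))
        obtain ⟨k', hk'⟩ := hIs k
        obtain ⟨i', hi'⟩ := hqs i
        refine ⟨k', i', ?_⟩
        rw [e, ← hk', ← hi']
      gen := by
        have h1 : Set.range aP' = Set.range D.aP := hIs.range_comp D.aP
        have h2 : Set.range hH' = Set.range D.hH := hqs.range_comp D.hH
        rw [h1, h2]
        exact D.gen }
  refine ⟨D', fun x hx => ?_⟩
  rcases Nat.eq_zero_or_pos x with rfl | h0
  · rw [D'.sig_zero]; rfl
  obtain ⟨e, -, -⟩ := D'.sig_eq h0 hx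
  rw [← e]
  show _ = (c (D.ρ D.w) ⟨x, by omega⟩).val
  rw [hc, rel_val, ← D.wF_code h, rel_symm_val]
  have := Nat.eq_of_beq_eq_true (allB_iff.1 hw x hx)
  rw [this, wF, show Nat.beq x 27 = false from Bool.eq_false_iff.2 fun e => by
      have := Nat.eq_of_beq_eq_true e; omega, show Nat.beq x 0 = false from Bool.eq_false_iff.2 fun e => by
      have := Nat.eq_of_beq_eq_true e; omega]
  rfl

/-- Any two groups acting on 28 points according to coded models are isomorphic. -/
theorem nonempty_mulEquiv {T T' : Type*} [Group T] [Group T'] {m m' : ℕ} (A : Data T m)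
    (A' : Data T' m') : Nonempty (T ≃* T') := by
  obtain ⟨rfl, -⟩ := A.classify
  obtain ⟨rfl, -⟩ := A'.classify
  obtain ⟨D, hD⟩ := exists_sol1 A
  obtain ⟨D', hD'⟩ := exists_sol1 A'
  have hw : D.ρ D.w = D'.ρ D'.w := by
    refine Equiv.ext fun x => Fin.ext ?_
    rw [← D.wF_code hD, ← D'.wF_code hD']
  have hrange : D.ρ.range = D'.ρ.range := by
    rw [MonoidHom.range_eq_map, MonoidHom.range_eq_map, ← D.gen, ← D'.gen, MonoidHom.map_closure,
      MonoidHom.map_closure]
    simp only [Set.image_union, Set.image_singleton]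
    rw [
      hw, ← Set.range_comp, ← Set.range_comp, ← Set.range_comp, ← Set.range_comp]
    have h1 : (D.ρ ∘ D.aP : Fin 27 → _) = D'.ρ ∘ D'.aP := funext fun k => Equiv.ext fun x => Fin.ext (by
      simp only [Function.comp_apply]; rw [D.aP_apply, D'.aP_apply])
    have h2 : (D.ρ ∘ D.hH : Fin 8 → _) = D'.ρ ∘ D'.hH := funext fun k => Equiv.ext fun x => Fin.ext (by
      simp only [Function.comp_apply]; rw [D.hH_apply, D'.hH_apply])
    rw [h1, h2]
  exact ⟨((MonoidHom.ofInjective D.inj).trans (MulEquiv.subgroupCongr hrange)).trans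
    (MonoidHom.ofInjective D'.inj).symm⟩

end Cfsg.Agent.Lib.U33Recog
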