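import Cfsg.Agent.Lib.U33Recog.Coord
import Cfsg.Agent.Lib.U33Recog.Unique

/-!
The shape of the two-point stabiliser: cyclic, dihedral or quaternion, in normal form.
-/

set_option autoImplicit false
set_option linter.unusedSectionVars false
set_option maxRecDepth 100000

namespace Cfsg.Agent.Lib.U33Recog

open Subgroup Model
open Cfsg.Agent.Lib.SmallGroups

theorem oct_table : allB 9 (fun v =>
    !Nat.beq (mat 3 v (mat 3 v (mat 3 v (mat 3 v 1)))) 2 || Nat.beq v 4 || Nat.beq v 7) = true := by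
  decide +kernel

theorem dih_table : allB 9 (fun u => allB 9 fun v =>
    !(allB 9 (fun x => Nat.beq (mat u v (mat u v (mat u v (mat u v x)))) x) &&
      allB 9 (fun x => Nat.beq (mat 2 3 (mat u v (mat 2 3 (mat u v (mat 2 3 (mat u v (mat 2 3 (mat u v x)))))))) x))
      || ((Nat.beq u 1 || Nat.beq u 2) && (Nat.beq v 3 || Nat.beq v 6))
      || ((Nat.beq u 3 || Nat.beq u 6) && (Nat.beq v 1 || Nat.beq v 2))) = true := by
  decide +kernel

theorem quat_table : allB 9 (fun u => allB 9 fun v =>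
    !(allB 9 (fun x => Nat.beq (mat u v (mat u v x)) (mat 2 6 x)) &&
      allB 9 (fun x => Nat.beq (mat 3 2 (mat u v (mat 3 2 (mat u v x)))) (mat 2 6 x)))
      || (Nat.beq u 4 && Nat.beq v 7) || (Nat.beq u 5 && Nat.beq v 4) || (Nat.beq u 7 && Nat.beq v 8)
      || (Nat.beq u 8 && Nat.beq v 5)) = true := by
  decide +kernel

theorem finish_table : (allB 2 (fun k => let m := Nat.mul 3 k
      Nat.beq (hs m (gen1 m) 1) 3 && Nat.beq (hs m (gen1 m) 3) 4 && Nat.beq (hs m (gen1 m) 9) 18 &&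
      Nat.beq (gen2 m) (gen1 m) && Nat.beq (wcode (Nat.beq k 1) 3 4 18) 18) &&
    allB 2 (fun k => let m := Nat.add 1 (Nat.mul 3 k)
      Nat.beq (hs m (gen1 m) 1) 2 && Nat.beq (hs m (gen1 m) 3) 3 && Nat.beq (hs m (gen1 m) 9) 18 &&
      Nat.beq (hs m (gen2 m) 1) 3 && Nat.beq (hs m (gen2 m) 3) 1 && Nat.beq (hs m (gen2 m) 9) 18 &&
      Nat.beq (wcode (Nat.beq k 1) 2 3 18) 18 && Nat.beq (wcode (Nat.beq k 1) 3 1 18) 18) &&
    allB 2 (fun k => let m := Nat.add 2 (Nat.mul 3 k)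
      Nat.beq (hs m (gen1 m) 1) 3 && Nat.beq (hs m (gen1 m) 3) 2 &&
      Nat.beq (hs m (gen1 m) 9) (wcode (Nat.beq k 1) 3 2 9) &&
      Nat.beq (hs m (gen2 m) 1) 4 && Nat.beq (hs m (gen2 m) 3) 7 &&
      Nat.beq (hs m (gen2 m) 9) (wcode (Nat.beq k 1) 4 7 18))) = true := by
  decide +kernel

variable {T : Type*} [Group T] [Finite T]

theorem pow_four_eq (s : T) : s ^ 4 = s * s * (s * s) := by
  rw [show 4 = 2 + 2 from rfl, pow_add, pow_two]

namespace Piv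

variable {P Q : Sylow 3 T} {j : T} (hT : Hyp T) (h28 : Nat.card (Sylow 3 T) = 28) (hj : Piv P Q j)
include hT h28 hj

theorem exists_inI_ne_one : ∃ e, inI P j e ∧ e ≠ 1 := by
  by_contra hc
  push Not at hc
  have hle : (P : Subgroup T) ≤ Lj P j := fun x hx => by
    obtain ⟨i, l, hi, hl, rfl⟩ := hj.exists_split hT h28 hx
    rw [hc i hi, one_mul]; exact hl
  have := Subgroup.card_le_of_le hle
  rw [hT.card_sylow, hj.card_Lj hT h28] at this
  omega

omit h28 in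
theorem eq_one_of_inv_self {e : T} (he : inI P j e) (h : e⁻¹ = e) : e = 1 := by
  have h3 := hT.pow_three_of_mem he.1
  rwa [pow_succ, pow_two, inv_eq_iff_mul_eq_one.1 h, one_mul] at h3

theorem step8 {h e1 : T} (hh : h ∈ stabH P Q) (h4 : h ^ 4 = j) (he : inI P j e1) (hne : e1 ≠ 1) :
    ∃ (b : Bool) (F : Frame T b), Adapted P j F ∧ F.e1 = e1 ∧ F.e2 = h * e1 * h⁻¹ ∧
      (h * F.e2 * h⁻¹ = F.Ψ 4 ∨ h * F.e2 * h⁻¹ = F.Ψ 7) := by
  have hj' : ∀ x, inI P j x → h * h * x * (h * h)⁻¹ = x → x = 1 := fun x hx e => by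
    refine hj.eq_one_of_inv_self hT hx ?_
    rw [← hx.2, ← h4, pow_four_eq, show h * h * (h * h) * x * (h * h * (h * h))⁻¹ = h * h * (h * h * x * (h * h)⁻¹) * (h * h)⁻¹ by group, e, e]
  have n2 : h * e1 * h⁻¹ ≠ 1 := fun e => hne (conj_eq_one_iff.1 e)
  have n12 : h * e1 * h⁻¹ ≠ e1 := fun e => hne (hj' e1 he (by
    rw [show h * h * e1 * (h * h)⁻¹ = h * (h * e1 * h⁻¹) * h⁻¹ by group, e, e]))
  have n12' : h * e1 * h⁻¹ ≠ e1⁻¹ := fun e => hne (hj' e1 he (by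
    rw [show h * h * e1 * (h * h)⁻¹ = h * (h * e1 * h⁻¹) * h⁻¹ by group, e, ← conj_inv, e, inv_inv]))
  obtain ⟨b, F, hF, f1, f2⟩ := hj.exists_frame hT h28 he (hj.conj_inI hh he) hne n2 n12 n12'
  refine ⟨b, F, hF, f1, f2, ?_⟩
  obtain ⟨u, v, t, ht, hact, eu, ev, -, -⟩ := hj.exists_act hT h28 hF hh
  have hu : u = 3 := hj.Ψ_inj hT h28 hF (by have := hact.1; omega) (by norm_num)
    (by rw [← eu, F.Ψ_three, f2, f1])
  subst hu
  have hlt : ∀ x < 9, mat 3 v x < 9 := fun x hx => (mat_facts b hact.1 hact.2.1 hx (Or.inl rfl)).2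
  have h2 : ∀ x < 9, h * h * F.Ψ x * (h * h)⁻¹ = F.Ψ (mat 3 v (mat 3 v x)) := act_comp hact hact
  have e : F.Ψ (mat 3 v (mat 3 v (mat 3 v (mat 3 v 1)))) = F.Ψ 2 := by
    rw [← h2 _ (hlt _ (hlt _ (by norm_num))), ← h2 1 (by norm_num),
      show h * h * (h * h * F.Ψ 1 * (h * h)⁻¹) * (h * h)⁻¹ = h ^ 4 * F.Ψ 1 * (h ^ 4)⁻¹ by rw [pow_four_eq]; group, h4, F.Ψ_one,
      hF.i1.2, ← F.Ψ_one, ← F.Ψ_inv (by norm_num)]
    cases b <;> rfl
  have e' := hj.Ψ_inj hT h28 hF (by have := hlt _ (hlt _ (hlt _ (hlt 1 (by norm_num)))); omega) (by norm_num) e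
  have := allB_iff.1 oct_table v hact.2.1
  rw [e'] at this
  simp only [Bool.or_eq_true, Bool.not_eq_true'] at this
  rcases this with (h' | h') | h'
  · simp at h'
  · exact Or.inl (by rw [ev, Nat.eq_of_beq_eq_true h'])
  · exact Or.inr (by rw [ev, Nat.eq_of_beq_eq_true h'])

theorem data8 {h : T} (hh : h ∈ stabH P Q) (h4 : h ^ 4 ≠ 1) : ∃ m, Nonempty (Data T m) := by
  classical
  haveI : Fact (Nat.Prime 2) := ⟨Nat.prime_two⟩
  have h8 := hT.pow_eight h28 hj.ne hh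
  have ho : orderOf h = 8 := orderOf_eq_prime_pow (p := 2) (n := 2) (by norm_num; exact h4) (by norm_num; exact h8)
  have hgen : zpowers h = stabH P Q := Subgroup.eq_of_le_of_card_ge (zpowers_le.2 hh)
    (by rw [hT.card_stabH h28 hj.ne, Nat.card_zpowers, ho])
  have h4j : h ^ 4 = j := by
    obtain ⟨k, hk⟩ := mem_powers_iff_mem_zpowers.2 (hgen.symm ▸ hj.memH : j ∈ zpowers h)
    have hk' : h ^ k = j := hk
    have hd : 8 ∣ 2 * k := by
      rw [← ho]; exact orderOf_dvd_of_pow_eq_one (by rw [mul_comm, pow_mul, hk', pow_two, hj.sq])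
    have hkm : k % 8 = 4 ∨ k % 8 = 0 := by omega
    rw [pow_eq_pow_mod k h8] at hk'
    rcases hkm with e | e <;> rw [e] at hk'
    · exact hk'
    · rw [pow_zero] at hk'; exact absurd hk'.symm hj.one
  obtain ⟨e1, he, hne⟩ := hj.exists_inI_ne_one hT h28
  -- arrange that the second image is `(1, 1)`
  obtain ⟨h', hh', h4', b, F, hF, f1, f2, h'4⟩ : ∃ h', h' ∈ stabH P Q ∧ h' ^ 4 = j ∧
      ∃ (b : Bool) (F : Frame T b), Adapted P j F ∧ F.e1 = e1 ∧ F.e2 = h' * e1 * h'⁻¹ ∧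
        h' * F.e2 * h'⁻¹ = F.Ψ 4 := by
    obtain ⟨b, F, hF, f1, f2, h'' | h''⟩ := hj.step8 hT h28 hh h4j he hne
    · exact ⟨h, hh, h4j, b, F, hF, f1, f2, h''⟩
    have hc : Commute h j := (hj.comm h hh).symm
    have h4'' : (h * j) ^ 4 = j := by
      rw [hc.mul_pow, h4j, pow_four_eq j, hj.sq, one_mul, mul_one]
    obtain ⟨b', F', hF', g1, g2, k | k⟩ := hj.step8 hT h28 (mul_mem hh hj.memH) h4'' he hne
    · exact ⟨h * j, mul_mem hh hj.memH, h4'', b', F', hF', g1, g2, k⟩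
    exfalso
    have e2 : F'.e2 = F.e2⁻¹ := by
      rw [g2, f2, show h * j * e1 * (h * j)⁻¹ = h * (j * e1 * j⁻¹) * h⁻¹ by group, he.2, ← conj_inv]
    have hii : h * j * (h * j) = h * h := by
      rw [hc.symm.mul_mul_mul_comm, hj.sq, mul_one]
    have key : F'.Ψ 7 = F.Ψ 7 := by
      rw [← k, g2, ← h'', f2, show h * j * (h * j * e1 * (h * j)⁻¹) * (h * j)⁻¹ =
        (h * j * (h * j)) * e1 * (h * j * (h * j))⁻¹ by group, hii]
      group
    simp only [Frame.Ψ, g1, f1, e2, show dA 7 = 1 from rfl, show dB 7 = 2 from rfl, mul_assoc, mul_left_cancel_iff]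
      at key
    have hLp : F.e2 ^ 4 ∈ Lj P j := by
      have e4 : F.e2 ^ 4 = F'.z ^ dE b' 7 * (F.z ^ dE b 7)⁻¹ := by
        rw [eq_mul_inv_iff_mul_eq, show F.e2 ^ 4 * F.z ^ dE b 7 = F.e2 ^ 2 * (F.e2 ^ 2 * F.z ^ dE b 7) by group,
          ← key]
        group
      rw [e4]; exact mul_mem (pow_mem hF'.zL _) (inv_mem (pow_mem hF.zL _))
    rw [pow_succ, F.p2, one_mul] at hLp
    exact hF.n2 (hj.eq_of_inI hT h28 hj.inI_one hF.i2 hLp (one_mul _).symm)
  obtain ⟨u, v, t, ht, hact, eu, ev, ez, ezt⟩ := hj.exists_act hT h28 hF hh'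
  have hu : u = 3 := hj.Ψ_inj hT h28 hF (by have := hact.1; omega) (by norm_num)
    (by rw [← eu, F.Ψ_three, f2, f1])
  have hv : v = 4 := hj.Ψ_inj hT h28 hF (by have := hact.2.1; omega) (by norm_num) (by rw [← ev, h'4])
  subst hu hv
  have htt : b = false → t = 18 := fun hb => ht.resolve_left fun h9 => by
    obtain ⟨g, hg, hgi⟩ := hj.exists_inverting hT h28 (hF.ab hb)
    rw [h9, if_pos rfl] at ezt
    have hgen' : zpowers h' = stabH P Q := Subgroup.eq_of_le_of_card_ge (zpowers_le.2 hh') (by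
      rw [hT.card_stabH h28 hj.ne, Nat.card_zpowers, orderOf_eq_prime_pow (p := 2) (n := 2)
        (by norm_num; rw [h4']; exact hj.one) (by norm_num; exact hT.pow_eight h28 hj.ne hh')]
      norm_num)
    have hcz : zpowers h' ≤ centralizer ({F.z} : Set T) :=
      zpowers_le.2 (mem_centralizer_singleton_iff.2 (mul_inv_eq_iff_eq_mul.1 ezt))
    have hgz := mem_centralizer_singleton_iff.1 (hcz (hgen'.symm ▸ hg))
    have h1 := hgi _ hF.zL
    rw [mul_inv_eq_iff_eq_mul.2 hgz] at h1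
    have h3 := F.pz
    rw [pow_succ, pow_two, eq_inv_iff_mul_eq_one.1 h1, one_mul] at h3
    exact hF.z1 h3
  have hft := finish_table
  simp only [Bool.and_eq_true] at hft
  rcases b with _ | _
  · have hk := allB_iff.1 hft.1.1 0 (by norm_num)
    simp only [Bool.and_eq_true] at hk
    obtain ⟨⟨⟨⟨a1, a2⟩, a3⟩, a4⟩, a5⟩ := hk
    have img : h' * F.e1 * h'⁻¹ = F.Ψ (hs 0 (gen1 0) 1) ∧ h' * F.e2 * h'⁻¹ = F.Ψ (hs 0 (gen1 0) 3) ∧
        h' * F.z * h'⁻¹ = F.Ψ (hs 0 (gen1 0) 9) := by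
      rw [Nat.eq_of_beq_eq_true a1, Nat.eq_of_beq_eq_true a2, Nat.eq_of_beq_eq_true a3]
      exact ⟨eu, ev, by rw [ez, htt rfl]; rfl⟩
    exact ⟨0, hT.exists_data h28 hj.ne (m := 0) (by norm_num) F (hj.Ψ_mem hT h28 hF)
      (fun x hx y hy => hj.Ψ_inj hT h28 hF hx hy) hh' hh' img img⟩
  · have hk := allB_iff.1 hft.1.1 1 (by norm_num)
    simp only [Bool.and_eq_true] at hk
    obtain ⟨⟨⟨⟨a1, a2⟩, a3⟩, a4⟩, a5⟩ := hk
    have img : h' * F.e1 * h'⁻¹ = F.Ψ (hs 3 (gen1 3) 1) ∧ h' * F.e2 * h'⁻¹ = F.Ψ (hs 3 (gen1 3) 3) ∧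
        h' * F.z * h'⁻¹ = F.Ψ (hs 3 (gen1 3) 9) := by
      rw [Nat.eq_of_beq_eq_true a1, Nat.eq_of_beq_eq_true a2, Nat.eq_of_beq_eq_true a3]
      refine ⟨eu, ev, ez.trans (congrArg _ ?_)⟩
      rfl
    exact ⟨3, hT.exists_data h28 hj.ne (m := 3) (by norm_num) F (hj.Ψ_mem hT h28 hF)
      (fun x hx y hy => hj.Ψ_inj hT h28 hF hx hy) hh' hh' img img⟩

theorem data_dih {c : T} (h4 : ∀ h ∈ stabH P Q, h ^ 4 = 1) (hc : c ∈ stabH P Q) (hc2 : c * c = 1)
    (hc1 : c ≠ 1) (hcj : c ≠ j) : ∃ m, Nonempty (Data T m) := by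
  classical
  obtain ⟨⟨e2, he2, hn2, hce⟩, hcL⟩ := hj.other_involution hT h28 hc hc2 hc1 hcj
  have hjj : j * j = 1 := hj.sq
  have hcom : j * c = c * j := hj.comm c hc
  have hcjm : c * j * (c * j) = 1 := by
    rw [(show Commute j c from hcom).mul_mul_mul_comm, hc2, hjj, one_mul]
  obtain ⟨⟨e1, he1, hn1, hce1⟩, -⟩ := hj.other_involution hT h28 (mul_mem hc hj.memH) hcjm
    (fun e => hcj ((mul_eq_one_iff_eq_inv.1 e).trans hj.inv_eq))
    (fun e => hc1 (mul_eq_right.1 e))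
  have hci : c * e1 * c⁻¹ = e1⁻¹ := by
    have e := hce1
    rw [show c * j * e1 * (c * j)⁻¹ = c * (j * e1 * j⁻¹) * c⁻¹ by group, he1.2, ← conj_inv] at e
    exact inv_eq_iff_eq_inv.1 e
  have n12 : e2 ≠ e1 := fun e => hn1 (hj.eq_one_of_inv_self hT he1 (by rw [← hci, ← e, hce]))
  have n12' : e2 ≠ e1⁻¹ := fun e => hn1 (hj.eq_one_of_inv_self hT he1 (by
    rw [e, ← conj_inv, hci, inv_inv] at hce
    exact hce.symm))
  obtain ⟨b, F, hF, rfl, rfl⟩ := hj.exists_frame hT h28 he1 he2 hn1 hn2 n12 n12'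
  obtain ⟨u0, v0, t0, ht0, hC, eu0, ev0, ez0, ezt0⟩ := hj.exists_act hT h28 hF hc
  have hu0 : u0 = 2 := hj.Ψ_inj hT h28 hF (by have := hC.1; omega) (by norm_num)
    (by rw [← eu0, hci, ← F.Ψ_one, ← F.Ψ_inv (by norm_num)]; cases b <;> rfl)
  have hv0 : v0 = 3 := hj.Ψ_inj hT h28 hF (by have := hC.2.1; omega) (by norm_num)
    (by rw [← ev0, hce, F.Ψ_three])
  subst hu0 hv0
  -- every element is monomial
  have mono : ∀ g ∈ stabH P Q, ∀ u v, Act F g u v →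
      ((u = 1 ∨ u = 2) ∧ (v = 3 ∨ v = 6)) ∨ ((u = 3 ∨ u = 6) ∧ (v = 1 ∨ v = 2)) := by
    intro g hg u v hA
    have hM : ∀ x < 9, mat u v x < 9 := fun x hx => (mat_facts b hA.1 hA.2.1 hx (Or.inl rfl)).2
    have hC9 : ∀ x < 9, mat 2 3 x < 9 := fun x hx => (mat_facts b hC.1 hC.2.1 hx (Or.inl rfl)).2
    have four : ∀ (s : T) (f : ℕ → ℕ), (∀ x < 9, f x < 9) → s ^ 4 = 1 →
        (∀ x < 9, s * F.Ψ x * s⁻¹ = F.Ψ (f x)) → ∀ x < 9, f (f (f (f x))) = x := by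
      intro s f hf hs4 hsf x hx
      refine hj.Ψ_inj hT h28 hF (by have := hf _ (hf _ (hf _ (hf x hx))); omega) (by omega) ?_
      rw [← hsf _ (hf _ (hf _ (hf x hx))), ← hsf _ (hf _ (hf x hx)), ← hsf _ (hf x hx), ← hsf x hx,
        show s * (s * (s * (s * F.Ψ x * s⁻¹) * s⁻¹) * s⁻¹) * s⁻¹ = s ^ 4 * F.Ψ x * (s ^ 4)⁻¹ by rw [pow_four_eq]; group, hs4]
      group
    have e1' := four g _ hM (h4 g hg) hA.2.2
    have e2' := four (c * g) (fun x => mat 2 3 (mat u v x)) (fun x hx => hC9 _ (hM x hx))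
      (h4 _ (mul_mem hc hg)) (act_comp hC hA)
    have := allB_iff.1 (allB_iff.1 dih_table u hA.1) v hA.2.1
    simp only [Bool.or_eq_true, Bool.and_eq_true] at this
    rcases this with (h' | h') | h'
    · exfalso
      rw [show allB 9 (fun x => Nat.beq (mat u v (mat u v (mat u v (mat u v x)))) x) = true from
        allB_iff.2 fun x hx => by rw [e1' x hx]; exact Nat.beq_refl _,
        show allB 9 (fun x => Nat.beq (mat 2 3 (mat u v (mat 2 3 (mat u v (mat 2 3 (mat u v (mat 2 3 (mat u v x)))))))) x) = true from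
        allB_iff.2 fun x hx => by rw [e2' x hx]; exact Nat.beq_refl _] at h'
      simp at h'
    · exact Or.inl ⟨h'.1.imp Nat.eq_of_beq_eq_true Nat.eq_of_beq_eq_true,
        h'.2.imp Nat.eq_of_beq_eq_true Nat.eq_of_beq_eq_true⟩
    · exact Or.inr ⟨h'.1.imp Nat.eq_of_beq_eq_true Nat.eq_of_beq_eq_true,
        h'.2.imp Nat.eq_of_beq_eq_true Nat.eq_of_beq_eq_true⟩
  -- the element exchanging the two generators
  obtain ⟨d, hd, hd1, hd3⟩ : ∃ d ∈ stabH P Q, d * F.e1 * d⁻¹ = F.e2 ∧ d * F.e2 * d⁻¹ = F.e1 := by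
    by_contra hnone
    have inv2 : F.Ψ 2 = F.e1⁻¹ := by rw [← F.Ψ_one, ← F.Ψ_inv (by norm_num)]; cases b <;> rfl
    have inv6 : F.Ψ 6 = F.e2⁻¹ := by rw [← F.Ψ_three, ← F.Ψ_inv (by norm_num)]; cases b <;> rfl
    have jconj : ∀ {g x y : T}, inI P j y → g * x * g⁻¹ = y → j * g * x * (j * g)⁻¹ = y⁻¹ := fun {g x y} hy e => by
      rw [show j * g * x * (j * g)⁻¹ = j * (g * x * g⁻¹) * j⁻¹ by group, e, hy.2]
    have diag : ∀ g ∈ stabH P Q, ∀ u v, Act F g u v → g * F.e1 * g⁻¹ = F.Ψ u → g * F.e2 * g⁻¹ = F.Ψ v →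
        (u = 1 ∨ u = 2) ∧ (v = 3 ∨ v = 6) := by
      intro g hg u v hA eu ev
      refine (mono g hg u v hA).resolve_right ?_
      rintro ⟨hu, hv⟩
      apply hnone
      rcases hu with rfl | rfl <;> rcases hv with rfl | rfl
      · exact ⟨g, hg, eu.trans F.Ψ_three, ev.trans F.Ψ_one⟩
      · refine ⟨c * g, mul_mem hc hg, ?_, ?_⟩
        · rw [show c * g * F.e1 * (c * g)⁻¹ = c * (g * F.e1 * g⁻¹) * c⁻¹ by group, eu, F.Ψ_three, hce]
        · rw [show c * g * F.e2 * (c * g)⁻¹ = c * (g * F.e2 * g⁻¹) * c⁻¹ by group, ev, inv2, ← conj_inv, hci,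
            inv_inv]
      · refine ⟨j * (c * g), mul_mem hj.memH (mul_mem hc hg), ?_, ?_⟩
        · rw [jconj (y := F.e2⁻¹) (hj.inI_inv hF.i2) (by
            rw [show c * g * F.e1 * (c * g)⁻¹ = c * (g * F.e1 * g⁻¹) * c⁻¹ by group, eu, inv6, ← conj_inv, hce]),
            inv_inv]
        · rw [jconj (y := F.e1⁻¹) (hj.inI_inv hF.i1) (by
            rw [show c * g * F.e2 * (c * g)⁻¹ = c * (g * F.e2 * g⁻¹) * c⁻¹ by group, ev, F.Ψ_one, hci]),
            inv_inv]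
      · refine ⟨j * g, mul_mem hj.memH hg, ?_, ?_⟩
        · rw [jconj (y := F.e2⁻¹) (hj.inI_inv hF.i2) (eu.trans inv6), inv_inv]
        · rw [jconj (y := F.e1⁻¹) (hj.inI_inv hF.i1) (ev.trans inv2), inv_inv]
    -- at most four elements
    let f : stabH P Q → Bool × Bool := fun g =>
      (decide ((g : T) * F.e1 * (g : T)⁻¹ = F.e1), decide ((g : T) * F.e2 * (g : T)⁻¹ = F.e2))
    have hf : Function.Injective f := by
      intro a a' e
      obtain ⟨u, v, t, -, hA, eu, ev, -, -⟩ := hj.exists_act hT h28 hF a.2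
      obtain ⟨u', v', t', -, hA', eu', ev', -, -⟩ := hj.exists_act hT h28 hF a'.2
      obtain ⟨du, dv⟩ := diag _ a.2 u v hA eu ev
      obtain ⟨du', dv'⟩ := diag _ a'.2 u' v' hA' eu' ev'
      have h12 : F.Ψ 2 ≠ F.e1 := fun h => hF.n1 (hj.eq_one_of_inv_self hT hF.i1 (by rw [← inv2, h]))
      have h36 : F.Ψ 6 ≠ F.e2 := fun h => hF.n2 (hj.eq_one_of_inv_self hT hF.i2 (by rw [← inv6, h]))
      simp only [f, Prod.mk.injEq, decide_eq_decide, eu, ev, eu', ev'] at e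
      have hu : u = u' := by
        rcases du with rfl | rfl <;> rcases du' with rfl | rfl
        · rfl
        · exact absurd (e.1.1 F.Ψ_one) h12
        · exact absurd (e.1.2 F.Ψ_one) h12
        · rfl
      have hv : v = v' := by
        rcases dv with rfl | rfl <;> rcases dv' with rfl | rfl
        · rfl
        · exact absurd (e.2.1 F.Ψ_three) h36
        · exact absurd (e.2.2 F.Ψ_three) h36
        · rfl
      subst hu hv
      have h1 : (a' : T)⁻¹ * a = 1 := by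
        refine hj.eq_one_of_fixes_inI hT h28 (mul_mem (inv_mem a'.2) a.2) fun x hx => ?_
        obtain ⟨k, hk, rfl⟩ := hj.code_of_inI hT h28 hF hx
        refine mul_inv_eq_iff_eq_mul.1 ?_
        rw [show (a' : T)⁻¹ * a * F.Ψ k * ((a' : T)⁻¹ * a)⁻¹ = (a' : T)⁻¹ * ((a : T) * F.Ψ k * (a : T)⁻¹) * a' by group,
          hA.2.2 k hk, ← hA'.2.2 k hk]
        group
      exact Subtype.ext (inv_mul_eq_one.1 h1).symm
    have := Nat.card_le_card_of_injective f hf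
    rw [hT.card_stabH h28 hj.ne, Nat.card_prod, Nat.card_eq_fintype_card, Fintype.card_bool] at this
    omega
  obtain ⟨u, v, t, ht, hD, eu, ev, ez, ezt⟩ := hj.exists_act hT h28 hF hd
  have hu : u = 3 := hj.Ψ_inj hT h28 hF (by have := hD.1; omega) (by norm_num) (by rw [← eu, hd1, F.Ψ_three])
  have hv : v = 1 := hj.Ψ_inj hT h28 hF (by have := hD.2.1; omega) (by norm_num) (by rw [← ev, hd3, F.Ψ_one])
  subst hu hv
  have hd2 : d * d = 1 := hj.eq_one_of_fixes_inI hT h28 (mul_mem hd hd) fun x hx => by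
    obtain ⟨k, hk, rfl⟩ := hj.code_of_inI hT h28 hF hx
    refine mul_inv_eq_iff_eq_mul.1 ?_
    rw [act_comp hD hD k hk]
    congr 1
    have t : allB 9 (fun x => Nat.beq (mat 3 1 (mat 3 1 x)) x) = true := by decide +kernel
    exact Nat.eq_of_beq_eq_true (allB_iff.1 t k hk)
  have hdone : d ≠ 1 := fun e => by
    rw [e, one_mul, inv_one, mul_one] at hd1
    exact n12 hd1.symm
  have hdj : d ≠ j := fun e => by
    rw [e, hF.i1.2] at hd1
    exact n12' hd1.symm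
  obtain ⟨-, hdL⟩ := hj.other_involution hT h28 hd hd2 hdone hdj
  have t0_18 : t0 = 18 := ht0.resolve_left fun e => hF.z1 (hcL _ hF.zL (by rw [ezt0, if_pos e]))
  have t_18 : t = 18 := ht.resolve_left fun e => hF.z1 (hdL _ hF.zL (by rw [ezt, if_pos e]))
  subst t0_18 t_18
  have hft := finish_table
  simp only [Bool.and_eq_true] at hft
  rcases b with _ | _
  · have hk := allB_iff.1 hft.1.2 0 (by norm_num)
    simp only [Bool.and_eq_true] at hk
    obtain ⟨⟨⟨⟨⟨⟨⟨a1, a2⟩, a3⟩, a4⟩, a5⟩, a6⟩, a7⟩, a8⟩ := hk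
    refine ⟨1, hT.exists_data h28 hj.ne (m := 1) (by norm_num) F (hj.Ψ_mem hT h28 hF)
      (fun x hx y hy => hj.Ψ_inj hT h28 hF hx hy) hc hd ?_ ?_⟩
    · rw [Nat.eq_of_beq_eq_true a1, Nat.eq_of_beq_eq_true a2, Nat.eq_of_beq_eq_true a3]
      exact ⟨eu0, ev0, ez0.trans (congrArg _ (Nat.eq_of_beq_eq_true a7))⟩
    · rw [Nat.eq_of_beq_eq_true a4, Nat.eq_of_beq_eq_true a5, Nat.eq_of_beq_eq_true a6]
      exact ⟨eu, ev, ez.trans (congrArg _ (Nat.eq_of_beq_eq_true a8))⟩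
  · have hk := allB_iff.1 hft.1.2 1 (by norm_num)
    simp only [Bool.and_eq_true] at hk
    obtain ⟨⟨⟨⟨⟨⟨⟨a1, a2⟩, a3⟩, a4⟩, a5⟩, a6⟩, a7⟩, a8⟩ := hk
    refine ⟨4, hT.exists_data h28 hj.ne (m := 4) (by norm_num) F (hj.Ψ_mem hT h28 hF)
      (fun x hx y hy => hj.Ψ_inj hT h28 hF hx hy) hc hd ?_ ?_⟩
    · rw [Nat.eq_of_beq_eq_true a1, Nat.eq_of_beq_eq_true a2, Nat.eq_of_beq_eq_true a3]
      exact ⟨eu0, ev0, ez0.trans (congrArg _ (Nat.eq_of_beq_eq_true a7))⟩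
    · rw [Nat.eq_of_beq_eq_true a4, Nat.eq_of_beq_eq_true a5, Nat.eq_of_beq_eq_true a6]
      exact ⟨eu, ev, ez.trans (congrArg _ (Nat.eq_of_beq_eq_true a8))⟩

theorem data_quat (h4 : ∀ h ∈ stabH P Q, h ^ 4 = 1)
    (hinv : ∀ h ∈ stabH P Q, h * h = 1 → h = 1 ∨ h = j) : ∃ m, Nonempty (Data T m) := by
  classical
  have hsq : ∀ h ∈ stabH P Q, h ≠ 1 → h ≠ j → h * h = j := fun h hh h1 hj1 => by
    rcases hinv _ (mul_mem hh hh) (by rw [← pow_four_eq]; exact h4 h hh) with e | e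
    · rcases hinv h hh e with r | r
      exacts [absurd r h1, absurd r hj1]
    · exact e
  have sign : ∀ h ∈ stabH P Q, ∀ l ∈ Lj P j, h * l * h⁻¹ = l ∨ h * l * h⁻¹ = l⁻¹ := by
    intro h hh l hl
    haveI := three_prime
    by_cases hl1 : l = 1
    · left; simp [hl1]
    have hgen : zpowers l = Lj P j := Subgroup.eq_of_le_of_card_ge (zpowers_le.2 hl)
      (by rw [hj.card_Lj hT h28, Nat.card_zpowers, hT.orderOf_eq_three P.2 (mem_Lj.1 hl).1 hl1])
    have h1 := hj.conj_Lj hh hl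
    rw [← hgen] at h1
    obtain ⟨n, hn⟩ := mem_powers_iff_mem_zpowers.2 h1
    have hn' : l ^ n = h * l * h⁻¹ := hn
    have h3 := hT.pow_three_of_mem (mem_Lj.1 hl).1
    rw [pow_eq_pow_mod n h3] at hn'
    rcases (show n % 3 = 0 ∨ n % 3 = 1 ∨ n % 3 = 2 by omega) with e | e | e <;> rw [e] at hn'
    · rw [pow_zero] at hn'; exact absurd (conj_eq_one_iff.1 hn'.symm) hl1
    · left; rw [← hn', pow_one]
    · right; rw [← hn']; exact eq_inv_of_mul_eq_one_left (by rw [← pow_succ]; exact h3)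
  obtain ⟨e1, he, hne⟩ := hj.exists_inI_ne_one hT h28
  obtain ⟨l, hl, hl1⟩ : ∃ l ∈ Lj P j, l ≠ 1 := by
    by_contra hc
    push Not at hc
    have := hj.card_Lj hT h28
    rw [(Subgroup.eq_bot_iff_forall _).2 hc, Subgroup.card_bot] at this; omega
  obtain ⟨i, hi, hi1, hij, hiab⟩ : ∃ i ∈ stabH P Q, i ≠ 1 ∧ i ≠ j ∧
      (Ab (P : Subgroup T) → i * l * i⁻¹ = l) := by
    by_contra hc
    push Not at hc
    have pick : ∀ (s : Finset T), s.card < 8 → ∃ g ∈ stabH P Q, g ∉ s := by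
      intro s hs
      by_contra hall
      push Not at hall
      have h8 := hT.card_stabH h28 hj.ne
      haveI := Fintype.ofFinite T
      have := Finset.card_le_card (show (Finset.univ.filter fun g => g ∈ stabH P Q) ⊆ s from
        fun g hg => hall g (Finset.mem_filter.1 hg).2)
      rw [Nat.card_eq_fintype_card, Fintype.card_subtype] at h8
      omega
    obtain ⟨a, ha, han⟩ := pick {1, j} (Finset.card_le_two.trans_lt (by norm_num))
    simp only [Finset.mem_insert, Finset.mem_singleton, not_or] at han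
    obtain ⟨habP, hal⟩ := hc a ha han.1 han.2
    obtain ⟨k, hk, hkn⟩ := pick {1, j, a, a * j} (Finset.card_le_four.trans_lt (by norm_num))
    simp only [Finset.mem_insert, Finset.mem_singleton, not_or] at hkn
    have hak1 : a * k ≠ 1 := fun e => hkn.2.2.2 (by
      have ea := hsq a ha han.1 han.2
      calc k = a⁻¹ := eq_inv_of_mul_eq_one_right e
        _ = a * (a * a)⁻¹ := by group
        _ = a * j := by rw [ea, hj.inv_eq])
    have hakj : a * k ≠ j := fun e => hkn.2.2.1 (by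
      have ea := hsq a ha han.1 han.2
      exact (mul_left_cancel (ea.trans e.symm)).symm)
    have e1 : a * l * a⁻¹ = l⁻¹ := (sign a ha l hl).resolve_left hal
    have e2 : k * l * k⁻¹ = l⁻¹ := (sign k hk l hl).resolve_left (hc k hk hkn.1 hkn.2.1).2
    refine (hc _ (mul_mem ha hk) hak1 hakj).2 ?_
    rw [show a * k * l * (a * k)⁻¹ = a * (k * l * k⁻¹) * a⁻¹ by group, e2, ← conj_inv, e1, inv_inv]
  have hii := hsq i hi hi1 hij
  have n2 : i * e1 * i⁻¹ ≠ 1 := fun e => hne (conj_eq_one_iff.1 e)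
  have hi2 : i * (i * e1 * i⁻¹) * i⁻¹ = e1⁻¹ := by
    rw [show i * (i * e1 * i⁻¹) * i⁻¹ = i * i * e1 * (i * i)⁻¹ by group, hii, he.2]
  have n12 : i * e1 * i⁻¹ ≠ e1 := fun e => hne (hj.eq_one_of_inv_self hT he (by
    rw [← hi2, e, e]))
  have n12' : i * e1 * i⁻¹ ≠ e1⁻¹ := fun e => hne (hj.eq_one_of_inv_self hT he (by
    rw [← hi2, e, ← conj_inv, e, inv_inv]))
  obtain ⟨b, F, hF, rfl, f2⟩ := hj.exists_frame hT h28 he (hj.conj_inI hi he) hne n2 n12 n12'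
  obtain ⟨u0, v0, t0, ht0, hR, eu0, ev0, ez0, ezt0⟩ := hj.exists_act hT h28 hF hi
  have hu0 : u0 = 3 := hj.Ψ_inj hT h28 hF (by have := hR.1; omega) (by norm_num) (by rw [← eu0, F.Ψ_three, f2])
  have hv0 : v0 = 2 := hj.Ψ_inj hT h28 hF (by have := hR.2.1; omega) (by norm_num)
    (by rw [← ev0, f2, hi2, ← F.Ψ_one, ← F.Ψ_inv (by norm_num)]; cases b <;> rfl)
  subst hu0 hv0
  have hfixi : Ab (P : Subgroup T) → ∀ s ∈ Lj P j, i * s * i⁻¹ = s := by
    intro hab s hs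
    haveI := three_prime
    have hgen : zpowers l = Lj P j := Subgroup.eq_of_le_of_card_ge (zpowers_le.2 hl)
      (by rw [hj.card_Lj hT h28, Nat.card_zpowers, hT.orderOf_eq_three P.2 (mem_Lj.1 hl).1 hl1])
    rw [← hgen] at hs
    obtain ⟨n, rfl⟩ := mem_zpowers_iff.1 hs
    rw [← conj_zpow, hiab hab]
  -- a second generator
  obtain ⟨k, hk, hk1, hkj, hki, hkij, hkab⟩ : ∃ k ∈ stabH P Q, k ≠ 1 ∧ k ≠ j ∧ k ≠ i ∧ k ≠ i * j ∧
      (Ab (P : Subgroup T) → ∀ s ∈ Lj P j, k * s * k⁻¹ = s⁻¹) := by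
    by_cases hab : Ab (P : Subgroup T)
    · obtain ⟨k, hk, hks⟩ := hj.exists_inverting hT h28 hab
      have key : k * l * k⁻¹ ≠ l := by
        rw [hks l hl]
        intro e
        have h3 := hT.pow_three_of_mem (mem_Lj.1 hl).1
        rw [pow_succ, pow_two, inv_eq_iff_mul_eq_one.1 e, one_mul] at h3
        exact hl1 h3
      have hjl : j * l * j⁻¹ = l := mul_inv_eq_iff_eq_mul.2 (mem_Lj.1 hl).2.symm
      refine ⟨k, hk, ?_, ?_, ?_, ?_, fun _ => hks⟩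
      · rintro rfl; exact key (by simp)
      · rintro rfl; exact key hjl
      · rintro rfl; exact key (hiab hab)
      · rintro rfl
        exact key (by rw [show i * j * l * (i * j)⁻¹ = i * (j * l * j⁻¹) * i⁻¹ by group, hjl, hiab hab])
    · by_contra hc
      push Not at hc
      haveI := Fintype.ofFinite T
      have h8 := hT.card_stabH h28 hj.ne
      rw [Nat.card_eq_fintype_card, Fintype.card_subtype] at h8
      have := Finset.card_le_card (show (Finset.univ.filter fun g => g ∈ stabH P Q) ⊆ {1, j, i, i * j} from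
        fun g hg => by
          simp only [Finset.mem_insert, Finset.mem_singleton]
          by_contra h'
          push Not at h'
          exact hab (hc g (Finset.mem_filter.1 hg).2 h'.1 h'.2.1 h'.2.2.1 h'.2.2.2).1)
      have := Finset.card_le_four (a := (1 : T)) (b := j) (c := i) (d := i * j)
      omega
  obtain ⟨u, v, t, ht, hK, eu, ev, ez, ezt⟩ := hj.exists_act hT h28 hF hk
  -- squares
  have hjact : ∀ x < 9, j * F.Ψ x * j⁻¹ = F.Ψ (mat 2 6 x) := by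
    obtain ⟨u', v', t', -, hA, eu', ev', -, -⟩ := hj.exists_act hT h28 hF hj.memH
    have hu' : u' = 2 := hj.Ψ_inj hT h28 hF (by have := hA.1; omega) (by norm_num)
      (by rw [← eu', hF.i1.2, ← F.Ψ_one, ← F.Ψ_inv (by norm_num)]; cases b <;> rfl)
    have hv' : v' = 6 := hj.Ψ_inj hT h28 hF (by have := hA.2.1; omega) (by norm_num)
      (by rw [← ev', hF.i2.2, ← F.Ψ_three, ← F.Ψ_inv (by norm_num)]; cases b <;> rfl)
    subst hu' hv'
    exact hA.2.2
  have hM : ∀ x < 9, mat u v x < 9 := fun x hx => (mat_facts b hK.1 hK.2.1 hx (Or.inl rfl)).2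
  have hR9 : ∀ x < 9, mat 3 2 x < 9 := fun x hx => (mat_facts b hR.1 hR.2.1 hx (Or.inl rfl)).2
  have hJ9 : ∀ x < 9, mat 2 6 x < 9 := fun x hx => (mat_facts b (by norm_num) (by norm_num) hx (Or.inl rfl)).2
  have hik1 : i * k ≠ 1 := fun e => hkij (by
    calc k = i⁻¹ := eq_inv_of_mul_eq_one_right e
      _ = i * (i * i)⁻¹ := by group
      _ = i * j := by rw [hii, hj.inv_eq])
  have hikj : i * k ≠ j := fun e => hki ((mul_left_cancel (hii.trans e.symm)).symm)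
  have eA : allB 9 (fun x => Nat.beq (mat u v (mat u v x)) (mat 2 6 x)) = true := by
    refine allB_iff.2 fun x hx => ?_
    rw [hj.Ψ_inj hT h28 hF (x := mat u v (mat u v x)) (by have := hM _ (hM x hx); omega) (y := mat 2 6 x)
      (by have := hJ9 x hx; omega) (by rw [← act_comp hK hK x hx, ← hjact x hx, hsq k hk hk1 hkj])]
    exact Nat.beq_refl _
  have eB : allB 9 (fun x => Nat.beq (mat 3 2 (mat u v (mat 3 2 (mat u v x)))) (mat 2 6 x)) = true := by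
    refine allB_iff.2 fun x hx => ?_
    have := hj.Ψ_inj hT h28 hF (x := mat 3 2 (mat u v (mat 3 2 (mat u v x))))
      (by have := hR9 _ (hM _ (hR9 _ (hM x hx))); omega) (y := mat 2 6 x) (by have := hJ9 x hx; omega) (by
        rw [← act_comp hR hK _ (hR9 _ (hM x hx)), ← act_comp hR hK x hx, ← hjact x hx,
          ← hsq _ (mul_mem hi hk) hik1 hikj]
        group)
    rw [this]; exact Nat.beq_refl _
  have hcases := allB_iff.1 (allB_iff.1 quat_table u hK.1) v hK.2.1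
  rw [eA, eB] at hcases
  simp only [Bool.or_eq_true, Bool.and_eq_true, Bool.and_self, Bool.not_true, Bool.false_eq_true, false_or]
    at hcases
  -- normalise to `(4, 7)`
  have inv4 : F.Ψ 8 = (F.Ψ 4)⁻¹ := by rw [← F.Ψ_inv (by norm_num)]; cases b <;> rfl
  have inv7 : F.Ψ 5 = (F.Ψ 7)⁻¹ := by rw [← F.Ψ_inv (by norm_num)]; cases b <;> rfl
  have inv2 : F.Ψ 2 = F.e1⁻¹ := by rw [← F.Ψ_one, ← F.Ψ_inv (by norm_num)]; cases b <;> rfl
  have jI : ∀ x < 9, inI P j (F.Ψ x) := fun x hx => by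
    refine ⟨hj.Ψ_mem hT h28 hF x, ?_⟩
    rw [hjact x hx, ← F.Ψ_inv (show x < 27 by omega)]
    congr 1
    have t : allB 2 (fun k => allB 9 fun x => Nat.beq (mat 2 6 x) (invC (Nat.beq k 1) x)) = true := by decide +kernel
    cases b
    · exact Nat.eq_of_beq_eq_true (allB_iff.1 (allB_iff.1 t 0 (by norm_num)) x hx)
    · exact Nat.eq_of_beq_eq_true (allB_iff.1 (allB_iff.1 t 1 (by norm_num)) x hx)
  have ki1 : k * i * F.e1 * (k * i)⁻¹ = F.Ψ v := by
    rw [show k * i * F.e1 * (k * i)⁻¹ = k * (i * F.e1 * i⁻¹) * k⁻¹ by group, ← f2, ev]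
  have ki2 : k * i * F.e2 * (k * i)⁻¹ = (F.Ψ u)⁻¹ := by
    rw [show k * i * F.e2 * (k * i)⁻¹ = k * (i * F.e2 * i⁻¹) * k⁻¹ by group, ev0, inv2, ← conj_inv, eu]
  have jmul : ∀ {g x : T} {y : ℕ}, y < 9 → g * x * g⁻¹ = F.Ψ y → j * g * x * (j * g)⁻¹ = (F.Ψ y)⁻¹ :=
    fun {g x y} hy e => by
      rw [show j * g * x * (j * g)⁻¹ = j * (g * x * g⁻¹) * j⁻¹ by group, e, (jI y hy).2]
  have ink : Ab (P : Subgroup T) → ∀ s ∈ Lj P j, k * i * s * (k * i)⁻¹ = s⁻¹ := fun hab s hs => by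
    rw [show k * i * s * (k * i)⁻¹ = k * (i * s * i⁻¹) * k⁻¹ by group, hfixi hab s hs, hkab hab s hs]
  have injk : ∀ {g : T}, (Ab (P : Subgroup T) → ∀ s ∈ Lj P j, g * s * g⁻¹ = s⁻¹) →
      Ab (P : Subgroup T) → ∀ s ∈ Lj P j, j * g * s * (j * g)⁻¹ = s⁻¹ := fun {g} hg hab s hs => by
    rw [show j * g * s * (j * g)⁻¹ = j * (g * s * g⁻¹) * j⁻¹ by group, hg hab s hs]
    exact mul_inv_eq_iff_eq_mul.2 (mem_Lj.1 (inv_mem hs)).2.symm
  obtain ⟨g, hg, g1, g2, gab⟩ : ∃ g ∈ stabH P Q, g * F.e1 * g⁻¹ = F.Ψ 4 ∧ g * F.e2 * g⁻¹ = F.Ψ 7 ∧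
      (Ab (P : Subgroup T) → ∀ s ∈ Lj P j, g * s * g⁻¹ = s⁻¹) := by
    rcases hcases with ((h' | h') | h') | h' <;>
      obtain ⟨r1, r2⟩ := (⟨Nat.eq_of_beq_eq_true h'.1, Nat.eq_of_beq_eq_true h'.2⟩ : u = _ ∧ v = _) <;>
      subst r1 r2
    · exact ⟨k, hk, eu, ev, hkab⟩
    · exact ⟨k * i, mul_mem hk hi, ki1, by rw [ki2, inv7, inv_inv], ink⟩
    · refine ⟨j * (k * i), mul_mem hj.memH (mul_mem hk hi), ?_, ?_, injk ink⟩
      · rw [jmul (by norm_num) ki1, inv4, inv_inv]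
      · have e5 : k * i * F.e2 * (k * i)⁻¹ = F.Ψ 5 := by rw [ki2, inv7]
        rw [jmul (by norm_num) e5, inv7, inv_inv]
    · exact ⟨j * k, mul_mem hj.memH hk, by rw [jmul (by norm_num) eu, inv4, inv_inv],
        by rw [jmul (by norm_num) ev, inv7, inv_inv], injk hkab⟩
  obtain ⟨ug, vg, tg, htg, hG, eug, evg, ezg, eztg⟩ := hj.exists_act hT h28 hF hg
  have hug : ug = 4 := hj.Ψ_inj hT h28 hF (by have := hG.1; omega) (by norm_num) (by rw [← eug, g1])
  have hvg : vg = 7 := hj.Ψ_inj hT h28 hF (by have := hG.2.1; omega) (by norm_num) (by rw [← evg, g2])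
  subst hug hvg
  have hzne : F.z⁻¹ ≠ F.z := fun e => by
    have h3 := F.pz
    rw [pow_succ, pow_two, inv_eq_iff_mul_eq_one.1 e, one_mul] at h3
    exact hF.z1 h3
  have hft := finish_table
  simp only [Bool.and_eq_true] at hft
  rcases b with _ | _
  · have hab := hF.ab rfl
    have t0_9 : t0 = 9 := ht0.resolve_right fun e => hzne (by
      have h1 := hfixi hab _ hF.zL
      rw [ezt0, if_neg (by omega)] at h1
      exact h1)
    have tg_18 : tg = 18 := htg.resolve_left fun e => hzne (by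
      have h1 := gab hab _ hF.zL
      rw [eztg, if_pos e] at h1
      exact h1.symm)
    subst t0_9 tg_18
    have hk := allB_iff.1 hft.2 0 (by norm_num)
    simp only [Bool.and_eq_true] at hk
    obtain ⟨⟨⟨⟨⟨a1, a2⟩, a3⟩, a4⟩, a5⟩, a6⟩ := hk
    refine ⟨2, hT.exists_data h28 hj.ne (m := 2) (by norm_num) F (hj.Ψ_mem hT h28 hF)
      (fun x hx y hy => hj.Ψ_inj hT h28 hF hx hy) hi hg ?_ ?_⟩
    · rw [Nat.eq_of_beq_eq_true a1, Nat.eq_of_beq_eq_true a2, Nat.eq_of_beq_eq_true a3]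
      exact ⟨eu0, ev0, ez0⟩
    · rw [Nat.eq_of_beq_eq_true a4, Nat.eq_of_beq_eq_true a5, Nat.eq_of_beq_eq_true a6]
      exact ⟨eug, evg, ezg⟩
  · have hk := allB_iff.1 hft.2 1 (by norm_num)
    simp only [Bool.and_eq_true] at hk
    obtain ⟨⟨⟨⟨⟨a1, a2⟩, a3⟩, a4⟩, a5⟩, a6⟩ := hk
    refine ⟨5, hT.exists_data h28 hj.ne (m := 5) (by norm_num) F (hj.Ψ_mem hT h28 hF)
      (fun x hx y hy => hj.Ψ_inj hT h28 hF hx hy) hi hg ?_ ?_⟩
    · rw [Nat.eq_of_beq_eq_true a1, Nat.eq_of_beq_eq_true a2, Nat.eq_of_beq_eq_true a3]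
      exact ⟨eu0, ev0, ez0⟩
    · rw [Nat.eq_of_beq_eq_true a4, Nat.eq_of_beq_eq_true a5, Nat.eq_of_beq_eq_true a6]
      exact ⟨eug, evg, ezg⟩

end Piv

/-- Every group under consideration follows one of the models. -/
theorem Hyp.exists_model (hT : Hyp T) : ∃ m, Nonempty (Data T m) := by
  classical
  have h28 := hT.card_sylow_eq_28
  let P : Sylow 3 T := default
  obtain ⟨Q, hQ⟩ : ∃ Q : Sylow 3 T, Q ≠ P := by
    by_contra hc
    push Not at hc
    have : Nat.card (Sylow 3 T) = 1 := Nat.card_eq_one_iff_unique.2 ⟨⟨fun a b => (hc a).trans (hc b).symm⟩, ⟨P⟩⟩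
    omega
  obtain ⟨j, hj⟩ := hT.exists_piv h28 hQ
  by_cases h8 : ∃ h ∈ stabH P Q, h ^ 4 ≠ 1
  · obtain ⟨h, hh, h4⟩ := h8
    exact hj.data8 hT h28 hh h4
  push Not at h8
  by_cases hd : ∃ c ∈ stabH P Q, c * c = 1 ∧ c ≠ 1 ∧ c ≠ j
  · obtain ⟨c, hc, hc2, hc1, hcj⟩ := hd
    exact hj.data_dih hT h28 h8 hc hc2 hc1 hcj
  push Not at hd
  exact hj.data_quat hT h28 h8 fun h hh h2 => by
    by_cases h1 : h = 1
    exacts [Or.inl h1, Or.inr (hd h hh h2 h1)]

/-- Any two such groups are isomorphic. -/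
theorem Hyp.nonempty_mulEquiv {T' : Type*} [Group T'] [Finite T'] (hT : Hyp T) (hT' : Hyp T') :
    Nonempty (T ≃* T') := by
  obtain ⟨m, ⟨A⟩⟩ := hT.exists_model
  obtain ⟨m', ⟨A'⟩⟩ := hT'.exists_model
  exact Cfsg.Agent.Lib.U33Recog.nonempty_mulEquiv A A'

end Cfsg.Agent.Lib.U33Recog
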