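import Cfsg.Agent.Lib.Classif.PrimeExceptional
import Cfsg.Agent.Lib.Characters.Kernel
import Cfsg.Agent.Lib.Clifford.Rep
import Cfsg.Agent.Lib.SmallGroups.Counting
import Cfsg.Agent.Lib.Glauberman.Cyclic

/-!
Character values of a simple group at involutions, and at an element of order 7 inverted by one.
-/

set_option autoImplicit false

namespace Cfsg.Agent.Lib.U33Recog.Chars

open Cfsg.Agent.Lib.Characters.Basic Cfsg.Agent.Lib.Characters.Linear
open scoped ComplexConjugate

variable {G : Type*} [Group G] [Finite G]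

/-- the degree -/
noncomputable abbrev deg (χ : Cfsg.IrrCharacter G) : ℕ := Cfsg.charDegree (χ : G → ℂ)

theorem apply_one (χ : Cfsg.IrrCharacter G) : (χ : G → ℂ) 1 = (deg χ : ℂ) :=
  (H80.ClassMult.deg_spec χ).2

theorem sum_sub_card {ι : Type*} (s : Finset ι) (c : ι → ℤ) (hc : ∀ i ∈ s, c i = 1 ∨ c i = -1) :
    (∏ i ∈ s, c i = 1 ∨ ∏ i ∈ s, c i = -1) ∧
      (4 : ℤ) ∣ (∑ i ∈ s, c i - s.card) - (∏ i ∈ s, c i - 1) := by
  classical
  induction s using Finset.induction_on with
  | empty => simp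
  | @insert a s ha ih =>
    obtain ⟨h1, h2⟩ := ih fun i hi => hc i (Finset.mem_insert_of_mem hi)
    rw [Finset.sum_insert ha, Finset.prod_insert ha, Finset.card_insert_of_notMem ha]
    push_cast
    rcases hc a (Finset.mem_insert_self a s) with e | e <;> rcases h1 with e' | e' <;>
      rw [e, e'] <;> rw [e'] at h2 <;> constructor <;> omega

variable [IsSimpleGroup G]

/-- An involution of a perfect group has value congruent to the degree modulo 4. -/
theorem exists_int_mod_four (hG : ¬ IsMulCommutative G) (χ : Cfsg.IrrCharacter G) {t : G}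
    (ht : t * t = 1) : ∃ v : ℤ, (χ : G → ℂ) t = v ∧ (v - deg χ) % 4 = 0 := by
  classical
  obtain ⟨n, ρ, -, hχ⟩ := exists_rep χ
  obtain ⟨ι, hι, b, ζ, hb, hcard, htr⟩ :=
    Characters.Diag.exists_eigenbasis ρ t two_ne_zero (by rw [pow_two, ht])
  have : ∀ i, ∃ c : ℤ, ζ i = c ∧ (c = 1 ∨ c = -1) := fun i => by
    rcases sq_eq_one_iff.1 (hb i).2 with h | h
    · exact ⟨1, by simp [h], Or.inl rfl⟩
    · exact ⟨-1, by simp [h], Or.inr rfl⟩
  choose c hc hc' using this
  have hdet : LinearMap.det (ρ t) = ∏ i, ζ i := by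
    rw [← LinearMap.det_toMatrix b]
    have : LinearMap.toMatrix b b (ρ t) = Matrix.diagonal ζ := by
      ext i k
      rw [LinearMap.toMatrix_apply, (hb k).1, map_smul, Module.Basis.repr_self]
      rcases eq_or_ne i k with rfl | hik
      · simp
      · simp [Matrix.diagonal_apply_ne _ hik, Finsupp.single_eq_of_ne, hik, hik.symm]
    rw [this, Matrix.det_diagonal]
  have htriv : Clifford.Rep.detHom ρ t = 1 := by
    have h := Abelianization.commutator_subset_ker (Clifford.Rep.detHom ρ)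
    rw [SmallGroups.Sylow.commutator_eq_top hG] at h
    exact h (Subgroup.mem_top t)
  have hprod : ∏ i, c i = 1 := by
    have h : (LinearMap.det (ρ t) : ℂ) = 1 := by
      rw [← Clifford.Rep.detHom_apply, htriv, Units.val_one]
    rw [hdet, Finset.prod_congr rfl fun i _ => hc i] at h
    exact_mod_cast h
  have hdeg : deg χ = Fintype.card ι := by
    have h1 := apply_one χ
    rw [← hχ, Representation.char_one, ← hcard] at h1
    exact_mod_cast h1.symm
  refine ⟨∑ i, c i, ?_, ?_⟩
  · rw [← hχ, htr, Int.cast_sum]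
    exact Finset.sum_congr rfl fun i _ => hc i
  · obtain ⟨-, h⟩ := sum_sub_card Finset.univ c fun i _ => hc' i
    rw [hprod, sub_self, sub_zero, Finset.card_univ, ← hdeg] at h
    exact Int.emod_eq_zero_of_dvd h

/-- Values of non-trivial characters off the identity are smaller than the degree. -/
theorem norm_lt (hG : ¬ IsMulCommutative G) (χ : Cfsg.IrrCharacter G) (hne : χ ≠ oneChar G) {u : G}
    (hu : u ≠ 1) : ‖(χ : G → ℂ) u‖ < (deg χ : ℝ) := by
  classical
  obtain ⟨n, ρ, -, hχ⟩ := exists_rep χ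
  have hdeg : (Module.finrank ℂ (Fin n → ℂ) : ℂ) = (deg χ : ℂ) := by
    rw [← apply_one, ← hχ, Representation.char_one]
  have hdeg' : Module.finrank ℂ (Fin n → ℂ) = deg χ := by exact_mod_cast hdeg
  have hle := Characters.Diag.norm_char_le ρ u
  rw [hχ, hdeg'] at hle
  refine lt_of_le_of_ne hle fun he => hu ?_
  obtain ⟨ω, hω⟩ := Characters.Diag.exists_smul_of_norm_char_eq ρ u (by rw [hχ, hdeg', he])
  have hker : (MonoidHom.ker ρ : Subgroup G) = ⊥ := by
    rcases (MonoidHom.normal_ker ρ).eq_bot_or_eq_top with h | h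
    · exact h
    exfalso
    letI := Fintype.ofFinite G
    have htriv : ∀ g : G, (χ : G → ℂ) g = (deg χ : ℂ) := fun g => by
      have hg : g ∈ MonoidHom.ker ρ := h ▸ Subgroup.mem_top g
      rw [← apply_one, ← hχ]
      exact congrArg (LinearMap.trace ℂ _) ((MonoidHom.mem_ker.1 hg).trans (map_one ρ).symm)
    have h0 := classInner_irr_of_ne hne
    simp only [Cfsg.classInner, htriv, oneChar_apply, map_one, mul_one, Finset.sum_const,
      Finset.card_univ, nsmul_eq_mul, mul_eq_zero, inv_eq_zero] at h0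
    rcases h0 with h0 | h0 | h0
    · exact Nat.card_pos.ne' (Nat.cast_eq_zero.1 h0)
    · exact Fintype.card_ne_zero (Nat.cast_eq_zero.1 h0)
    · exact (H80.ClassMult.deg_spec χ).1.ne' (Nat.cast_eq_zero.1 h0)
  have hz : u ∈ Subgroup.center G := by
    rw [Subgroup.mem_center_iff]
    intro g
    have hg : g * u * (u * g)⁻¹ ∈ (MonoidHom.ker ρ : Subgroup G) := by
      rw [MonoidHom.mem_ker, map_mul]
      have e : ρ (g * u) = ρ (u * g) := by
        rw [map_mul, map_mul, hω, ← Module.End.one_eq_id, mul_smul_comm, smul_mul_assoc, one_mul, mul_one]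
      rw [e, ← map_mul, mul_inv_cancel, map_one]
    rw [hker, Subgroup.mem_bot, mul_inv_eq_one] at hg
    exact hg
  have hc : Subgroup.center G = ⊥ := by
    refine (inferInstance : (Subgroup.center G).Normal).eq_bot_or_eq_top.resolve_right fun h => hG ?_
    exact ⟨⟨fun a b => Subgroup.mem_center_iff.1 (h ▸ Subgroup.mem_top b) a⟩⟩
  rwa [hc, Subgroup.mem_bot] at hz

omit [IsSimpleGroup G]

/-- The map of the dihedral group of order 14 given by an inverted element of order 7. -/
noncomputable def dihedral {x t : G} (hx : orderOf x = 7) (ht : t * t = 1) (htx : t * x * t⁻¹ = x⁻¹) :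
    DihedralGroup 7 →* G :=
  MonoidHom.mk' (fun d => match d with
    | DihedralGroup.r i => x ^ i.val
    | DihedralGroup.sr i => t * x ^ i.val) (by
    have hadd : ∀ i j : ZMod 7, x ^ (i + j).val = x ^ i.val * x ^ j.val := fun i j => by
      rw [← pow_add, pow_eq_pow_iff_modEq, hx, ZMod.val_add]
      exact Nat.mod_modEq _ _
    have hsub : ∀ i j : ZMod 7, x ^ (j - i).val = (x ^ i.val)⁻¹ * x ^ j.val := fun i j => by
      rw [eq_inv_mul_iff_mul_eq, ← hadd, add_sub_cancel]
    have hcomm : ∀ k : ℕ, x ^ k * t = t * (x ^ k)⁻¹ := fun k => by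
      have h := conj_pow (a := t) (b := x) (i := k)
      rw [htx, inv_pow] at h
      have ht' : t⁻¹ = t := inv_eq_of_mul_eq_one_right ht
      rw [ht'] at h
      rw [h, ← mul_assoc, ← mul_assoc, ht, one_mul]
    rintro (i | i) (j | j)
    · exact hadd i j
    · show t * x ^ (j - i).val = x ^ i.val * (t * x ^ j.val)
      rw [hsub, ← mul_assoc, ← mul_assoc, hcomm]
    · show t * x ^ (i + j).val = t * x ^ i.val * x ^ j.val
      rw [hadd, mul_assoc]
    · show x ^ (j - i).val = t * x ^ i.val * (t * x ^ j.val)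
      rw [hsub, mul_assoc, ← mul_assoc (x ^ i.val), hcomm, mul_assoc t (x ^ i.val)⁻¹, ← mul_assoc t t, ht,
        one_mul])

/-- The sign of the dihedral group. -/
noncomputable def sgn : DihedralGroup 7 →* ℂˣ :=
  MonoidHom.mk' (fun d => match d with
    | DihedralGroup.r _ => 1
    | DihedralGroup.sr _ => -1) (by rintro (i | i) (j | j) <;> simp)

/-- The values at an element of order 7 conjugate to all its non-trivial powers and at an involution
inverting it. -/
theorem exists_seven {x t : G} (hx : orderOf x = 7) (ht : t * t = 1) (htx : t * x * t⁻¹ = x⁻¹)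
    (hconj : ∀ k : ℕ, ¬ 7 ∣ k → IsConj x (x ^ k)) (χ : Cfsg.IrrCharacter G) {v : ℤ}
    (hv : (χ : G → ℂ) t = v) :
    ∃ a : ℤ, (χ : G → ℂ) x = a ∧ ((deg χ : ℤ) - a) % 7 = 0 ∧ ((deg χ : ℤ) + 6 * a + 7 * v) % 14 = 0 ∧
      -((deg χ : ℤ) + 6 * a) ≤ 7 * v ∧ 7 * v ≤ (deg χ : ℤ) + 6 * a := by
  classical
  have hcf := isClassFunction_irr χ
  have hrefl : ∀ i : ZMod 7, IsConj t (t * x ^ i.val) := fun i => by
    refine isConj_iff.2 ⟨x ^ (3 * i.val), ?_⟩
    have h := conj_pow (a := t) (b := x) (i := 3 * i.val)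
    rw [htx, inv_pow] at h
    have ht' : t⁻¹ = t := inv_eq_of_mul_eq_one_right ht
    have e : x ^ (3 * i.val) * t = t * (x ^ (3 * i.val))⁻¹ := by
      rw [h, ht', ← mul_assoc, ← mul_assoc, ht, one_mul]
    rw [e, mul_assoc, ← mul_inv_rev, ← pow_add]
    congr 1
    rw [inv_eq_iff_mul_eq_one, ← pow_add, ← orderOf_dvd_iff_pow_eq_one, hx]
    omega
  have hr : ∑ i : ZMod 7, (χ : G → ℂ) (x ^ i.val) = (deg χ : ℂ) + 6 * (χ : G → ℂ) x := by
    rw [← Finset.add_sum_erase _ _ (Finset.mem_univ (0 : ZMod 7)), ZMod.val_zero, pow_zero, apply_one,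
      Finset.sum_congr rfl (g := fun _ => (χ : G → ℂ) x) fun i hi => ?_, Finset.sum_const,
      Finset.card_erase_of_mem (Finset.mem_univ _), Finset.card_univ, ZMod.card, nsmul_eq_mul]
    · norm_num
    · refine (classFunction_apply_of_isConj hcf (hconj _ fun hd => ?_)).symm
      have h0 : i.val ≠ 0 := fun e => (Finset.mem_erase.1 hi).1 ((ZMod.val_eq_zero i).1 e)
      have := ZMod.val_lt i
      have := Nat.le_of_dvd (Nat.pos_of_ne_zero h0) hd
      omega
  have hs : ∑ i : ZMod 7, (χ : G → ℂ) (t * x ^ i.val) = 7 * (v : ℂ) := by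
    rw [Finset.sum_congr rfl (g := fun _ => (v : ℂ)) fun i _ => by
        rw [← classFunction_apply_of_isConj hcf (hrefl i), hv],
      Finset.sum_const, Finset.card_univ, ZMod.card, nsmul_eq_mul]
    norm_num
  have key : ∀ lam : DihedralGroup 7 →* ℂˣ, ∃ n : ℕ,
      ∑ i : ZMod 7, (χ : G → ℂ) (x ^ i.val) * conj ((lam (DihedralGroup.r i) : ℂˣ) : ℂ) +
        ∑ i : ZMod 7, (χ : G → ℂ) (t * x ^ i.val) * conj ((lam (DihedralGroup.sr i) : ℂˣ) : ℂ) =
          14 * (n : ℂ) := by
    intro lam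
    obtain ⟨n, hn⟩ := exists_classInner_nat (isCharacter_comp (dihedral hx ht htx) (isCharacter_irr χ))
      (isCharacter_irr (linChar lam))
    refine ⟨n, ?_⟩
    rw [← hn, Cfsg.classInner, DihedralGroup.nat_card, ← mul_assoc,
      show (14 : ℂ) * ((2 * 7 : ℕ) : ℂ)⁻¹ = 1 by norm_num, one_mul,
      ← (DihedralGroup.equivSum (n := 7)).symm.sum_comp, Fintype.sum_sum_type]
    rfl
  obtain ⟨n₁, h1⟩ := key 1
  obtain ⟨n₂, h2⟩ := key sgn
  simp only [MonoidHom.one_apply, Units.val_one, map_one, mul_one, hr, hs] at h1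
  have e1 : ∀ i : ZMod 7, ((sgn (DihedralGroup.r i) : ℂˣ) : ℂ) = 1 := fun i => by simp [sgn]
  have e2 : ∀ i : ZMod 7, ((sgn (DihedralGroup.sr i) : ℂˣ) : ℂ) = -1 := fun i => by simp [sgn]
  simp only [e1, e2, map_one, map_neg, mul_one, mul_neg, Finset.sum_neg_distrib, hr, hs] at h2
  obtain ⟨a, ha⟩ := Glauberman.Cyclic.exists_int_of_isIntegral (n := 6)
    (z := 7 * ((n₁ : ℤ) + n₂) - deg χ) (isIntegral_apply (isCharacter_irr χ) x) (by norm_num)
    (by push_cast; linear_combination (h1 + h2) / 2)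
  rw [ha] at h1 h2
  have i1 : (deg χ : ℤ) + 6 * a + 7 * v = 14 * n₁ := by exact_mod_cast h1
  have i2 : (deg χ : ℤ) + 6 * a + -(7 * v) = 14 * n₂ := by exact_mod_cast h2
  exact ⟨a, ha, by omega, by omega, by omega, by omega⟩

end Cfsg.Agent.Lib.U33Recog.Chars
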