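import Cfsg.Agent.Lib.U33Recog.Build

/-!
Every simple group under consideration follows one of the coded models.
-/

set_option autoImplicit false
set_option linter.unusedSectionVars false
set_option maxRecDepth 100000

namespace Cfsg.Agent.Lib.U33Recog

open Subgroup Model
open Cfsg.Agent.Lib.SmallGroups
open scoped commutatorElement

variable {T : Type*} [Group T] [Finite T]

/-- the image of the central coordinate -/
def wcode (b : Bool) (u v t : ℕ) : ℕ :=
  cond b (mulC true (invC true (mulC true v u)) (mulC true u v)) t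

/-- a linear map of the plane, on codes below 9 -/
def mat (u v x : ℕ) : ℕ := lin false u v 9 x

theorem mat_table : allB 2 (fun k => allB 9 fun u => allB 9 fun v => allB 9 fun x => allB 2 fun t =>
    Nat.beq (lin (Nat.beq k 1) u v (wcode (Nat.beq k 1) u v (Nat.mul 9 (Nat.add t 1))) x) (mat u v x) &&
      Nat.blt (mat u v x) 9) = true := by
  decide +kernel

theorem mat_facts (b : Bool) {u v x t : ℕ} (hu : u < 9) (hv : v < 9) (hx : x < 9) (ht : t = 9 ∨ t = 18) :
    lin b u v (wcode b u v t) x = mat u v x ∧ mat u v x < 9 := by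
  obtain ⟨k, hk, rfl⟩ : ∃ k < 2, Nat.beq k 1 = b := by
    cases b
    exacts [⟨0, by norm_num, rfl⟩, ⟨1, by norm_num, rfl⟩]
  obtain ⟨s, hs, rfl⟩ : ∃ s < 2, Nat.mul 9 (Nat.add s 1) = t := by
    rcases ht with rfl | rfl
    exacts [⟨0, by norm_num, rfl⟩, ⟨1, by norm_num, rfl⟩]
  have := allB_iff.1 (allB_iff.1 (allB_iff.1 (allB_iff.1 (allB_iff.1 mat_table k hk) u hu) v hv) x hx) s hs
  simp only [Bool.and_eq_true, Nat.blt_eq] at this
  exact ⟨Nat.eq_of_beq_eq_true this.1, this.2⟩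

theorem small_table : allB 2 (fun k => allB 27 fun x =>
    (!(Nat.beq (dA x) 0 && Nat.beq (dB x) 0 && Nat.beq (dE (Nat.beq k 1) x) 0) || Nat.beq x 0) &&
      (!Nat.beq (lin (Nat.beq k 1) 2 6 9 x) (invC (Nat.beq k 1) x) || Nat.blt x 9) &&
      (!Nat.blt x 9 || Nat.beq (lin (Nat.beq k 1) 2 6 9 x) (invC (Nat.beq k 1) x))) = true := by
  decide +kernel

theorem small_facts (b : Bool) {x : ℕ} (hx : x < 27) :
    (dA x = 0 → dB x = 0 → dE b x = 0 → x = 0) ∧
      (lin b 2 6 9 x = invC b x ↔ x < 9) := by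
  obtain ⟨k, hk, rfl⟩ : ∃ k < 2, Nat.beq k 1 = b := by
    cases b
    exacts [⟨0, by norm_num, rfl⟩, ⟨1, by norm_num, rfl⟩]
  have := allB_iff.1 (allB_iff.1 small_table k hk) x hx
  simp only [Bool.and_eq_true, Bool.or_eq_true] at this
  obtain ⟨⟨h1, h2⟩, h3⟩ := this
  refine ⟨fun a c d => ?_, fun e => ?_, fun e => ?_⟩
  · rcases h1 with h | h
    · rw [a, c, d] at h; simp at h
    · exact Nat.eq_of_beq_eq_true h
  · rcases h2 with h | h
    · rw [e, Nat.beq_refl] at h; simp at h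
    · exact Nat.blt_eq ▸ (by simpa [Nat.blt] using h)
  · rcases h3 with h | h
    · have : Nat.blt x 9 = true := by simpa [Nat.blt] using e
      rw [this] at h; simp at h
    · exact Nat.eq_of_beq_eq_true h

/-- Coordinates adapted to a central involution `j`. -/
structure Adapted (P : Sylow 3 T) (j : T) {b : Bool} (F : Frame T b) : Prop where
  ab : b = false → Ab (P : Subgroup T)
  na : b = true → ¬ Ab (P : Subgroup T)
  i1 : inI P j F.e1
  i2 : inI P j F.e2
  zL : F.z ∈ Lj P j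
  z1 : F.z ≠ 1
  zdef : b = true → F.z = (F.e2 * F.e1)⁻¹ * (F.e1 * F.e2)
  n1 : F.e1 ≠ 1
  n2 : F.e2 ≠ 1
  n12 : F.e2 ≠ F.e1
  n12' : F.e2 ≠ F.e1⁻¹

/-- `g` acts on the inverted elements as the linear map `(u, v)` -/
def Act {b : Bool} (F : Frame T b) (g : T) (u v : ℕ) : Prop :=
  u < 9 ∧ v < 9 ∧ ∀ x < 9, g * F.Ψ x * g⁻¹ = F.Ψ (mat u v x)

namespace Piv

variable {P Q : Sylow 3 T} {j : T} (hT : Hyp T) (h28 : Nat.card (Sylow 3 T) = 28) (hj : Piv P Q j)
include hT h28 hj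

/-- An involution other than `j` fixes a non-trivial inverted element and inverts the fixed part of `j`. -/
theorem other_involution {c : T} (hc : c ∈ stabH P Q) (hc2 : c * c = 1) (hc1 : c ≠ 1) (hcj : c ≠ j) :
    (∃ e, inI P j e ∧ e ≠ 1 ∧ c * e * c⁻¹ = e) ∧ ∀ l ∈ Lj P j, c * l * c⁻¹ = l → l = 1 := by
  classical
  haveI := three_prime
  have h3 := hT.card_centralized h28 hj.ne hc hc2 hc1
  have hne : ¬ Lj P j ≤ Lj P c := by
    intro hle
    have heq : Lj P j = Lj P c := Subgroup.eq_of_le_of_card_ge hle (by rw [h3, hj.card_Lj hT h28])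
    -- then `c` inverts all inverted elements
    have hinv : ∀ x, inI P j x → c * x * c⁻¹ = x⁻¹ := by
      intro x hx
      have hx' := hj.conj_inI hc hx
      obtain ⟨i, l, hi, hl, e⟩ := hj.exists_split hT h28 (mul_mem hx.1 hx'.1)
      have hcm := hj.comm_mem_Lj hT h28 hx'.1 hx.1
      -- `c` fixes the class of `i`
      have e3 : c * i * c⁻¹ ∈ (P : Subgroup T) := conj_mem hc.1 hi.1
      obtain ⟨hcl, hcl'⟩ : c * l * c⁻¹ = l ∧ True := ⟨by
        rw [heq] at hl
        exact mul_inv_eq_iff_eq_mul.2 (mem_Lj.1 hl).2.symm, trivial⟩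
      set k := (c * x * c⁻¹)⁻¹ * x⁻¹ * (c * x * c⁻¹) * x with hk
      have e4 : c * (x * (c * x * c⁻¹)) * c⁻¹ = x * (c * x * c⁻¹) * k := by
        have hcc : c * (c * x * c⁻¹) * c⁻¹ = x := by
          rw [show c * (c * x * c⁻¹) * c⁻¹ = (c * c) * x * (c * c)⁻¹ by group, hc2]; group
        calc c * (x * (c * x * c⁻¹)) * c⁻¹ = (c * x * c⁻¹) * (c * (c * x * c⁻¹) * c⁻¹) := by group
          _ = (c * x * c⁻¹) * x := by rw [hcc]
          _ = _ := by rw [hk]; group
      have e5 : c * i * c⁻¹ = i * k := by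
        have hkl : l * k = k * l := (hj.Lj_central hT h28 hl (mem_Lj.1 hcm).1)
        rw [e, show c * (i * l) * c⁻¹ = c * i * c⁻¹ * (c * l * c⁻¹) by group, hcl, mul_assoc i, hkl,
          ← mul_assoc] at e4
        exact mul_right_cancel e4
      have hk1 : k = 1 := hj.eq_of_inI hT h28 hi (hj.conj_inI hc hi) hcm e5
      rw [hk1, mul_one] at e5
      have hiL : i ∈ Lj P j := heq.symm ▸ mem_Lj.2 ⟨hi.1, (mul_inv_eq_iff_eq_mul.1 e5).symm⟩
      have hi1 : i = 1 := by
        refine hj.eq_of_inI hT h28 (hj.inI_one) hi hiL (one_mul i).symm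
      rw [hi1, one_mul] at e
      -- `x (cxc) ∈ L`
      have e6 : c * x * c⁻¹ = x⁻¹ * l := by rw [← e]; group
      have := hj.eq_of_inI hT h28 (hj.inI_inv hx) hx' hl e6
      rw [this, mul_one] at e6
      exact e6
    have hcj' : c * j = 1 := hj.eq_one_of_fixes_inI hT h28 (mul_mem hc hj.memH) fun x hx => by
      refine mul_inv_eq_iff_eq_mul.1 ?_
      rw [show c * j * x * (c * j)⁻¹ = c * (j * x * j⁻¹) * c⁻¹ by group, hx.2,
        hinv _ (hj.inI_inv hx), inv_inv]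
    exact hcj ((mul_eq_one_iff_eq_inv.1 hcj').trans hj.inv_eq)
  have hne' : ¬ Lj P c ≤ Lj P j := fun hle => hne (Subgroup.eq_of_le_of_card_ge hle
    (by rw [h3, hj.card_Lj hT h28])).ge
  obtain ⟨e, he, hej⟩ := SetLike.not_le_iff_exists.1 hne'
  obtain ⟨heP, hec⟩ := mem_Lj.1 he
  have hinf : ∀ l, l ∈ Lj P c → l ∈ Lj P j → l = 1 := by
    intro l hlc hlj
    by_contra hl1
    have h1 : zpowers l = Lj P c := Subgroup.eq_of_le_of_card_ge (zpowers_le.2 hlc)
      (by rw [h3, Nat.card_zpowers, hT.orderOf_eq_three P.2 (mem_Lj.1 hlc).1 hl1])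
    exact hne' (h1 ▸ zpowers_le.2 hlj)
  refine ⟨⟨e, ⟨heP, ?_⟩, fun e1 => hej (e1 ▸ one_mem _), mul_inv_eq_iff_eq_mul.2 hec.symm⟩,
    fun l hl e' => hinf l (mem_Lj.2 ⟨(mem_Lj.1 hl).1, (mul_inv_eq_iff_eq_mul.1 e').symm⟩) hl⟩
  -- `j` normalises the group fixed by `c`, of order 3, and moves `e`
  have hje : j * e * j⁻¹ ∈ Lj P c := by
    refine mem_Lj.2 ⟨conj_mem hj.memP heP, ?_⟩
    have hjc := hj.comm c hc
    calc j * e * j⁻¹ * c = j * e * (j⁻¹ * c) := by group
      _ = j * (e * c) * j⁻¹ := by rw [hj.inv_eq, hjc]; group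
      _ = (j * c) * e * j⁻¹ := by rw [hec]; group
      _ = c * (j * e * j⁻¹) := by rw [hjc]; group
  have hgen : zpowers e = Lj P c := Subgroup.eq_of_le_of_card_ge (zpowers_le.2 he)
    (by rw [h3, Nat.card_zpowers, hT.orderOf_eq_three P.2 heP (fun e1 => hej (e1 ▸ one_mem _))])
  rw [← hgen] at hje
  obtain ⟨n, hn⟩ := mem_powers_iff_mem_zpowers.2 hje
  have hn' : e ^ n = j * e * j⁻¹ := hn
  rw [pow_eq_pow_mod n (hT.pow_three_of_mem heP)] at hn'
  rcases (show n % 3 = 0 ∨ n % 3 = 1 ∨ n % 3 = 2 by omega) with h | h | h <;> rw [h] at hn'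
  · rw [pow_zero] at hn'
    exact absurd (conj_eq_one_iff.1 hn'.symm) fun e1 => hej (e1 ▸ one_mem _)
  · rw [pow_one] at hn'
    exact absurd (mem_Lj.2 ⟨heP, (mul_inv_eq_iff_eq_mul.1 hn'.symm).symm⟩) hej
  · rw [← hn']
    exact eq_inv_of_mul_eq_one_left (by rw [← pow_succ]; exact hT.pow_three_of_mem heP)

/-- Not every element of the stabiliser fixes the fixed part of `j`, for abelian `P`. -/
theorem exists_inverting (hab : Ab (P : Subgroup T)) : ∃ h ∈ stabH P Q, ∀ l ∈ Lj P j, h * l * h⁻¹ = l⁻¹ := by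
  classical
  haveI := three_prime
  obtain ⟨l, hl, hl1⟩ : ∃ l ∈ Lj P j, l ≠ 1 := by
    by_contra hc
    push Not at hc
    have := hj.card_Lj hT h28
    rw [(Subgroup.eq_bot_iff_forall _).2 hc, Subgroup.card_bot] at this; omega
  have hgen : zpowers l = Lj P j := Subgroup.eq_of_le_of_card_ge (zpowers_le.2 hl)
    (by rw [hj.card_Lj hT h28, Nat.card_zpowers, hT.orderOf_eq_three P.2 (mem_Lj.1 hl).1 hl1])
  by_contra hc
  push Not at hc
  have hfix : ∀ h ∈ stabH P Q, ∀ s ∈ Lj P j, h * s * h⁻¹ = s := by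
    intro h hh
    have h1 := hj.conj_Lj hh hl
    rw [← hgen] at h1
    obtain ⟨n, hn⟩ := mem_powers_iff_mem_zpowers.2 h1
    have hn' : l ^ n = h * l * h⁻¹ := hn
    rw [pow_eq_pow_mod n (hT.pow_three_of_mem (mem_Lj.1 hl).1)] at hn'
    intro s hs
    rw [← hgen] at hs
    obtain ⟨k, rfl⟩ := mem_zpowers_iff.1 hs
    rcases (show n % 3 = 0 ∨ n % 3 = 1 ∨ n % 3 = 2 by omega) with e | e | e <;> rw [e] at hn'
    · rw [pow_zero] at hn'
      exact absurd (conj_eq_one_iff.1 hn'.symm) hl1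
    · rw [pow_one] at hn'
      rw [← conj_zpow, ← hn']
    · exfalso
      obtain ⟨s', hs', hne⟩ := hc h hh
      refine hne ?_
      rw [← hgen] at hs'
      obtain ⟨k', rfl⟩ := mem_zpowers_iff.1 hs'
      rw [← conj_zpow, ← hn', show l ^ 2 = l⁻¹ from eq_inv_of_mul_eq_one_left (by
        rw [← pow_succ]; exact hT.pow_three_of_mem (mem_Lj.1 hl).1), inv_zpow]
  -- the fixed component is a homomorphism on the normalizer
  let ψ : T → T := fun y => y * (j * y * j⁻¹)
  have hψL : ∀ y ∈ (P : Subgroup T), ψ y ∈ Lj P j := by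
    intro y hy
    refine mem_Lj.2 ⟨mul_mem hy (conj_mem hj.memP hy), ?_⟩
    have hm := conj_mem hj.memP hy
    calc y * (j * y * j⁻¹) * j = (y * (j * y * j⁻¹)) * j := rfl
      _ = ((j * y * j⁻¹) * y) * j := by rw [hab y hy _ hm]
      _ = j * (y * (j * y * j⁻¹)) := by
        rw [hj.inv_eq]
        calc j * y * j * y * j = j * (y * (j * y * j)) := by group
          _ = _ := rfl
  have hψm : ∀ y ∈ (P : Subgroup T), ∀ y' ∈ (P : Subgroup T), ψ (y * y') = ψ y * ψ y' := by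
    intro y hy y' hy'
    have hm := conj_mem hj.memP hy
    calc y * y' * (j * (y * y') * j⁻¹) = y * (y' * (j * y * j⁻¹)) * (j * y' * j⁻¹) := by group
      _ = y * ((j * y * j⁻¹) * y') * (j * y' * j⁻¹) := by rw [hab y' hy' _ hm]
      _ = y * (j * y * j⁻¹) * (y' * (j * y' * j⁻¹)) := by group
  have hdec : ∀ g : ↥(Nm (P : Subgroup T)), ∃ y ∈ (P : Subgroup T), ∃ h ∈ stabH P Q, g.1 = y * h :=
    fun g => hT.decomp h28 hj.ne g.2
  choose yf hyf hf hhf hgf using hdec
  let Φ : ↥(Nm (P : Subgroup T)) →* ↥(Lj P j) :=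
    MonoidHom.mk' (fun g => ⟨ψ (yf g), hψL _ (hyf g)⟩) fun g g' => by
      apply Subtype.ext
      show ψ (yf (g * g')) = ψ (yf g) * ψ (yf g')
      have hy' : hf g * yf g' * (hf g)⁻¹ ∈ (P : Subgroup T) := conj_mem (hhf g).1 (hyf g')
      have e : yf (g * g') = yf g * (hf g * yf g' * (hf g)⁻¹) := by
        have e1 : (g * g').1 = yf g * (hf g * yf g' * (hf g)⁻¹) * (hf g * hf g') := by
          show g.1 * g'.1 = _
          rw [hgf g, hgf g']; group
        rw [hgf (g * g')] at e1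
        have e2 : (yf g * (hf g * yf g' * (hf g)⁻¹))⁻¹ * yf (g * g') = hf g * hf g' * (hf (g * g'))⁻¹ := by
          rw [eq_mul_inv_iff_mul_eq, mul_assoc, e1]; group
        exact (inv_mul_eq_one.1 (hT.eq_one_of_mem_both h28 hj.ne
          (mul_mem (inv_mem (mul_mem (hyf g) hy')) (hyf _))
          (e2.symm ▸ mul_mem (mul_mem (hhf g) (hhf g')) (inv_mem (hhf _))))).symm
      rw [e, hψm _ (hyf g) _ hy']
      congr 1
      have hcj := hj.comm (hf g) (hhf g)
      have e3 : ψ (hf g * yf g' * (hf g)⁻¹) = hf g * ψ (yf g') * (hf g)⁻¹ := by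
        show hf g * yf g' * (hf g)⁻¹ * (j * (hf g * yf g' * (hf g)⁻¹) * j⁻¹) =
          hf g * (yf g' * (j * yf g' * j⁻¹)) * (hf g)⁻¹
        rw [show j * (hf g * yf g' * (hf g)⁻¹) * j⁻¹ = (j * hf g) * yf g' * (j * hf g)⁻¹ by group, hcj]
        group
      rw [e3, hfix _ (hhf g) _ (hψL _ (hyf g'))]
  have hker : ⁅Nm (P : Subgroup T), Nm (P : Subgroup T)⁆ ≤ Φ.ker.map (Nm (P : Subgroup T)).subtype := by
    rw [Subgroup.commutator_le]
    intro a ha b hb
    refine ⟨⁅(⟨a, ha⟩ : ↥(Nm (P : Subgroup T))), ⟨b, hb⟩⁆, ?_,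
      map_commutatorElement (Nm (P : Subgroup T)).subtype _ _⟩
    rw [SetLike.mem_coe, MonoidHom.mem_ker, map_commutatorElement, commutatorElement_eq_one_iff_mul_comm]
    exact Subtype.ext (hab _ (mem_Lj.1 (Φ ⟨a, ha⟩).2).1 _ (mem_Lj.1 (Φ ⟨b, hb⟩).2).1)
  obtain ⟨g, hg, hgl⟩ := hker (hT.le_commutator P (mem_Lj.1 hl).1)
  have hg' : ψ (yf g) = 1 := congrArg Subtype.val hg
  have hgl' : g.1 = l := hgl
  have hy : yf g = l := by
    have e2 : l⁻¹ * yf g = (hf g)⁻¹ := by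
      rw [← hgl', hgf g]; group
    exact (inv_mul_eq_one.1 (hT.eq_one_of_mem_both h28 hj.ne
      (mul_mem (inv_mem (mem_Lj.1 hl).1) (hyf g)) (e2.symm ▸ inv_mem (hhf g)))).symm
  rw [hy] at hg'
  have hfl : j * l * j⁻¹ = l := mul_inv_eq_iff_eq_mul.2 (mem_Lj.1 hl).2.symm
  have hll : l * l = 1 := by
    have : l * (j * l * j⁻¹) = 1 := hg'
    rwa [hfl] at this
  have h3 := hT.pow_three_of_mem (mem_Lj.1 hl).1
  rw [pow_succ, pow_two, hll, one_mul] at h3
  exact hl1 h3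

theorem coord_zero {e1 e2 z : T} (h1 : inI P j e1) (h2 : inI P j e2) (hz : z ∈ Lj P j) (hz1 : z ≠ 1) (n1 : e1 ≠ 1)
    (n2 : e2 ≠ 1) (n12 : e2 ≠ e1) (n12' : e2 ≠ e1⁻¹) {a c d : ℕ} (ha : a < 3) (hc : c < 3) (hd : d < 3)
    (h : e1 ^ a * e2 ^ c * z ^ d = 1) : a = 0 ∧ c = 0 ∧ d = 0 := by
  have hpow : ∀ {e : T}, inI P j e → ∀ n : ℕ, inI P j (e ^ n) := fun {e} he n =>
    ⟨pow_mem he.1 n, by rw [← conj_pow, he.2, inv_pow]⟩
  have hL : e1 ^ a * e2 ^ c = (z ^ d)⁻¹ := eq_inv_of_mul_eq_one_left h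
  have hm : (z ^ d)⁻¹ ∈ Lj P j := inv_mem (pow_mem hz d)
  have e : e2 ^ c = (e1 ^ a)⁻¹ * (z ^ d)⁻¹ := by rw [← hL]; group
  have hl := hj.eq_of_inI hT h28 (hj.inI_inv (hpow h1 a)) (hpow h2 c) hm e
  rw [hl, mul_one] at e
  have hd0 : d = 0 := by
    rw [inv_eq_one] at hl
    rcases (show d = 0 ∨ d = 1 ∨ d = 2 by omega) with r | r | r
    · exact r
    · rw [r, pow_one] at hl; exact absurd hl hz1
    · rw [r] at hl
      have h3 := hT.pow_three_of_mem (mem_Lj.1 hz).1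
      rw [pow_succ, hl, one_mul] at h3
      exact absurd h3 hz1
  have p1 := hT.pow_three_of_mem h1.1
  have p2 := hT.pow_three_of_mem h2.1
  have i1 : e1 ^ 2 = e1⁻¹ := eq_inv_of_mul_eq_one_left (by rw [← pow_succ]; exact p1)
  have i2 : e2 ^ 2 = e2⁻¹ := eq_inv_of_mul_eq_one_left (by rw [← pow_succ]; exact p2)
  rcases (show a = 0 ∨ a = 1 ∨ a = 2 by omega) with r | r | r <;>
    rcases (show c = 0 ∨ c = 1 ∨ c = 2 by omega) with s | s | s <;>
    rw [r, s] at e <;> simp only [pow_zero, pow_one, i1, i2, inv_one, inv_inv] at e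
  · exact ⟨r, s, hd0⟩
  · exact absurd e n2
  · exact absurd (inv_eq_one.1 e) n2
  · exact absurd (inv_eq_one.1 e.symm) n1
  · exact absurd e n12'
  · exact absurd (inv_injective e) n12
  · exact absurd e.symm n1
  · exact absurd e n12
  · exact absurd (by rw [← e, inv_inv]) n12'

/-- Two independent inverted elements give coordinates. -/
theorem exists_frame {e1 e2 : T} (h1 : inI P j e1) (h2 : inI P j e2) (n1 : e1 ≠ 1) (n2 : e2 ≠ 1)
    (n12 : e2 ≠ e1) (n12' : e2 ≠ e1⁻¹) :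
    ∃ (b : Bool) (F : Frame T b), Adapted P j F ∧ F.e1 = e1 ∧ F.e2 = e2 := by
  classical
  have hcen : ∀ {l x : T}, l ∈ Lj P j → x ∈ (P : Subgroup T) → l * x = x * l := fun hl hx =>
    hj.Lj_central hT h28 hl hx
  by_cases hab : Ab (P : Subgroup T)
  · obtain ⟨l, hl, hl1⟩ : ∃ l ∈ Lj P j, l ≠ 1 := by
      by_contra hc
      push Not at hc
      have := hj.card_Lj hT h28
      rw [(Subgroup.eq_bot_iff_forall _).2 hc, Subgroup.card_bot] at this; omega
    refine ⟨false,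
      { e1 := e1, e2 := e2, z := l
        p1 := hT.pow_three_of_mem h1.1, p2 := hT.pow_three_of_mem h2.1
        pz := hT.pow_three_of_mem (mem_Lj.1 hl).1
        c1 := hcen hl h1.1, c2 := hcen hl h2.1
        c12 := by rw [show tw false = 0 from rfl, pow_zero, mul_one]; exact hab _ h2.1 _ h1.1 },
      ⟨fun _ => hab, fun h => by simp at h, h1, h2, hl, hl1, fun h => by simp at h, n1, n2, n12, n12'⟩, rfl, rfl⟩
  · set z := (e2 * e1)⁻¹ * (e1 * e2) with hz
    have hzL : z ∈ Lj P j := by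
      rw [hz, show (e2 * e1)⁻¹ * (e1 * e2) = e1⁻¹ * e2⁻¹ * e1 * e2 by group]
      exact hj.comm_mem_Lj hT h28 h1.1 h2.1
    have hz3 := hT.pow_three_of_mem (mem_Lj.1 hzL).1
    have hz1 : z ≠ 1 := by
      intro e
      have hcomm : e2 * e1 = e1 * e2 := inv_mul_eq_one.1 e
      refine hab ?_
      have hgen : ∀ x ∈ (P : Subgroup T), ∀ y, (y = e1 ∨ y = e2) → x * y = y * x → True := fun _ _ _ _ _ => trivial
      obtain ⟨l, hl, hl1⟩ : ∃ l ∈ Lj P j, l ≠ 1 := by
        by_contra hc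
        push Not at hc
        have := hj.card_Lj hT h28
        rw [(Subgroup.eq_bot_iff_forall _).2 hc, Subgroup.card_bot] at this; omega
      let F0 : Frame T false :=
        { e1 := e1, e2 := e2, z := l
          p1 := hT.pow_three_of_mem h1.1, p2 := hT.pow_three_of_mem h2.1
          pz := hT.pow_three_of_mem (mem_Lj.1 hl).1
          c1 := hcen hl h1.1, c2 := hcen hl h2.1
          c12 := by rw [show tw false = 0 from rfl, pow_zero, mul_one]; exact hcomm }
      have hinj : ∀ x < 27, F0.Ψ x = 1 → x = 0 := by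
        intro x hx hx1
        have hA : dA x < 3 := Nat.mod_lt _ (by norm_num)
        have hB : dB x < 3 := Nat.mod_lt _ (by norm_num)
        have hE : dE false x < 3 := Nat.mod_lt _ (by norm_num)
        obtain ⟨a, c, d⟩ := hj.coord_zero hT h28 h1 h2 hl hl1 n1 n2 n12 n12' hA hB hE hx1
        exact (small_facts false hx).1 a c d
      have hmul : ∀ x y, x < 27 → y < 27 → F0.Ψ x = F0.Ψ y → x = y := by
        intro x y hx hy e
        have hi := invC_lt false hx
        have e2 := F0.Ψ_mul hi hy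
        rw [F0.Ψ_inv hx, e, inv_mul_cancel] at e2
        have h0 := hinj _ (mulC_facts false hi hy).1 e2
        have e3 := (mulC_facts false hx hy).2.1
        have e4 := (mulC_facts false hx hy).1
        have : mulC false x (mulC false (invC false x) y) = y := by
          have hh := (mulC_facts false hi hy).2.1
          rwa [show invC false (invC false x) = x by
            have t : allB 27 (fun x => Nat.beq (invC false (invC false x)) x) = true := by decide +kernel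
            exact Nat.eq_of_beq_eq_true (allB_iff.1 t x hx)] at hh
        rw [h0, (mulC_facts false hx hx).2.2.1] at this
        exact this
      let f : Fin 27 → (P : Subgroup T) := fun k => ⟨F0.Ψ k.val,
        mul_mem (mul_mem (pow_mem h1.1 _) (pow_mem h2.1 _)) (pow_mem (mem_Lj.1 hl).1 _)⟩
      have hf : Function.Bijective f := Function.Injective.bijective_of_nat_card_le
        (fun a c e => Fin.ext (hmul _ _ a.2 c.2 (congrArg Subtype.val e)))
        (by rw [hT.card_sylow, Nat.card_eq_fintype_card, Fintype.card_fin])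
      intro x hx y hy
      obtain ⟨a, ha⟩ := hf.2 ⟨x, hx⟩
      obtain ⟨c, hc⟩ := hf.2 ⟨y, hy⟩
      have ha' : F0.Ψ a.val = x := congrArg Subtype.val ha
      have hc' : F0.Ψ c.val = y := congrArg Subtype.val hc
      rw [← ha', ← hc', ← F0.Ψ_mul a.2 c.2, ← F0.Ψ_mul c.2 a.2]
      congr 1
      have t : allB 27 (fun x => allB 27 fun y => Nat.beq (mulC false x y) (mulC false y x)) = true := by
        decide +kernel
      exact Nat.eq_of_beq_eq_true (allB_iff.1 (allB_iff.1 t a.val a.2) c.val c.2)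
    refine ⟨true,
      { e1 := e1, e2 := e2, z := z
        p1 := hT.pow_three_of_mem h1.1, p2 := hT.pow_three_of_mem h2.1
        pz := hz3
        c1 := hcen hzL h1.1, c2 := hcen hzL h2.1
        c12 := by
          rw [show tw true = 2 from rfl, show z ^ 2 = z⁻¹ from eq_inv_of_mul_eq_one_left (by
            rw [← pow_succ]; exact hz3), hz]
          group },
      ⟨fun h => by simp at h, fun _ => hab, h1, h2, hzL, hz1, fun _ => rfl, n1, n2, n12, n12'⟩, rfl, rfl⟩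

variable {b : Bool} {F : Frame T b} (hF : Adapted P j F)
include hF

theorem Ψ_mem (x : ℕ) : F.Ψ x ∈ (P : Subgroup T) :=
  mul_mem (mul_mem (pow_mem hF.i1.1 _) (pow_mem hF.i2.1 _)) (pow_mem (mem_Lj.1 hF.zL).1 _)

theorem Ψ_inj {x : ℕ} (hx : x < 27) {y : ℕ} (hy : y < 27) (e : F.Ψ x = F.Ψ y) : x = y := by
  have hi := invC_lt b hx
  have e2 := F.Ψ_mul hi hy
  rw [F.Ψ_inv hx, e, inv_mul_cancel] at e2
  have hlt := (mulC_facts b hi hy).1
  obtain ⟨a, c, d⟩ := hj.coord_zero hT h28 hF.i1 hF.i2 hF.zL hF.z1 hF.n1 hF.n2 hF.n12 hF.n12'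
    (Nat.mod_lt _ (by norm_num)) (Nat.mod_lt _ (by norm_num)) (Nat.mod_lt _ (by norm_num)) e2
  have h0 := (small_facts b hlt).1 a c d
  have hh := (mulC_facts b hi hy).2.1
  rw [h0] at hh
  have hii : invC b (invC b x) = x := by
    have t : allB 2 (fun k => allB 27 fun x => Nat.beq (invC (Nat.beq k 1) (invC (Nat.beq k 1) x)) x) = true := by
      decide +kernel
    cases b
    · exact Nat.eq_of_beq_eq_true (allB_iff.1 (allB_iff.1 t 0 (by norm_num)) x hx)
    · exact Nat.eq_of_beq_eq_true (allB_iff.1 (allB_iff.1 t 1 (by norm_num)) x hx)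
  rw [hii, (mulC_facts b hx hx).2.2.1] at hh
  exact hh

theorem code_of_inI {i : T} (hi : inI P j i) : ∃ x < 9, F.Ψ x = i := by
  let f : Fin 27 → (P : Subgroup T) := fun k => ⟨F.Ψ k.val, hj.Ψ_mem hT h28 hF _⟩
  have hf : Function.Bijective f := Function.Injective.bijective_of_nat_card_le
    (fun a c e => Fin.ext (hj.Ψ_inj hT h28 hF a.2 c.2 (congrArg Subtype.val e)))
    (by rw [hT.card_sylow, Nat.card_eq_fintype_card, Fintype.card_fin])
  obtain ⟨k, hk⟩ := hf.2 ⟨i, hi.1⟩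
  have hk' : F.Ψ k.val = i := congrArg Subtype.val hk
  refine ⟨k.val, (small_facts b k.2).2.1 ?_, hk'⟩
  refine hj.Ψ_inj hT h28 hF (Frame.lin_lt (by norm_num) (by norm_num) (by norm_num) _) (invC_lt b k.2) ?_
  rw [F.Ψ_inv k.2, hk', ← hi.2, ← hk']
  refine (F.map_Ψ (MulAut.conj j).toMonoidHom (by norm_num) (by norm_num) (by norm_num) ?_ ?_ ?_ k.val).symm
  · show j * F.e1 * j⁻¹ = F.Ψ 2
    rw [hF.i1.2, ← F.Ψ_one, ← F.Ψ_inv (by norm_num), show invC b 1 = 2 by cases b <;> rfl]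
  · show j * F.e2 * j⁻¹ = F.Ψ 6
    rw [hF.i2.2, ← F.Ψ_three, ← F.Ψ_inv (by norm_num), show invC b 3 = 6 by cases b <;> rfl]
  · show j * F.z * j⁻¹ = F.Ψ 9
    rw [F.Ψ_nine]
    exact mul_inv_eq_iff_eq_mul.2 (mem_Lj.1 hF.zL).2.symm

/-- every element of the stabiliser acts linearly -/
theorem exists_act {g : T} (hg : g ∈ stabH P Q) : ∃ u v t, (t = 9 ∨ t = 18) ∧ Act F g u v ∧
    g * F.e1 * g⁻¹ = F.Ψ u ∧ g * F.e2 * g⁻¹ = F.Ψ v ∧ g * F.z * g⁻¹ = F.Ψ (wcode b u v t) ∧
    g * F.z * g⁻¹ = (if t = 9 then F.z else F.z⁻¹) := by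
  haveI := three_prime
  obtain ⟨u, hu, eu⟩ := hj.code_of_inI hT h28 hF (hj.conj_inI hg hF.i1)
  obtain ⟨v, hv, ev⟩ := hj.code_of_inI hT h28 hF (hj.conj_inI hg hF.i2)
  have h1 := hj.conj_Lj hg hF.zL
  have hgen : zpowers F.z = Lj P j := Subgroup.eq_of_le_of_card_ge (zpowers_le.2 hF.zL)
    (by rw [hj.card_Lj hT h28, Nat.card_zpowers, hT.orderOf_eq_three P.2 (mem_Lj.1 hF.zL).1 hF.z1])
  rw [← hgen] at h1
  obtain ⟨n, hn⟩ := mem_powers_iff_mem_zpowers.2 h1
  have hn' : F.z ^ n = g * F.z * g⁻¹ := hn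
  rw [pow_eq_pow_mod n F.pz] at hn'
  obtain ⟨t, ht, hz⟩ : ∃ t, (t = 9 ∨ t = 18) ∧ g * F.z * g⁻¹ = (if t = 9 then F.z else F.z⁻¹) := by
    rcases (show n % 3 = 0 ∨ n % 3 = 1 ∨ n % 3 = 2 by omega) with e | e | e <;> rw [e] at hn'
    · rw [pow_zero] at hn'
      exact absurd (conj_eq_one_iff.1 hn'.symm) hF.z1
    · exact ⟨9, Or.inl rfl, by rw [if_pos rfl, ← hn', pow_one]⟩
    · exact ⟨18, Or.inr rfl, by
        rw [if_neg (by norm_num), ← hn']
        exact eq_inv_of_mul_eq_one_left (by rw [← pow_succ]; exact F.pz)⟩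
  have hzc : g * F.z * g⁻¹ = F.Ψ (wcode b u v t) := by
    cases b
    · show _ = F.Ψ t
      rw [hz]
      rcases ht with rfl | rfl
      · rw [if_pos rfl, F.Ψ_nine]
      · rw [if_neg (by norm_num), ← F.Ψ_nine, ← F.Ψ_inv (by norm_num)]
        rfl
    · show _ = F.Ψ (mulC true (invC true (mulC true v u)) (mulC true u v))
      have hvu := (mulC_facts true (show v < 27 by omega) (show u < 27 by omega)).1
      have huv := (mulC_facts true (show u < 27 by omega) (show v < 27 by omega)).1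
      rw [F.Ψ_mul (invC_lt true hvu) huv, F.Ψ_inv hvu, F.Ψ_mul (by omega) (by omega),
        F.Ψ_mul (by omega) (by omega), eu, ev]
      conv_lhs => rw [hF.zdef rfl]
      group
  refine ⟨u, v, t, ht, ⟨hu, hv, fun x hx => ?_⟩, eu.symm, ev.symm, hzc, hz⟩
  rw [← (mat_facts b hu hv hx ht).1]
  refine F.map_Ψ (MulAut.conj g).toMonoidHom (by omega) (by omega) ?_ eu.symm ev.symm hzc x
  cases b
  · show t < 27; omega
  · exact (mulC_facts true (invC_lt true (mulC_facts true (show v < 27 by omega) (show u < 27 by omega)).1)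
      (mulC_facts true (show u < 27 by omega) (show v < 27 by omega)).1).1

theorem act_one {g : T} {u v : ℕ} (h : Act F g u v) (hg : g = 1) : ∀ x < 9, mat u v x = x := by
  intro x hx
  have e := h.2.2 x hx
  rw [hg, one_mul, inv_one, mul_one] at e
  exact (hj.Ψ_inj hT h28 hF (by omega) (by have := (mat_facts b h.1 h.2.1 hx (Or.inl rfl)).2; omega) e).symm

theorem act_eq {g : T} {u v u' v' : ℕ} (h : Act F g u v) (h' : Act F g u' v') :
    ∀ x < 9, mat u v x = mat u' v' x := by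
  intro x hx
  refine hj.Ψ_inj hT h28 hF (by have := (mat_facts b h.1 h.2.1 hx (Or.inl rfl)).2; omega)
    (by have := (mat_facts b h'.1 h'.2.1 hx (Or.inl rfl)).2; omega) ?_
  rw [← h.2.2 x hx, ← h'.2.2 x hx]

omit hT h28 hj hF in
theorem act_comp {g g' : T} {u v u' v' : ℕ} (h : Act F g u v) (h' : Act F g' u' v') :
    ∀ x < 9, g * g' * F.Ψ x * (g * g')⁻¹ = F.Ψ (mat u v (mat u' v' x)) := by
  intro x hx
  rw [show g * g' * F.Ψ x * (g * g')⁻¹ = g * (g' * F.Ψ x * g'⁻¹) * g⁻¹ by group, h'.2.2 x hx,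
    h.2.2 _ (mat_facts b h'.1 h'.2.1 hx (Or.inl rfl)).2]

end Piv

end Cfsg.Agent.Lib.U33Recog
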