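import Cfsg.Agent.Lib.U33Recog.Inverting

/-!
A simple group of order 6048 without elements of order 9, 14, 21 has 28 Sylow 3-subgroups.
-/

set_option autoImplicit false

namespace Cfsg.Agent.Lib.U33Recog

open Subgroup
open Cfsg.Agent.Lib.SmallGroups

variable {T : Type*} [Group T] [Finite T]

/-- `D` has order 9 and lies in `P` and in another Sylow subgroup. -/
def Good (D : Subgroup T) (P : Sylow 3 T) : Prop :=
  D ≤ P ∧ Nat.card D = 9 ∧ ∃ Q : Sylow 3 T, Q ≠ P ∧ D ≤ Q

theorem Good.le_Nm {D : Subgroup T} {P : Sylow 3 T} (hT : Hyp T) (h : Good D P) :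
    (P : Subgroup T) ≤ Nm D :=
  sylow_le_Nm h.1 (by rw [h.2.1, hT.card_sylow])

theorem inv_eq_self_of_mul {t : T} (ht : t * t = 1) : t⁻¹ = t := inv_eq_of_mul_eq_one_right ht

/-- product bound -/
theorem card_mul_le {A B L : Subgroup T} (hA : A ≤ L) (hB : B ≤ L) :
    Nat.card A * Nat.card B ≤ Nat.card ↥(A ⊓ B) * Nat.card L := by
  have h1 := card_inf_mul_relIndex A B
  have h2 : Nat.card B * B.relIndex L = Nat.card L := by
    have := card_inf_mul_relIndex L B
    rwa [inf_eq_right.2 hB] at this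
  have h3 : B.relIndex A ≤ B.relIndex L :=
    Subgroup.relIndex_le_of_le_right hA (Subgroup.index_ne_zero_of_finite)
  calc Nat.card A * Nat.card B = Nat.card ↥(A ⊓ B) * B.relIndex A * Nat.card B := by rw [h1]
    _ ≤ Nat.card ↥(A ⊓ B) * B.relIndex L * Nat.card B :=
      Nat.mul_le_mul_right _ (Nat.mul_le_mul_left _ h3)
    _ = _ := by rw [mul_assoc, mul_comm (B.relIndex L), h2]

theorem card_sup_nine {D E : Subgroup T} {P : Sylow 3 T} (hT : Hyp T) (hD : D ≤ P) (hE : E ≤ P)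
    (h9 : Nat.card D = 9) (h9' : Nat.card E = 9) (hne : D ≠ E) : D ⊔ E = (P : Subgroup T) := by
  have hle : D ⊔ E ≤ P := sup_le hD hE
  refine Subgroup.eq_of_le_of_card_ge hle ?_
  have h1 := Subgroup.card_dvd_of_le hle
  have h2 : 9 < Nat.card ↥(D ⊔ E) := by
    have := Subgroup.card_le_of_le (le_sup_left : D ≤ D ⊔ E)
    rcases lt_or_eq_of_le this with h | h
    · omega
    · exfalso
      have e : D = D ⊔ E := Subgroup.eq_of_le_of_card_ge le_sup_left h.ge
      exact hne (Subgroup.eq_of_le_of_card_ge (e ▸ le_sup_right) (by omega)).symm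
  rw [hT.card_sylow] at h1 ⊢
  rcases (Nat.dvd_prime_pow Nat.prime_three (m := 3)).1 (by norm_num; exact h1) with ⟨j, hj, e⟩
  interval_cases j <;> omega

namespace Hyp

variable (hT : Hyp T) (h112 : Nat.card (Sylow 3 T) = 112)
include hT h112

theorem card_216 {H : Subgroup T} {P Q : Sylow 3 T} (hN : Nm (P : Subgroup T) ≤ H)
    (hQ : (Q : Subgroup T) ≤ H) (hne : Q ≠ P) (hle : Nat.card H ≤ 672)
    (hd : Nat.card H ∣ 864 ∨ 216 ∣ Nat.card H) :
    Nat.card H = 216 ∧ Nat.card (Sylow 3 H) = 4 := by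
  haveI := three_prime
  have hP : (P : Subgroup T) ≤ H := Subgroup.le_normalizer.trans hN
  have h := card_eq_sylow_mul H hP
  rw [inf_eq_right.2 hN, hT.card_Nm_54 h112 P] at h
  have hn2 : 2 ≤ Nat.card (Sylow 3 H) := by
    haveI : Nontrivial (Sylow 3 H) := ⟨P.subtype hP, Q.subtype hQ, fun e => hne (Sylow.subtype_injective e).symm⟩
    exact Finite.one_lt_card
  have hmod := hT.sylow_mod (L := H)
  generalize Nat.card (Sylow 3 H) = n at h hn2 hmod ⊢
  have hn : n = 4 ∨ n = 7 ∨ n = 10 := by omega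
  rcases hn with rfl | rfl | rfl
  · exact ⟨h, rfl⟩
  all_goals (exfalso; rcases hd with hd | hd <;> rw [h] at hd <;> norm_num at hd)

theorem Nm_good {D : Subgroup T} {P : Sylow 3 T} (hD : Good D P) :
    Nm (P : Subgroup T) ≤ Nm D ∧ Nat.card (Nm D) = 216 ∧ Nat.card (Sylow 3 (Nm D)) = 4 := by
  obtain ⟨hDP, h9, Q, hQ, hDQ⟩ := hD
  obtain ⟨t, htN, ht, htP, hcos⟩ := hT.exists_t h112 P
  have hPN : (P : Subgroup T) ≤ Nm D := sylow_le_Nm hDP (by rw [h9, hT.card_sylow])
  have htD : t ∈ Nm D := by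
    refine mem_Nm_of_conj fun y hy => ?_
    rw [inv_eq_self_of_mul ht]
    have hinv := hT.inverts h112 htN ht htP
    by_cases hab : Ab (P : Subgroup T)
    · have := hinv.1 hab y (hDP hy)
      rw [eq_inv_of_mul_eq_one_left this]
      exact inv_mem hy
    · have := hT.Zs_le hab hDP h9 ((hinv.2 hab).1 y (hDP hy))
      have := mul_mem this (inv_mem hy)
      rwa [mul_inv_cancel_right] at this
  have hN : Nm (P : Subgroup T) ≤ Nm D := fun g hg => by
    rcases hcos g hg with h | h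
    · exact hPN h
    · have := mul_mem (hPN h) (inv_mem htD)
      rwa [mul_inv_cancel_right] at this
  have hne : D ≠ ⊥ := fun e => by rw [e, Subgroup.card_bot] at h9; omega
  obtain ⟨h1, h2⟩ := hT.card_Nm (isPGroup_of_card_nine h9) hne
  exact ⟨hN, hT.card_216 h112 hN (sylow_le_Nm hDQ (by rw [h9, hT.card_sylow])) hQ h2 (Or.inl h1)⟩

theorem good_of_le {D : Subgroup T} {P P1 : Sylow 3 T} (hD : Good D P) (h1 : (P1 : Subgroup T) ≤ Nm D) :
    Good D P1 := by
  refine ⟨le_sylow_of_le_Nm (isPGroup_of_card_nine hD.2.1) h1, hD.2.1, ?_⟩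
  by_cases he : P = P1
  · exact he ▸ hD.2.2
  · exact ⟨P, he, hD.1⟩

theorem exists_other {D : Subgroup T} {P : Sylow 3 T} (hD : Good D P) :
    ∃ Q : Sylow 3 T, Q ≠ P ∧ (Q : Subgroup T) ≤ Nm D := by
  obtain ⟨Q, hQ, hDQ⟩ := hD.2.2
  exact ⟨Q, hQ, sylow_le_Nm hDQ (by rw [hD.2.1, hT.card_sylow])⟩

theorem Nm_le_centralizer {D : Subgroup T} {P : Sylow 3 T} (hna : ¬ Ab (P : Subgroup T))
    (hD : Good D P) : Nm D ≤ centralizer (Zs (P : Subgroup T) : Set T) := by
  haveI := three_prime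
  obtain ⟨hN, hcard, hn⟩ := hT.Nm_good h112 hD
  obtain ⟨t, htN, ht, htP, hcos⟩ := hT.exists_t h112 P
  obtain ⟨hinv, hfix⟩ := (hT.inverts h112 htN ht htP).2 hna
  have hNC : Nm (P : Subgroup T) ≤ centralizer (Zs (P : Subgroup T) : Set T) := by
    intro g hg z hz
    have hzP : ∀ p ∈ (P : Subgroup T), p * z = z * p := fun p hp => hz.2 p hp
    rcases hcos g hg with h | h
    · exact (hzP g h).symm
    · have e : t * z = z * t := by
        have e0 : t * z * t = z := hfix z hz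
        calc t * z = t * z * (t * t) := by rw [ht, mul_one]
          _ = (t * z * t) * t := by group
          _ = z * t := by rw [e0]
      have := hzP (g * t) h
      calc z * g = z * g * (t * t) := by rw [ht, mul_one]
        _ = (z * (g * t)) * t := by group
        _ = (g * t * z) * t := by rw [this]
        _ = g * (t * z) * t := by group
        _ = g * z * (t * t) := by rw [e]; group
        _ = g * z := by rw [ht, mul_one]
  set C := Nm D ⊓ centralizer (Zs (P : Subgroup T) : Set T) with hC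
  have hNC' : Nm (P : Subgroup T) ≤ C := le_inf hN hNC
  have h54 := Subgroup.card_dvd_of_le hNC'
  have h216 := Subgroup.card_dvd_of_le (inf_le_left : C ≤ Nm D)
  rw [hT.card_Nm_54 h112] at h54
  rw [hcard] at h216
  suffices hC216 : Nat.card C = 216 by
    intro g hg
    have : C = Nm D := Subgroup.eq_of_le_of_card_ge inf_le_left (by rw [hC216, hcard])
    exact (this.symm ▸ hg : g ∈ C).2
  have h := card_eq_sylow_mul C (Subgroup.le_normalizer.trans hNC')
  rw [inf_eq_right.2 hNC', hT.card_Nm_54 h112] at h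
  have hmod := hT.sylow_mod (L := C)
  obtain ⟨k, hk⟩ := h54
  have hk4 : k ∣ 4 := Nat.dvd_of_mul_dvd_mul_left (by norm_num : 0 < 54) (hk ▸ h216)
  have hk' : k ∈ Nat.divisors 4 := Nat.mem_divisors.2 ⟨hk4, by norm_num⟩
  rw [show Nat.divisors 4 = {1, 2, 4} from by decide] at hk'
  simp only [Finset.mem_insert, Finset.mem_singleton] at hk'
  rcases hk' with rfl | rfl | rfl
  swap
  · exfalso; omega
  swap
  · exact hk
  exfalso
  have hCN : C = Nm (P : Subgroup T) :=
    (Subgroup.eq_of_le_of_card_ge hNC' (by rw [hk, hT.card_Nm_54 h112])).symm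
  -- t fixes another Sylow subgroup of the normalizer
  let W := {Q : Sylow 3 T // (Q : Subgroup T) ≤ Nm D}
  have hW : Nat.card W = 4 := by rw [← hT.sylow_equiv (Subgroup.le_normalizer.trans hN), hn]
  haveI : Fact (Nat.Prime 2) := ⟨Nat.prime_two⟩
  let A : Subgroup T := zpowers t
  have hA : IsPGroup 2 A := IsPGroup.of_card (n := 1) (by
    rw [pow_one, Nat.card_zpowers]
    exact orderOf_eq_prime (by rw [sq, ht]) (fun e => htP (e ▸ one_mem _)))
  letI : MulAction A W :=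
    { smul := fun a Q => ⟨(a : T) • Q.1, fun x hx => by
        rw [sylow_le_iff_conj] at hx
        obtain ⟨y, hy, rfl⟩ := hx
        exact mul_mem (mul_mem (hN (zpowers_le.2 htN a.2)) (Q.2 hy)) (inv_mem (hN (zpowers_le.2 htN a.2)))⟩
      one_smul := fun Q => Subtype.ext (one_smul _ _)
      mul_smul := fun a b Q => Subtype.ext (mul_smul (a : T) b Q.1) }
  have hPf : (⟨P, Subgroup.le_normalizer.trans hN⟩ : W) ∈ MulAction.fixedPoints A W := fun a =>
    Subtype.ext (mem_Nm_sylow.1 (zpowers_le.2 htN a.2))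
  obtain ⟨⟨Q, hQ⟩, hQf, hQne⟩ :=
    hA.exists_fixed_point_of_prime_dvd_card_of_fixed_point W (by rw [hW]; norm_num) hPf
  have hQne' : Q ≠ P := fun e => hQne (Subtype.ext e.symm)
  have htQ : t ∈ Nm (Q : Subgroup T) := mem_Nm_sylow.2 (congrArg Subtype.val (hQf ⟨t, mem_zpowers t⟩))
  obtain ⟨⟨h, hh⟩, hhQ⟩ := MulAction.exists_smul_eq (Nm D) (P.subtype (Subgroup.le_normalizer.trans hN)) (Q.subtype hQ)
  have hhQ' : h • P = Q := Sylow.subtype_injective (hP := fun x hx => by
      rw [sylow_le_iff_conj] at hx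
      obtain ⟨y, hy, rfl⟩ := hx
      exact mul_mem (mul_mem hh (hN (Subgroup.le_normalizer hy))) (inv_mem hh)) (hQ := hQ)
    ((Sylow.smul_subtype _ _).symm.trans hhQ)
  have ht' : h⁻¹ * t * h ∈ Nm (P : Subgroup T) := by
    rw [mem_Nm_sylow, mul_smul, mul_smul, hhQ', mem_Nm_sylow.1 htQ, ← hhQ', inv_smul_smul]
  obtain ⟨z, hz, hz1⟩ : ∃ z ∈ Zs (P : Subgroup T), z ≠ 1 := by
    by_contra hc
    push Not at hc
    have := hT.card_Zs_mul hna
    rw [(Subgroup.eq_bot_iff_forall _).2 hc, Subgroup.card_bot] at this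
    omega
  set y := h * z * h⁻¹ with hy
  have hyD : y ∈ D := conj_mem hh (hT.Zs_le hna hD.1 hD.2.1 hz)
  have hyt : t * y * t = y := by
    have e : z * (h⁻¹ * t * h) = h⁻¹ * t * h * z := hNC ht' z hz
    have e2 : t * y = y * t := by
      calc t * y = h * (h⁻¹ * t * h * z) * h⁻¹ := by rw [hy]; group
        _ = y * t := by rw [← e, hy]; group
    rw [e2, mul_assoc, ht, mul_one]
  have hyZ : y ∈ Zs (P : Subgroup T) := by
    have h1 := hinv y (hD.1 hyD)
    rw [hyt] at h1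
    have h3 := hT.pow_three_of_mem (hD.1 hyD)
    have : y = (y * y) * (y * y) := by
      rw [show y * y * (y * y) = y ^ 3 * y by simp [pow_succ, mul_assoc], h3, one_mul]
    rw [this]
    exact mul_mem h1 h1
  have hzcyc : zpowers z = Zs (P : Subgroup T) := Subgroup.eq_of_le_of_card_ge (zpowers_le.2 hz)
    (by rw [hT.card_Zs_mul hna, Nat.card_zpowers, hT.orderOf_eq_three P.2 hz.1 hz1])
  have hhN : h ∈ Nm (Zs (P : Subgroup T)) := by
    refine mem_Nm_of_conj fun w hw => ?_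
    rw [← hzcyc] at hw
    obtain ⟨j, rfl⟩ := mem_zpowers_iff.1 hw
    have : h * z ^ j * h⁻¹ = y ^ j := by rw [hy, ← MulAut.conj_apply, map_zpow, MulAut.conj_apply]
    rw [this]
    exact zpow_mem hyZ j
  have hhC : ∀ c ∈ C, h * c * h⁻¹ ∈ C := fun c hc =>
    Subgroup.mem_inf.2 ⟨mul_mem (mul_mem hh hc.1) (inv_mem hh), fun w hw => by
      have hw' : h⁻¹ * w * h ∈ Zs (P : Subgroup T) := by
        have := conj_mem (inv_mem hhN) hw
        rwa [inv_inv] at this
      have := hc.2 _ hw'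
      calc w * (h * c * h⁻¹) = h * ((h⁻¹ * w * h) * c) * h⁻¹ := by group
        _ = h * (c * (h⁻¹ * w * h)) * h⁻¹ := by rw [this]
        _ = h * c * h⁻¹ * w := by group⟩
  apply hQne'
  have hPC : (P : Subgroup T) ≤ C := Subgroup.le_normalizer.trans hNC'
  have hQC : (Q : Subgroup T) ≤ Nm (P : Subgroup T) := by
    rw [← hCN, ← hhQ', sylow_le_iff_conj]
    rintro x ⟨y, hy, rfl⟩
    exact hhC y (hPC hy)
  exact Sylow.ext (Subgroup.eq_of_le_of_card_ge (le_sylow_of_le_Nm P.2 hQC)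
    (by rw [hT.card_sylow, hT.card_sylow])).symm

theorem Nm_Zs_eq {D : Subgroup T} {P : Sylow 3 T} (hna : ¬ Ab (P : Subgroup T)) (hD : Good D P) :
    Nm (Zs (P : Subgroup T)) = Nm D := by
  obtain ⟨hN, hcard, -⟩ := hT.Nm_good h112 hD
  have hLC := hT.Nm_le_centralizer h112 hna hD
  have hle : Nm D ≤ Nm (Zs (P : Subgroup T)) := hLC.trans (Sylow.centralizer_le_normalizer _)
  obtain ⟨Q, hQne, hQ⟩ := hT.exists_other h112 hD
  have hne : Zs (P : Subgroup T) ≠ ⊥ := fun e => by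
    have := hT.card_Zs_mul hna; rw [e, Subgroup.card_bot] at this; omega
  obtain ⟨h1, h2⟩ := hT.card_Nm (P.2.to_le inf_le_left) hne
  exact (Subgroup.eq_of_le_of_card_ge hle (by
    rw [(hT.card_216 h112 (hN.trans hle) (hQ.trans hle) hQne h2 (Or.inl h1)).1, hcard])).symm

theorem good_unique {D E : Subgroup T} {P : Sylow 3 T} (hD : Good D P) (hE : Good E P) : D = E := by
  by_contra hne
  obtain ⟨hN, hcard, hn⟩ := hT.Nm_good h112 hD
  obtain ⟨hN', hcard', hn'⟩ := hT.Nm_good h112 hE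
  obtain ⟨Q, hQne, hQ⟩ := hT.exists_other h112 hD
  suffices hQE : (Q : Subgroup T) ≤ Nm E by
    apply hQne
    refine Sylow.ext (Subgroup.eq_of_le_of_card_ge ?_ (by rw [hT.card_sylow, hT.card_sylow])).symm
    rw [← card_sup_nine hT hD.1 hE.1 hD.2.1 hE.2.1 hne]
    exact sup_le (le_sylow_of_le_Nm (isPGroup_of_card_nine hD.2.1) hQ)
      (le_sylow_of_le_Nm (isPGroup_of_card_nine hE.2.1) hQE)
  by_cases hab : Ab (P : Subgroup T)
  swap
  · rw [← hT.Nm_Zs_eq h112 hab hE, hT.Nm_Zs_eq h112 hab hD]; exact hQ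
  obtain ⟨x, hx, hx1⟩ : ∃ x ∈ D ⊓ E, x ≠ 1 := by
    by_contra hc
    push Not at hc
    have := card_mul_le hD.1 hE.1
    rw [(Subgroup.eq_bot_iff_forall _).2 hc, Subgroup.card_bot, hD.2.1, hE.2.1, hT.card_sylow] at this
    omega
  set H := Nm (zpowers x)
  have habQ : ∀ S : Sylow 3 T, Ab (S : Subgroup T) := fun S a ha b hb => by
    haveI := three_prime
    obtain ⟨g, rfl⟩ := MulAction.exists_smul_eq T P S
    rw [sylow_le_iff_conj] at ha hb
    obtain ⟨a', ha', rfl⟩ := ha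
    obtain ⟨b', hb', rfl⟩ := hb
    rw [← map_mul, ← map_mul, hab a' ha' b' hb']
  have hsub : ∀ S : Sylow 3 T, x ∈ (S : Subgroup T) → (S : Subgroup T) ≤ H := fun S hxS s hs => by
    refine mem_Nm_of_conj fun w hw => ?_
    obtain ⟨j, rfl⟩ := mem_zpowers_iff.1 hw
    rw [habQ S s hs _ (zpow_mem hxS j), mul_inv_cancel_right]
    exact zpow_mem (mem_zpowers x) j
  obtain ⟨t, htN, ht, htP, hcos⟩ := hT.exists_t h112 P
  have htH : t ∈ H := mem_Nm_of_conj fun w hw => by
    obtain ⟨j, rfl⟩ := mem_zpowers_iff.1 hw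
    rw [inv_eq_self_of_mul ht,
      eq_inv_of_mul_eq_one_left ((hT.inverts h112 htN ht htP).1 hab _ (zpow_mem (hD.1 hx.1) j))]
    exact inv_mem (zpow_mem (mem_zpowers x) j)
  have hNH : Nm (P : Subgroup T) ≤ H := fun g hg => by
    rcases hcos g hg with h | h
    · exact hsub P (hD.1 hx.1) h
    · have := mul_mem (hsub P (hD.1 hx.1) h) (inv_mem htH)
      rwa [mul_inv_cancel_right] at this
  have hallD : ∀ S : Sylow 3 T, (S : Subgroup T) ≤ Nm D → (S : Subgroup T) ≤ H := fun S hS =>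
    hsub S (le_sylow_of_le_Nm (isPGroup_of_card_nine hD.2.1) hS hx.1)
  have hallE : ∀ S : Sylow 3 T, (S : Subgroup T) ≤ Nm E → (S : Subgroup T) ≤ H := fun S hS =>
    hsub S (le_sylow_of_le_Nm (isPGroup_of_card_nine hE.2.1) hS hx.2)
  obtain ⟨h1, h2⟩ := hT.card_Nm (D := zpowers x) (P.2.to_le (zpowers_le.2 (hD.1 hx.1)))
    (fun e => hx1 (Subgroup.zpowers_eq_bot.1 e))
  obtain ⟨-, hnH⟩ := hT.card_216 h112 hNH (hallD Q hQ) hQne h2 (Or.inl h1)
  rw [hT.sylow_equiv (Subgroup.le_normalizer.trans hNH)] at hnH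
  rw [hT.sylow_equiv (Subgroup.le_normalizer.trans hN')] at hn'
  let f : {S : Sylow 3 T // (S : Subgroup T) ≤ Nm E} → {S : Sylow 3 T // (S : Subgroup T) ≤ H} :=
    fun S => ⟨S.1, hallE S.1 S.2⟩
  have hf : Function.Bijective f := Function.Injective.bijective_of_nat_card_le
    (fun a b e => Subtype.ext (congrArg Subtype.val e :)) (by rw [hnH, hn'])
  obtain ⟨S, hS⟩ := hf.2 ⟨Q, hallD Q hQ⟩
  have e : S.1 = Q := congrArg Subtype.val hS
  have h2 := S.2
  rwa [e] at h2

end Hyp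

end Cfsg.Agent.Lib.U33Recog
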