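import Cfsg.Agent.Lib.U33Recog.Four

/-!
Exclusion of 112 Sylow 3-subgroups.
-/

set_option autoImplicit false

namespace Cfsg.Agent.Lib.U33Recog

open Subgroup
open Cfsg.Agent.Lib.SmallGroups

variable {T : Type*} [Group T] [Finite T]

/-- the conjugate of a subgroup -/
abbrev cjg (g : T) (L : Subgroup T) : Subgroup T := L.map (MulAut.conj g).toMonoidHom

theorem mem_cjg_iff_stab {g s : T} {L : Subgroup T} : s ∈ cjg g L ↔ (s * g)⁻¹ * g ∈ L := by
  rw [cjg, mem_map_conj, show (s * g)⁻¹ * g = (g⁻¹ * s * g)⁻¹ by group, inv_mem_iff]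

namespace Hyp

variable (hT : Hyp T) (h112 : Nat.card (Sylow 3 T) = 112)
include hT h112

theorem false_of_good {D : Subgroup T} {P : Sylow 3 T} (hD : Good D P) : False := by
  haveI := three_prime
  haveI : Fact (Nat.Prime 2) := ⟨Nat.prime_two⟩
  haveI := hT.simple
  obtain ⟨hN, hcard, hn⟩ := hT.Nm_good h112 hD
  obtain ⟨V, hV, hV4, hVn⟩ := hT.exists_V h112 hD
  set L := Nm D with hL
  have hidx : L.index = 28 := by
    have := L.card_mul_index
    rw [hcard, hT.card] at this; omega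
  have hne : L ≠ ⊤ := fun e => by rw [e, Subgroup.card_top, hT.card] at hcard; omega
  have hcore : L.normalCore = ⊥ := Sylow.normalCore_eq_bot hne
  have hnotall : ¬ ∀ g : T, V ≤ cjg g L := by
    intro hall
    have hle : V ≤ L.normalCore := fun v hv g => by
      have := mem_map_conj.1 (hall g⁻¹ hv)
      rwa [inv_inv] at this
    rw [hcore, le_bot_iff] at hle
    rw [hle, Subgroup.card_bot] at hV4
    omega
  obtain ⟨S, hS⟩ : ∃ S : Subgroup T, S ≤ L ∧ Nat.card S = 8 := by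
    obtain ⟨S', hS'⟩ := _root_.Sylow.exists_subgroup_card_pow_prime (G := L) 2 (n := 3) (by rw [hcard]; norm_num)
    exact ⟨S'.map L.subtype, Subgroup.map_subtype_le _,
      by rw [Subgroup.card_map_of_injective L.subtype_injective, hS']; norm_num⟩
  obtain ⟨hSL, hS8⟩ := hS
  have hS2 : IsPGroup 2 S := IsPGroup.of_card (n := 3) (by rw [hS8]; norm_num)
  have hVS : ∀ W : Subgroup T, S ≤ Nm W → S ≤ W ⊔ S → Nat.card W = 4 →
      ∀ H : Subgroup T, W ≤ H → S ≤ H → Nat.card H ∣ 216 → W ≤ S := by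
    intro W hSW _ hW H hWH hSH hH
    have h2 : IsPGroup 2 ↥(W ⊔ S) := IsPGroup.to_sup_of_normal_left'
      (IsPGroup.of_card (n := 2) (by rw [hW]; norm_num)) hS2 hSW
    obtain ⟨j, hj⟩ := IsPGroup.iff_card.1 h2
    have hd := (Subgroup.card_dvd_of_le (sup_le hWH hSH)).trans hH
    rw [hj] at hd
    have hj3 : j ≤ 3 := by
      by_contra hc
      have h16 : 2 ^ 4 ∣ 216 := (Nat.pow_dvd_pow 2 (show 4 ≤ j by omega)).trans hd
      norm_num at h16
    have h8 := Subgroup.card_le_of_le (le_sup_right : S ≤ W ⊔ S)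
    rw [hS8, hj] at h8
    have : 2 ^ j ≤ 2 ^ 3 := Nat.pow_le_pow_right (by norm_num) hj3
    exact (le_sup_left : W ≤ W ⊔ S).trans
      (Subgroup.eq_of_le_of_card_ge le_sup_right (by rw [hj, hS8]; omega)).ge
  have hVleS : V ≤ S := hVS V (hSL.trans hVn) le_sup_right hV4 L hV hSL (dvd_of_eq hcard)
  -- another coset fixed by S
  obtain ⟨q, hqf, hq⟩ := hS2.exists_fixed_point_of_prime_dvd_card_of_fixed_point (T ⧸ L)
    (by rw [← Subgroup.index_eq_card, hidx]; norm_num)
    (a := ((1 : T) : T ⧸ L)) (fun s => by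
      show ((s.1 * 1 : T) : T ⧸ L) = ((1 : T) : T ⧸ L)
      rw [QuotientGroup.eq]; simpa using inv_mem (hSL s.2))
  obtain ⟨g, rfl⟩ := QuotientGroup.mk_surjective q
  have hg : g ∉ L := fun h => hq (by rw [QuotientGroup.eq]; simpa using h)
  have hSg : S ≤ cjg g L := fun s hs => mem_cjg_iff_stab.2 (QuotientGroup.eq.1 (hqf ⟨s, hs⟩))
  have hcg : Nat.card (cjg g L) = 216 := by rw [cjg, card_conj, hcard]
  set V' := cjg g V
  have hV' : V' ≤ S := hVS V' (fun s hs => by
      rw [Nm_mono_conj]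
      exact Subgroup.map_mono hVn (hSg hs)) le_sup_right
    (by rw [card_conj, hV4]) (cjg g L) (Subgroup.map_mono hV) hSg (dvd_of_eq hcg)
  -- the stabiliser of the coset in L
  set K := L ⊓ cjg g L with hK
  have hSK : S ≤ K := le_inf hSL hSg
  -- L is self-normalizing
  have hLV : Nm V = L := by
    have hVbot : V ≠ ⊥ := fun e => by rw [e, Subgroup.card_bot] at hV4; omega
    have hVtop : V ≠ ⊤ := fun e => by rw [e, Subgroup.card_top, hT.card] at hV4; omega
    obtain ⟨Q, hQne, hQ⟩ := hT.exists_other h112 hD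
    refine (Subgroup.eq_of_le_of_card_ge hVn ?_).symm
    rw [hcard, (hT.card_216 h112 (hN.trans hVn) (hQ.trans hVn) hQne
      (hT.card_proper (hT.Nm_ne_top hVbot hVtop)) (Or.inr (hcard ▸ Subgroup.card_dvd_of_le hVn))).1]
  have hLL : ∀ x : T, cjg x L = L → x ∈ L := by
    intro x hx
    have hNL : x ∈ Nm L := mem_Nm_of_conj fun y hy => by rw [← hx]; exact ⟨y, hy, rfl⟩
    have hLN : L ≤ Nm L := Subgroup.le_normalizer
    obtain ⟨Q, hQne, hQ⟩ := hT.exists_other h112 hD
    have hLbot : L ≠ ⊥ := fun e => by rw [e, Subgroup.card_bot] at hcard; omega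
    have h216 := (hT.card_216 h112 (hN.trans hLN) (hQ.trans hLN) hQne
      (hT.card_proper (hT.Nm_ne_top hLbot hne)) (Or.inr (hcard ▸ Subgroup.card_dvd_of_le hLN))).1
    exact (Subgroup.eq_of_le_of_card_ge hLN (by rw [h216, hcard])) ▸ hNL
  -- no subgroup of order 9 in K
  have h9 : ∀ B : Subgroup T, B ≤ K → Nat.card B ≠ 9 := by
    intro B hB hB9
    have hB2 := isPGroup_of_card_nine hB9
    have key : ∀ M : Subgroup T, Nat.card M = 216 → ∀ P0 : Sylow 3 T, (P0 : Subgroup T) ≤ M →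
        B ≤ M → ∃ P1 : Sylow 3 T, B ≤ P1 ∧ (P1 : Subgroup T) ≤ M := by
      intro M _ P0 hP0 hBM
      obtain ⟨R, hR⟩ := (hB2.comap_subtype (K := M)).exists_le_sylow
      obtain ⟨Q1, hQ1⟩ := (R.2.map M.subtype).exists_le_sylow
      have he := Subgroup.eq_of_le_of_card_ge hQ1 (by rw [hT.card_sylow, hT.sylow_card_map hP0 R])
      exact ⟨Q1, fun b hb => he ▸ ⟨⟨b, hBM hb⟩, hR hb, rfl⟩, he ▸ Subgroup.map_subtype_le _⟩
    obtain ⟨P1, hB1, hP1⟩ := key L hcard P (Subgroup.le_normalizer.trans hN) (hB.trans inf_le_left)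
    have hgP : ((g • P : Sylow 3 T) : Subgroup T) ≤ cjg g L := by
      rw [sylow_le_iff_conj]; exact Subgroup.map_mono (Subgroup.le_normalizer.trans hN)
    obtain ⟨P2, hB2', hP2⟩ := key (cjg g L) hcg (g • P) hgP (hB.trans inf_le_right)
    have hD1 : Good D P1 := hT.good_of_le h112 hD hP1
    have hD' : Good (cjg g D) P2 := by
      refine hT.good_of_le h112 (P := g • P) ⟨?_, by rw [card_conj, hD.2.1], ?_⟩ (by rw [Nm_mono_conj]; exact hP2)
      · rw [sylow_le_iff_conj]; exact Subgroup.map_mono hD.1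
      · obtain ⟨Q, hQ, hDQ⟩ := hD.2.2
        exact ⟨g • Q, fun e => hQ (smul_left_cancel g e), by rw [sylow_le_iff_conj]; exact Subgroup.map_mono hDQ⟩
    have hDD : cjg g D = D := by
      by_cases he : P1 = P2
      · subst he; exact hT.good_unique h112 hD' hD1
      · exact (hT.good_unique h112 hD' (E := B) ⟨hB2', hB9, P1, he, hB1⟩).trans
          (hT.good_unique h112 hD1 (E := B) ⟨hB1, hB9, P2, fun e => he e.symm, hB2'⟩).symm
    refine hg (hLL g ?_)
    rw [hL, cjg, ← Nm_mono_conj]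
    show Nm (cjg g D) = Nm D
    rw [hDD]
  -- order of K
  have hKd : Nat.card K ∣ 216 := hcard ▸ Subgroup.card_dvd_of_le inf_le_left
  have h8K : 8 ∣ Nat.card K := hS8 ▸ Subgroup.card_dvd_of_le hSK
  by_cases h3 : 3 ∣ Nat.card K
  swap
  · have hK8 : Nat.card K = 8 := by
      obtain ⟨c, hc⟩ := h8K
      have h27 : c ∣ 3 ^ 3 := Nat.dvd_of_mul_dvd_mul_left (by norm_num : 0 < 8) (by norm_num; exact hc ▸ hKd)
      obtain ⟨j, -, rfl⟩ := (Nat.dvd_prime_pow Nat.prime_three).1 h27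
      rcases j with _ | j
      · rw [hc]; norm_num
      · exact absurd ⟨8 * 3 ^ j, by rw [hc, pow_succ]; ring⟩ h3
    apply hnotall
    intro x
    by_cases hx : x ∈ L
    · intro v hv
      exact mem_map_conj.2 (mul_mem (mul_mem (inv_mem hx) (hV hv)) hx)
    let Y := {c : T ⧸ L // c ≠ ((1 : T) : T ⧸ L)}
    have hY : Nat.card Y = 27 := by
      classical
      haveI := Fintype.ofFinite (T ⧸ L)
      rw [Nat.card_eq_fintype_card, Fintype.card_subtype_compl, Fintype.card_subtype_eq,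
        ← Nat.card_eq_fintype_card, ← Subgroup.index_eq_card, hidx]
    have hout : ∀ l : L, (((l.1 * g : T)) : T ⧸ L) ≠ ((1 : T) : T ⧸ L) := fun l e => by
      rw [QuotientGroup.eq] at e
      apply hg
      have := mul_mem (inv_mem l.2) (inv_mem e)
      simpa using this
    let f : ↥L ⧸ K.subgroupOf L → Y := fun l => ⟨((l.out.1 * g : T) : T ⧸ L), hout l.out⟩
    have hf : Function.Injective f := by
      intro a b e
      rw [← a.out_eq, ← b.out_eq, Quotient.eq, QuotientGroup.leftRel_apply, Subgroup.mem_subgroupOf]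
      have h2 := QuotientGroup.eq.1 (congrArg Subtype.val e)
      refine Subgroup.mem_inf.2 ⟨mul_mem (inv_mem a.out.2) b.out.2, mem_map_conj.2 ?_⟩
      have e2 : (a.out.1 * g)⁻¹ * (b.out.1 * g) = g⁻¹ * ((a.out⁻¹ * b.out : L) : T) * g := by
        push_cast; group
      rw [← e2]; exact h2
    have hc : Nat.card (↥L ⧸ K.subgroupOf L) = 27 := by
      have := Subgroup.card_eq_card_quotient_mul_card_subgroup (K.subgroupOf L)
      rw [Nat.card_congr (subgroupOfEquivOfLe (inf_le_left : K ≤ L)).toEquiv, hcard, hK8] at this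
      omega
    obtain ⟨l, hl⟩ := (hf.bijective_of_nat_card_le (by rw [hY, hc])).2 ⟨(x : T ⧸ L), fun e => hx (by
      rw [QuotientGroup.eq] at e; simpa using e)⟩
    have hl' := QuotientGroup.eq.1 (congrArg Subtype.val hl)
    intro v hv
    have h1 : l.out.1⁻¹ * v * l.out.1 ∈ cjg g L := hSg (hVleS (by
      have := conj_mem (hVn (inv_mem l.out.2)) hv
      rwa [inv_inv] at this))
    refine mem_map_conj.2 ?_
    have h2 := mem_map_conj.1 h1
    have e : x⁻¹ * v * x = ((l.out.1 * g)⁻¹ * x)⁻¹ * (g⁻¹ * (l.out.1⁻¹ * v * l.out.1) * g) * ((l.out.1 * g)⁻¹ * x) := by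
      group
    rw [e]
    exact mul_mem (mul_mem (inv_mem hl') h2) hl'
  -- K has an element of order 3
  have hKn : Nat.card K = 24 := by
    obtain ⟨c, hc⟩ := h8K
    have h27 : c ∣ 3 ^ 3 := Nat.dvd_of_mul_dvd_mul_left (by norm_num : 0 < 8) (by norm_num; exact hc ▸ hKd)
    obtain ⟨j, hj, rfl⟩ := (Nat.dvd_prime_pow Nat.prime_three).1 h27
    rcases j with _ | _ | j
    · rw [hc] at h3; norm_num at h3
    · rw [hc]; norm_num
    · exfalso
      obtain ⟨B, hB⟩ := _root_.Sylow.exists_subgroup_card_pow_prime (G := K) 3 (n := 2)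
        ⟨8 * 3 ^ j, by rw [hc, pow_succ, pow_succ]; ring⟩
      exact h9 (B.map K.subtype) (Subgroup.map_subtype_le _)
        (by rw [Subgroup.card_map_of_injective K.subtype_injective, hB]; norm_num)
  obtain ⟨⟨x, hxK⟩, hx3⟩ := exists_prime_orderOf_dvd_card' (G := K) 3 h3
  rw [Subgroup.orderOf_mk] at hx3
  have hVV : V' ≠ V := fun e => hg (by
    rw [← hLV]
    exact mem_Nm_of_conj fun v hv => e ▸ ⟨v, hv, rfl⟩)
  have hsup : V ⊔ V' = S := by
    refine Subgroup.eq_of_le_of_card_ge (sup_le hVleS hV') ?_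
    have h := Subgroup.card_dvd_of_le (sup_le hVleS hV')
    rw [hS8] at h ⊢
    have h4 := Subgroup.card_le_of_le (le_sup_left : V ≤ V ⊔ V')
    rw [hV4] at h4
    rcases lt_or_eq_of_le h4 with hlt | heq
    · have hd := Nat.mem_divisors.2 ⟨h, by norm_num⟩
      rw [show Nat.divisors 8 = {1, 2, 4, 8} from by decide] at hd
      simp only [Finset.mem_insert, Finset.mem_singleton] at hd
      omega
    · exfalso
      have e : V = V ⊔ V' := Subgroup.eq_of_le_of_card_ge le_sup_left (by omega)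
      exact hVV (Subgroup.eq_of_le_of_card_ge (e ▸ le_sup_right) (by rw [card_conj, hV4]))
  have hxS : x ∈ Nm S := by
    have h1 : x ∈ Nm V := hVn hxK.1
    have h2 : x ∈ Nm V' := by rw [Nm_mono_conj]; exact Subgroup.map_mono hVn hxK.2
    refine mem_Nm_of_conj fun s hs => ?_
    rw [← hsup] at hs ⊢
    have : (V ⊔ V').map (MulAut.conj x).toMonoidHom ≤ V ⊔ V' := by
      rw [Subgroup.map_sup]
      refine sup_le ?_ ?_
      · rintro w ⟨v, hv, rfl⟩; exact Subgroup.mem_sup_left (conj_mem h1 hv)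
      · rintro w ⟨v, hv, rfl⟩; exact Subgroup.mem_sup_right (conj_mem h2 hv)
    exact this ⟨s, hs, rfl⟩
  -- Sylow subgroups containing x
  obtain ⟨P1, hxP1, hP1⟩ : ∃ P1 : Sylow 3 T, x ∈ (P1 : Subgroup T) ∧ (P1 : Subgroup T) ≤ L := by
    have hp : IsPGroup 3 ((zpowers x).subgroupOf L) :=
      (IsPGroup.of_card (G := zpowers x) (n := 1) (by rw [Nat.card_zpowers, hx3, pow_one])).comap_subtype
    obtain ⟨R, hR⟩ := hp.exists_le_sylow
    obtain ⟨Q1, hQ1⟩ := (R.2.map L.subtype).exists_le_sylow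
    have he := Subgroup.eq_of_le_of_card_ge hQ1
      (by rw [hT.card_sylow, hT.sylow_card_map (Subgroup.le_normalizer.trans hN) R])
    exact ⟨Q1, he ▸ ⟨⟨x, hxK.1⟩, hR (mem_zpowers x), rfl⟩, he ▸ Subgroup.map_subtype_le _⟩
  have hD1 := hT.good_of_le h112 hD hP1
  obtain ⟨hN1, -, -⟩ := hT.Nm_good h112 hD1
  obtain ⟨n, hn', hn1⟩ : ∃ n ∈ S ⊓ Nm (P1 : Subgroup T), n ≠ 1 := by
    by_contra hc
    push Not at hc
    have := card_mul_le hSL hN1
    rw [(Subgroup.eq_bot_iff_forall _).2 hc, Subgroup.card_bot, hS8, hT.card_Nm_54 h112, hcard] at this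
    omega
  have hn3 : n ∉ (P1 : Subgroup T) := fun h => by
    have h1 : orderOf (⟨n, hn'.1⟩ : S) ∣ 8 := hS8 ▸ orderOf_dvd_natCard _
    rw [Subgroup.orderOf_mk, hT.orderOf_eq_three P1.2 h hn1] at h1
    norm_num at h1
  have hcomm : x * n * x⁻¹ * n⁻¹ = 1 := by
    have h1 : x * n * x⁻¹ * n⁻¹ ∈ S := mul_mem (conj_mem hxS hn'.1) (inv_mem hn'.1)
    have h2 : x * n * x⁻¹ * n⁻¹ ∈ (P1 : Subgroup T) := by
      have := mul_mem hxP1 (conj_mem hn'.2 (inv_mem hxP1))
      rwa [show x * n * x⁻¹ * n⁻¹ = x * (n * x⁻¹ * n⁻¹) by group]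
    by_contra h
    have ho := hT.orderOf_eq_three P1.2 h2 h
    have h8 : orderOf (⟨_, h1⟩ : S) ∣ 8 := hS8 ▸ orderOf_dvd_natCard _
    rw [Subgroup.orderOf_mk, ho] at h8
    norm_num at h8
  have hxn : x * n = n * x := by
    rw [mul_inv_eq_one, mul_inv_eq_iff_eq_mul] at hcomm
    exact hcomm
  -- an involution of N(P1)
  obtain ⟨t, htN, ht, htP, hcos⟩ := hT.exists_t h112 P1
  have hnt : n * t ∈ (P1 : Subgroup T) := (hcos n hn'.2).resolve_left hn3
  have hnn : n * n = 1 := by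
    have h := hcos (n * n) (mul_mem hn'.2 hn'.2)
    rcases h with h | h
    · by_contra hne2
      have ho := hT.orderOf_eq_three P1.2 h hne2
      have h8 : orderOf (⟨_, mul_mem hn'.1 hn'.1⟩ : S) ∣ 8 := hS8 ▸ orderOf_dvd_natCard _
      rw [Subgroup.orderOf_mk, ho] at h8
      norm_num at h8
    · exfalso
      apply hn3
      have h' := mul_mem h (inv_mem hnt)
      rwa [show n * n * t * (n * t)⁻¹ = n * n * n⁻¹ by group, mul_inv_cancel_right] at h'
  have hinv := hT.inverts h112 hn'.2 hnn hn3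
  have hnx : n * x * n = x := by rw [← hxn, mul_assoc, hnn, mul_one]
  by_cases hab : Ab (P1 : Subgroup T)
  · have := hinv.1 hab x hxP1
    rw [hnx] at this
    have h3' := hT.pow_three_of_mem hxP1
    rw [pow_succ, sq, this, one_mul] at h3'
    rw [h3', orderOf_one] at hx3
    omega
  have hxZ : x ∈ Zs (P1 : Subgroup T) := by
    have := (hinv.2 hab).1 x hxP1
    rw [hnx] at this
    have h3' := hT.pow_three_of_mem hxP1
    have e : x = x * x * (x * x) := by
      rw [show x * x * (x * x) = x ^ 3 * x by simp [pow_succ, mul_assoc], h3', one_mul]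
    rw [e]; exact mul_mem this this
  have hzx : zpowers x = Zs (P1 : Subgroup T) := Subgroup.eq_of_le_of_card_ge (zpowers_le.2 hxZ)
    (by rw [hT.card_Zs_mul hab, Nat.card_zpowers, hx3])
  have hNx : Nm (zpowers x) = L := by
    rw [hzx]; exact hT.Nm_Zs_eq h112 hab hD1
  -- the centre on the side of the conjugate
  set x' := g⁻¹ * x * g with hx'
  have hx'L : x' ∈ L := mem_map_conj.1 hxK.2
  obtain ⟨P2, hxP2, hP2⟩ : ∃ P2 : Sylow 3 T, x' ∈ (P2 : Subgroup T) ∧ (P2 : Subgroup T) ≤ L := by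
    have hx'3 : orderOf x' = 3 := by
      rw [← hx3, hx', show g⁻¹ * x * g = MulAut.conj g⁻¹ x by simp]
      exact orderOf_injective (MulAut.conj g⁻¹).toMonoidHom (MulAut.conj g⁻¹).injective x
    have hp : IsPGroup 3 ((zpowers x').subgroupOf L) :=
      (IsPGroup.of_card (G := zpowers x') (n := 1) (by rw [Nat.card_zpowers, hx'3, pow_one])).comap_subtype
    obtain ⟨R, hR⟩ := hp.exists_le_sylow
    obtain ⟨Q1, hQ1⟩ := (R.2.map L.subtype).exists_le_sylow
    have he := Subgroup.eq_of_le_of_card_ge hQ1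
      (by rw [hT.card_sylow, hT.sylow_card_map (Subgroup.le_normalizer.trans hN) R])
    exact ⟨Q1, he ▸ ⟨⟨x', hx'L⟩, hR (mem_zpowers x'), rfl⟩, he ▸ Subgroup.map_subtype_le _⟩
  have hab2 : ¬ Ab (P2 : Subgroup T) := fun h => hab fun a ha b hb => by
    obtain ⟨u, rfl⟩ := MulAction.exists_smul_eq T P2 P1
    rw [sylow_le_iff_conj] at ha hb
    obtain ⟨a', ha', rfl⟩ := ha
    obtain ⟨b', hb', rfl⟩ := hb
    rw [← map_mul, ← map_mul, h a' ha' b' hb']
  have hD2 := hT.good_of_le h112 hD hP2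
  obtain ⟨w, hw, hw1⟩ : ∃ w ∈ Zs (P2 : Subgroup T), w ≠ 1 := by
    by_contra hc
    push Not at hc
    have := hT.card_Zs_mul hab2
    rw [(Subgroup.eq_bot_iff_forall _).2 hc, Subgroup.card_bot] at this
    omega
  have hzw : zpowers w = Zs (P2 : Subgroup T) := Subgroup.eq_of_le_of_card_ge (zpowers_le.2 hw)
    (by rw [hT.card_Zs_mul hab2, Nat.card_zpowers, hT.orderOf_eq_three P2.2 hw.1 hw1])
  set y := g * w * g⁻¹ with hy
  have hycomm : y * x = x * y := by
    have h := hw.2 x' hxP2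
    calc y * x = g * (w * x') * g⁻¹ := by rw [hy, hx']; group
      _ = g * (x' * w) * g⁻¹ := by rw [h]
      _ = x * y := by rw [hy, hx']; group
  have hyL : y ∈ L := by
    rw [← hNx]
    refine mem_Nm_of_conj fun v hv => ?_
    obtain ⟨k, rfl⟩ := mem_zpowers_iff.1 hv
    rw [((show Commute y x from hycomm).zpow_right k).eq, mul_inv_cancel_right]
    exact zpow_mem (mem_zpowers x) k
  have hygL : y ∈ cjg g L := ⟨w, hP2 hw.1, rfl⟩
  have hy3 : orderOf y = 3 := by
    rw [← hT.orderOf_eq_three P2.2 hw.1 hw1]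
    exact orderOf_injective (MulAut.conj g).toMonoidHom (MulAut.conj g).injective w
  by_cases hyx : y ∈ zpowers x
  · -- the two centres agree
    have e : zpowers y = zpowers x := Subgroup.eq_of_le_of_card_ge (zpowers_le.2 hyx)
      (by rw [Nat.card_zpowers, Nat.card_zpowers, hy3, hx3])
    refine hg (hLL g ?_)
    have h1 : L = Nm (zpowers w) := by rw [hzw]; exact (hT.Nm_Zs_eq h112 hab2 hD2).symm
    conv_lhs => rw [h1]
    rw [cjg, ← Nm_mono_conj, MonoidHom.map_zpowers]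
    show Nm (zpowers y) = L
    rw [e, hNx]
  · -- an abelian subgroup of order 9 in K
    let A := zpowers x ⊔ zpowers y
    have hA2 : IsPGroup 3 A := IsPGroup.to_sup_of_normal_left'
      (IsPGroup.of_card (n := 1) (by rw [Nat.card_zpowers, hx3, pow_one]))
      (IsPGroup.of_card (n := 1) (by rw [Nat.card_zpowers, hy3, pow_one]))
      (zpowers_le.2 (show y ∈ Nm (zpowers x) by rw [hNx]; exact hyL))
    have hAK : A ≤ K := sup_le (zpowers_le.2 hxK) (zpowers_le.2 ⟨hyL, hygL⟩)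
    obtain ⟨j, hj⟩ := IsPGroup.iff_card.1 hA2
    have h24 := Subgroup.card_dvd_of_le hAK
    rw [hj, hKn] at h24
    have hlt : 3 < 3 ^ j := by
      rw [← hj]
      rcases lt_or_eq_of_le (Subgroup.card_le_of_le (le_sup_left : zpowers x ≤ A)) with h | h
      · rw [Nat.card_zpowers, hx3] at h; exact h
      · exact absurd ((Subgroup.eq_of_le_of_card_ge (le_sup_left : zpowers x ≤ A) h.ge).symm ▸
          Subgroup.mem_sup_right (mem_zpowers y)) hyx
    have hj2 : 2 ≤ j := by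
      by_contra hc
      have : 3 ^ j ≤ 3 ^ 1 := Nat.pow_le_pow_right (by norm_num) (by omega)
      omega
    have h9' : 3 ^ 2 ∣ 24 := (Nat.pow_dvd_pow 3 hj2).trans h24
    norm_num at h9'

end Hyp

/-- There are 28 Sylow 3-subgroups. -/
theorem Hyp.card_sylow_eq_28 (hT : Hyp T) : Nat.card (Sylow 3 T) = 28 := by
  haveI := three_prime
  rcases hT.card_sylow_set with h | h112
  · exact h
  exfalso
  obtain ⟨P, R, hPR, j, hj0, hj2, hc⟩ := Counting.exists_card_inf_mul (G := T) (p := 3) 2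
    (by rw [h112]; decide)
  obtain rfl : j = 1 := by omega
  rw [hT.card_sylow, pow_one] at hc
  exact hT.false_of_good h112 (D := (P : Subgroup T) ⊓ (R : Subgroup T))
    ⟨inf_le_left, by omega, R, hPR.symm, inf_le_right⟩

end Cfsg.Agent.Lib.U33Recog
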