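import Cfsg.Agent.Lib.U33Recog.Exclude112

/-!
The normalizer of a `Good` subgroup has a normal subgroup of order 4.
-/

set_option autoImplicit false

namespace Cfsg.Agent.Lib.U33Recog

open Subgroup
open Cfsg.Agent.Lib.SmallGroups

variable {T : Type*} [Group T] [Finite T]

/-- Burnside: a subgroup of order `4·3^k` with central Sylow 3-subgroup in its normalizer has a unique
subgroup of order 4, normalised by whatever normalises it. -/
theorem exists_four {C Qc : Subgroup T} {k : ℕ} (hC : Nat.card C = 4 * 3 ^ k) (hle : Qc ≤ C)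
    (hQ : Nat.card Qc = 3 ^ k) (hNC : C ⊓ Nm Qc ≤ centralizer (Qc : Set T)) :
    ∃ V : Subgroup T, V ≤ C ∧ Nat.card V = 4 ∧ Nm C ≤ Nm V := by
  haveI := three_prime
  let S : Subgroup C := Qc.subgroupOf C
  have hS : Nat.card S = 3 ^ k := (Nat.card_congr (subgroupOfEquivOfLe hle).toEquiv).trans hQ
  have hfac : (Nat.card C).factorization 3 = k := by
    rw [hC, Nat.factorization_mul (by norm_num) (pow_ne_zero _ (by norm_num)), Finsupp.add_apply,
      Nat.prime_three.factorization_pow, Finsupp.single_eq_same,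
      Nat.factorization_eq_zero_of_not_dvd (by norm_num), zero_add]
  let P : Sylow 3 C := Sylow.ofCard S (by rw [hS, hfac])
  have hP : normalizer ((P : Subgroup C) : Set C) ≤ centralizer ((P : Subgroup C) : Set C) := by
    intro x hx y hy
    have hx' : x.1 ∈ C ⊓ Nm Qc := ⟨x.2, mem_Nm_of_conj fun w hw =>
      (mem_normalizer_iff.1 hx ⟨w, hle hw⟩).1 hw⟩
    exact Subtype.ext (hNC hx' y.1 hy)
  have hc := MonoidHom.ker_transferSylow_isComplement' P hP
  set K := (MonoidHom.transferSylow P hP).ker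
  have hK : Nat.card K = 4 := by
    have h := hc.card_mul
    rw [show Nat.card (P : Subgroup C) = 3 ^ k from hS, hC] at h
    exact Nat.eq_of_mul_eq_mul_right (pow_pos (by norm_num) k) h
  haveI : Fact (Nat.Prime 2) := ⟨Nat.prime_two⟩
  have hK2 : (Nat.card C).factorization 2 = 2 := by
    rw [hC, Nat.factorization_mul (by norm_num) (pow_ne_zero _ (by norm_num)), Finsupp.add_apply,
      show (4 : ℕ) = 2 ^ 2 by norm_num, Nat.prime_two.factorization_pow, Finsupp.single_eq_same,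
      Nat.factorization_eq_zero_of_not_dvd (n := 3 ^ k) (fun h => by
        have := Nat.prime_two.dvd_of_dvd_pow h; norm_num at this)]
  let S2 : Sylow 2 C := Sylow.ofCard K (by rw [hK, hK2]; norm_num)
  haveI : (S2 : Subgroup C).Normal := by rw [show (S2 : Subgroup C) = K from rfl]; infer_instance
  refine ⟨K.map C.subtype, Subgroup.map_subtype_le _, by rw [Subgroup.card_map_of_injective C.subtype_injective, hK],
    fun g hg => mem_Nm_of_conj ?_⟩
  rintro w ⟨v, hv, rfl⟩
  have hv2 : IsPGroup 2 (zpowers (⟨g * v.1 * g⁻¹, conj_mem hg v.2⟩ : C)) := by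
    obtain ⟨j, hj⟩ : ∃ j : ℕ, orderOf v = 2 ^ j := by
      have h : orderOf (⟨v, hv⟩ : K) ∣ 2 ^ 2 := by rw [← show Nat.card K = 2 ^ 2 by rw [hK]; norm_num]; exact orderOf_dvd_natCard _
      rw [Subgroup.orderOf_mk] at h
      obtain ⟨j, -, hj⟩ := (Nat.dvd_prime_pow Nat.prime_two).1 h
      exact ⟨j, hj⟩
    refine IsPGroup.of_card (n := j) ?_
    rw [Nat.card_zpowers, ← hj, ← Subgroup.orderOf_coe, ← Subgroup.orderOf_coe v]
    exact orderOf_injective (MulAut.conj g).toMonoidHom (MulAut.conj g).injective v.1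
  obtain ⟨R, hR⟩ := hv2.exists_le_sylow
  haveI := Sylow.unique_of_normal S2 inferInstance
  have hmem := hR (mem_zpowers _)
  rw [show R = S2 from Subsingleton.elim _ _] at hmem
  exact ⟨_, hmem, rfl⟩

namespace Hyp

variable (hT : Hyp T) (h112 : Nat.card (Sylow 3 T) = 112)
include hT h112

theorem exists_V_ab {D : Subgroup T} {P : Sylow 3 T} (hab : Ab (P : Subgroup T)) (hD : Good D P) :
    ∃ V : Subgroup T, V ≤ Nm D ∧ Nat.card V = 4 ∧ Nm D ≤ Nm V := by
  haveI := three_prime
  obtain ⟨hN, hcard, hn⟩ := hT.Nm_good h112 hD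
  obtain ⟨t, htN, ht, htP, hcos⟩ := hT.exists_t h112 P
  set C := Nm D ⊓ centralizer (D : Set T)
  have habQ : ∀ S : Sylow 3 T, Ab (S : Subgroup T) := fun S a ha b hb => by
    obtain ⟨g, rfl⟩ := MulAction.exists_smul_eq T P S
    rw [sylow_le_iff_conj] at ha hb
    obtain ⟨a', ha', rfl⟩ := ha
    obtain ⟨b', hb', rfl⟩ := hb
    rw [← map_mul, ← map_mul, hab a' ha' b' hb']
  have hSC : ∀ S : Sylow 3 T, (S : Subgroup T) ≤ Nm D → (S : Subgroup T) ≤ C := fun S hS =>
    le_inf hS fun s hs d hd => habQ S d (le_sylow_of_le_Nm (isPGroup_of_card_nine hD.2.1) hS hd) s hs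
  have hPC := hSC P (Subgroup.le_normalizer.trans hN)
  have hCN : C ⊓ Nm (P : Subgroup T) = P := by
    refine le_antisymm (fun g hg => ?_) (le_inf hPC Subgroup.le_normalizer)
    rcases hcos g hg.2 with h | h
    · exact h
    exfalso
    obtain ⟨d, hd, hd1⟩ : ∃ d ∈ D, d ≠ 1 := by
      by_contra hc
      push Not at hc
      have := hD.2.1
      rw [(Subgroup.eq_bot_iff_forall _).2 hc, Subgroup.card_bot] at this
      omega
    have h1 : d * g = g * d := hg.1.2 d hd
    have h2 : g * t * d = d * (g * t) := hab _ h d (hD.1 hd)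
    have h3 : t * d = d * t := by
      have : g * (t * d) = g * (d * t) := by rw [← mul_assoc, h2, ← mul_assoc, h1, mul_assoc]
      exact mul_left_cancel this
    have h4 := (hT.inverts h112 htN ht htP).1 hab d (hD.1 hd)
    rw [h3, mul_assoc d t t, ht, mul_one] at h4
    have h5 := hT.pow_three_of_mem (hD.1 hd)
    exact hd1 (by rwa [pow_succ, sq, h4, one_mul] at h5)
  have hC : Nat.card C = 4 * 3 ^ 3 := by
    have h := card_eq_sylow_mul C hPC
    rw [hCN, hT.card_sylow] at h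
    have hn' : Nat.card (Sylow 3 C) = 4 := by
      rw [hT.sylow_equiv hPC, ← hn, hT.sylow_equiv (Subgroup.le_normalizer.trans hN)]
      exact Nat.card_congr (Equiv.subtypeEquivRight fun S => ⟨fun h => h.trans inf_le_left, hSC S⟩)
    rw [h, hn']; norm_num
  obtain ⟨V, hV, hV4, hVn⟩ := exists_four (k := 3) hC hPC (by rw [hT.card_sylow]; norm_num) (fun g hg => by
    have : g ∈ (P : Subgroup T) := hCN ▸ hg
    exact fun y hy => hab y hy g this)
  refine ⟨V, hV.trans inf_le_left, hV4, fun g hg => hVn (mem_Nm_of_conj fun c hc =>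
    Subgroup.mem_inf.2 ⟨mul_mem (mul_mem hg hc.1) (inv_mem hg), fun d hd => ?_⟩)⟩
  have h := hc.2 _ (conj_mem (inv_mem hg) hd)
  rw [inv_inv] at h
  calc d * (g * c * g⁻¹) = g * (g⁻¹ * d * g * c) * g⁻¹ := by group
    _ = g * (c * (g⁻¹ * d * g)) * g⁻¹ := by rw [h]
    _ = g * c * g⁻¹ * d := by group

theorem exists_V_na {D : Subgroup T} {P : Sylow 3 T} (hna : ¬ Ab (P : Subgroup T)) (hD : Good D P) :
    ∃ V : Subgroup T, V ≤ Nm D ∧ Nat.card V = 4 ∧ Nm D ≤ Nm V := by
  haveI := three_prime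
  obtain ⟨hN, hcard, hn⟩ := hT.Nm_good h112 hD
  obtain ⟨t, htN, ht, htP, hcos⟩ := hT.exists_t h112 P
  obtain ⟨hinv, hfix⟩ := (hT.inverts h112 htN ht htP).2 hna
  have hLC := hT.Nm_le_centralizer h112 hna hD
  have hZD := hT.Zs_le hna hD.1 hD.2.1
  have hZ3 := hT.card_Zs_mul hna
  obtain ⟨y, hy, hyZ⟩ : ∃ y ∈ D, y ∉ Zs (P : Subgroup T) := by
    by_contra hc
    push Not at hc
    have := Subgroup.card_le_of_le (show D ≤ Zs (P : Subgroup T) from hc)
    rw [hZ3, hD.2.1] at this; omega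
  have hgen : ∀ H : Subgroup T, y ∈ H → Zs (P : Subgroup T) ≤ H → D ≤ H := by
    intro H hyH hZH
    have hle : zpowers y ⊔ Zs (P : Subgroup T) ≤ D := sup_le (zpowers_le.2 hy) hZD
    have h1 := Subgroup.card_dvd_of_le hle
    have h2 : 3 < Nat.card ↥(zpowers y ⊔ Zs (P : Subgroup T)) := by
      rcases lt_or_eq_of_le (Subgroup.card_le_of_le (le_sup_right : Zs (P : Subgroup T) ≤ zpowers y ⊔ Zs (P : Subgroup T))) with h | h
      · omega
      · exfalso
        exact hyZ ((Subgroup.eq_of_le_of_card_ge le_sup_right h.ge).symm ▸ Subgroup.mem_sup_left (mem_zpowers y))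
    rw [hD.2.1] at h1
    have h3 : Nat.card ↥(zpowers y ⊔ Zs (P : Subgroup T)) = 9 := by
      have hd := Nat.mem_divisors.2 ⟨h1, by norm_num⟩
      rw [show Nat.divisors 9 = {1, 3, 9} from by decide] at hd
      simp only [Finset.mem_insert, Finset.mem_singleton] at hd
      omega
    rw [← Subgroup.eq_of_le_of_card_ge hle (by rw [h3, hD.2.1])]
    exact sup_le (zpowers_le.2 hyH) hZH
  set C := Nm D ⊓ centralizer (D : Set T)
  have hDC : D ≤ C := le_inf Subgroup.le_normalizer fun a ha b hb => ab_of_card_nine hD.2.1 b hb a ha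
  have hcmem : ∀ g ∈ Nm D, g * y = y * g → g ∈ C := fun g hg hgy =>
    ⟨hg, fun d hd => by
      have : D ≤ centralizer ({g} : Set T) := hgen _ (Subgroup.mem_centralizer_singleton_iff.2 hgy.symm)
        (fun z hz => Subgroup.mem_centralizer_singleton_iff.2 (hLC hg z hz))
      exact Subgroup.mem_centralizer_singleton_iff.1 (this hd)⟩
  have hyP : ∀ p ∈ (P : Subgroup T), p * y = y * p → p ∈ D := by
    intro p hp hpy
    by_contra hpD
    apply hyZ
    have htop : (P : Subgroup T) ≤ centralizer ({y} : Set T) := by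
      have hle : D ⊔ zpowers p ≤ P := sup_le hD.1 (zpowers_le.2 hp)
      have hDle : D ⊔ zpowers p ≤ centralizer ({y} : Set T) := sup_le
        (fun d hd => Subgroup.mem_centralizer_singleton_iff.2 (ab_of_card_nine hD.2.1 d hd y hy))
        (zpowers_le.2 (Subgroup.mem_centralizer_singleton_iff.2 hpy))
      rw [← Subgroup.eq_of_le_of_card_ge hle ?_]
      · exact hDle
      have h1 := Subgroup.card_dvd_of_le hle
      rw [hT.card_sylow] at h1 ⊢
      rcases lt_or_eq_of_le (Subgroup.card_le_of_le (le_sup_left : D ≤ D ⊔ zpowers p)) with h | h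
      · obtain ⟨j, hj, e⟩ := (Nat.dvd_prime_pow Nat.prime_three (m := 3)).1 (by norm_num; exact h1)
        rw [e, hD.2.1] at h
        rw [e]
        interval_cases j <;> omega
      · exact absurd ((Subgroup.eq_of_le_of_card_ge le_sup_left h.ge).symm ▸ Subgroup.mem_sup_right (mem_zpowers p)) hpD
    exact ⟨hD.1 hy, fun w hw => Subgroup.mem_centralizer_singleton_iff.1 (htop hw)⟩
  have hCN : C ⊓ Nm (P : Subgroup T) = D := by
    refine le_antisymm (fun g hg => ?_) (le_inf hDC (hD.1.trans Subgroup.le_normalizer))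
    have hgy : g * y = y * g := (hg.1.2 y hy).symm
    rcases hcos g hg.2 with h | h
    · exact hyP g h hgy
    exfalso
    apply hyZ
    have hp := mul_mem (mul_mem h (hD.1 hy)) (inv_mem h)
    have e2 : g * t * y * (g * t)⁻¹ = g * (t * y * t) * g⁻¹ := by
      rw [mul_inv_rev, inv_eq_self_of_mul ht]; group
    obtain ⟨c, hc, hty⟩ : ∃ c ∈ Zs (P : Subgroup T), t * y * t = c * y⁻¹ := ⟨_, hinv y (hD.1 hy), by group⟩
    have hcg : g * c = c * g := (hLC hg.1.1 c hc).symm
    have e3 : g * t * y * (g * t)⁻¹ = c * y⁻¹ := by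
      rw [e2, hty, ← mul_assoc, hcg, mul_assoc c, (Commute.inv_right hgy).eq]
      group
    have hk := hT.center_ne P (g * t)⁻¹ y⁻¹ (inv_mem h) (inv_mem (hD.1 hy))
    simp only [inv_inv] at hk
    have e4 : g * t * y * (g * t)⁻¹ * y⁻¹ ∈ Zs (P : Subgroup T) :=
      Subgroup.mem_inf.2 ⟨mul_mem hp (inv_mem (hD.1 hy)), fun w hw => ((hk w hw).eq).symm⟩
    rw [e3] at e4
    have hyy : y⁻¹ * y⁻¹ ∈ Zs (P : Subgroup T) := by
      have := mul_mem (inv_mem hc) e4
      rwa [show c⁻¹ * (c * y⁻¹ * y⁻¹) = y⁻¹ * y⁻¹ by group] at this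
    have h3 : y⁻¹ * y⁻¹ * y⁻¹ = 1 := by
      have := hT.pow_three_of_mem (inv_mem (hD.1 hy))
      rwa [pow_succ, sq] at this
    rwa [eq_inv_of_mul_eq_one_left h3, inv_inv] at hyy
  -- orbit of y
  let O := {w : D // w.1 ∉ Zs (P : Subgroup T)}
  have hO : Nat.card O = 6 := by
    classical
    haveI := Fintype.ofFinite D
    have hsub : Nat.card {w : D // w.1 ∈ Zs (P : Subgroup T)} = 3 :=
      (Nat.card_congr (Equiv.subtypeSubtypeEquivSubtype fun {w} hw => hZD hw)).trans hZ3
    rw [Nat.card_eq_fintype_card] at hsub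
    rw [Nat.card_eq_fintype_card, Fintype.card_subtype_compl, hsub, ← Nat.card_eq_fintype_card, hD.2.1]
  let f : ↥(Nm D) ⧸ C.subgroupOf (Nm D) → O := fun q => ⟨⟨q.out.1 * y * q.out.1⁻¹, conj_mem q.out.2 hy⟩, fun hz => by
    apply hyZ
    have h := hLC (inv_mem q.out.2) _ hz
    have e : y = q.out.1⁻¹ * (q.out.1 * y * q.out.1⁻¹) * q.out.1 := by group
    rw [e, ← h, mul_assoc, inv_mul_cancel, mul_one]
    exact hz⟩
  have hf : Function.Injective f := by
    intro a b e
    rw [← a.out_eq, ← b.out_eq, Quotient.eq, QuotientGroup.leftRel_apply]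
    refine hcmem _ (mul_mem (inv_mem a.out.2) b.out.2) ?_
    have e' : a.out.1 * y * a.out.1⁻¹ = b.out.1 * y * b.out.1⁻¹ :=
      congrArg (fun w : O => w.1.1) e
    calc a.out.1⁻¹ * b.out.1 * y = a.out.1⁻¹ * (b.out.1 * y * b.out.1⁻¹) * b.out.1 := by group
      _ = y * (a.out.1⁻¹ * b.out.1) := by rw [← e']; group
  have h6 := Nat.card_le_card_of_injective f hf
  have hmul := Subgroup.card_eq_card_quotient_mul_card_subgroup (C.subgroupOf (Nm D))
  rw [Nat.card_congr (subgroupOfEquivOfLe (inf_le_left : C ≤ Nm D)).toEquiv, hcard] at hmul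
  rw [hO] at h6
  have hup : Nat.card C * Nat.card (Nm (P : Subgroup T)) ≤
      Nat.card ↥(C ⊓ Nm (P : Subgroup T)) * Nat.card (Nm D) := card_mul_le inf_le_left hN
  rw [hT.card_Nm_54 h112, hCN, hD.2.1, hcard] at hup
  have hC : Nat.card C = 4 * 3 ^ 2 := by
    have : 216 ≤ 6 * Nat.card C := hmul ▸ Nat.mul_le_mul_right _ h6
    norm_num
    omega
  have hCconj : Nm D ≤ Nm C := fun g hg => mem_Nm_of_conj fun c hc =>
    Subgroup.mem_inf.2 ⟨mul_mem (mul_mem hg hc.1) (inv_mem hg), fun d hd => by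
      have h := hc.2 _ (conj_mem (inv_mem hg) hd)
      rw [inv_inv] at h
      calc d * (g * c * g⁻¹) = g * (g⁻¹ * d * g * c) * g⁻¹ := by group
        _ = g * (c * (g⁻¹ * d * g)) * g⁻¹ := by rw [h]
        _ = g * c * g⁻¹ * d := by group⟩
  obtain ⟨V, hV, hV4, hVn⟩ := exists_four (k := 2) hC hDC hD.2.1 (fun g hg => hg.1.2)
  exact ⟨V, hV.trans inf_le_left, hV4, hCconj.trans hVn⟩

theorem exists_V {D : Subgroup T} {P : Sylow 3 T} (hD : Good D P) :
    ∃ V : Subgroup T, V ≤ Nm D ∧ Nat.card V = 4 ∧ Nm D ≤ Nm V := by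
  by_cases hab : Ab (P : Subgroup T)
  · exact hT.exists_V_ab h112 hab hD
  · exact hT.exists_V_na h112 hab hD

end Hyp

end Cfsg.Agent.Lib.U33Recog
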