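import Cfsg.Agent.Lib.U33Recog.Local

/-!
When `|N(P)| = 54` the involution of `N(P)` inverts the abelianised Sylow subgroup.
-/

set_option autoImplicit false

namespace Cfsg.Agent.Lib.U33Recog

open Subgroup
open Cfsg.Agent.Lib.SmallGroups
open scoped commutatorElement

variable {T : Type*} [Group T] [Finite T]

/-- The norm argument: if `N = P ∪ Pt` and `P ≤ N'` then `t` inverts `P` modulo `C`. -/
theorem inverts_of_le_commutator {P N C : Subgroup T} {t : T} (ht : t * t = 1) (htP : t ∉ P)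
    (htn : ∀ y ∈ P, t * y * t ∈ P) (hN : ∀ g ∈ N, g ∈ P ∨ g * t ∈ P)
    (hc : ∀ a ∈ P, ∀ b ∈ P, a⁻¹ * b⁻¹ * a * b ∈ C) (hCn : ∀ a ∈ P, ∀ c ∈ C, a * c * a⁻¹ ∈ C)
    (hCt : ∀ c ∈ C, t * c * t ∈ C) (hle : P ≤ ⁅N, N⁆) :
    ∀ y ∈ P, t * y * t * y ∈ C := by
  classical
  let C' : Subgroup ↥P := C.subgroupOf P
  haveI : C'.Normal := ⟨fun c hcc a => hCn a.1 a.2 c.1 hcc⟩
  have hcomm : ∀ a b : ↥P ⧸ C', a * b = b * a := by
    intro a b
    induction a using QuotientGroup.induction_on with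
    | _ a =>
      induction b using QuotientGroup.induction_on with
      | _ b =>
        rw [← QuotientGroup.mk_mul, ← QuotientGroup.mk_mul, QuotientGroup.eq]
        show (a.1 * b.1)⁻¹ * (b.1 * a.1) ∈ C
        rw [show (a.1 * b.1)⁻¹ * (b.1 * a.1) = b.1⁻¹ * a.1⁻¹ * b.1 * a.1 by group]
        exact hc b.1 b.2 a.1 a.2
  letI : CommGroup (↥P ⧸ C') := { (inferInstance : Group (↥P ⧸ C')) with mul_comm := hcomm }
  let cj : ↥P →* ↥P :=
    { toFun := fun y => ⟨t * y.1 * t, htn y.1 y.2⟩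
      map_one' := Subtype.ext (by show t * 1 * t = 1; rw [mul_one, ht])
      map_mul' := fun a b => Subtype.ext (by
        show t * (a.1 * b.1) * t = t * a.1 * t * (t * b.1 * t)
        have : t * a.1 * t * (t * b.1 * t) = t * a.1 * (t * t) * b.1 * t := by group
        rw [this, ht]; group) }
  let π : ↥P →* ↥P ⧸ C' :=
    { toFun := fun y => QuotientGroup.mk' C' (cj y) * QuotientGroup.mk' C' y
      map_one' := by simp
      map_mul' := fun a b => by
        simp only [map_mul]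
        exact mul_mul_mul_comm _ _ _ _ }
  have hπt : ∀ a : ↥P, π (cj a) = π a := fun a => by
    show QuotientGroup.mk' C' (cj (cj a)) * QuotientGroup.mk' C' (cj a) = QuotientGroup.mk' C' (cj a) * QuotientGroup.mk' C' a
    rw [show cj (cj a) = a from Subtype.ext (by
      show t * (t * a.1 * t) * t = a.1
      rw [show t * (t * a.1 * t) * t = t * t * a.1 * (t * t) by group, ht, one_mul, mul_one])]
    exact mul_comm _ _
  have hcase : ∀ g : ↥N, g.1 ∉ P → g.1 * t ∈ P := fun g hg => (hN g.1 g.2).resolve_left hg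
  let φ : ↥N → ↥P ⧸ C' := fun g => if h : g.1 ∈ P then π ⟨g.1, h⟩ else π ⟨g.1 * t, hcase g h⟩
  have htm : ∀ g : T, g ∈ P → g * t ∉ P := fun g hg h => htP (by simpa using mul_mem (inv_mem hg) h)
  have hmul : ∀ g h : ↥N, φ (g * h) = φ g * φ h := by
    intro g h
    by_cases hg : g.1 ∈ P <;> by_cases hh : h.1 ∈ P
    · have hgh : (g * h).1 ∈ P := mul_mem hg hh
      simp only [φ, dif_pos hg, dif_pos hh, dif_pos hgh, ← map_mul]
      rfl
    · have hgh : (g * h).1 ∉ P := fun e => hh (by simpa using mul_mem (inv_mem hg) e)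
      simp only [φ, dif_pos hg, dif_neg hh, dif_neg hgh, ← map_mul]
      congr 1
      exact Subtype.ext (mul_assoc g.1 h.1 t)
    · have hgh : (g * h).1 ∉ P := fun e => hg (by simpa using mul_mem e (inv_mem hh))
      simp only [φ, dif_neg hg, dif_pos hh, dif_neg hgh]
      conv_rhs => rw [← hπt ⟨h.1, hh⟩]
      rw [← map_mul]
      congr 1
      apply Subtype.ext
      show g.1 * h.1 * t = g.1 * t * (t * h.1 * t)
      rw [show g.1 * t * (t * h.1 * t) = g.1 * (t * t) * h.1 * t by group, ht, mul_one]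
    · have e2 : (g * h).1 = g.1 * t * (t * (h.1 * t) * t) := by
        show g.1 * h.1 = _
        rw [show g.1 * t * (t * (h.1 * t) * t) = g.1 * (t * t) * h.1 * (t * t) by group, ht, mul_one, mul_one]
      have hgh : (g * h).1 ∈ P := e2 ▸ mul_mem (hcase g hg) (htn _ (hcase h hh))
      simp only [φ, dif_neg hg, dif_neg hh, dif_pos hgh]
      conv_rhs => rw [← hπt ⟨h.1 * t, hcase h hh⟩]
      rw [← map_mul]
      congr 1
      exact Subtype.ext e2
  let Φ : ↥N →* ↥P ⧸ C' := MonoidHom.mk' φ hmul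
  have hker : ⁅N, N⁆ ≤ Φ.ker.map N.subtype := by
    rw [Subgroup.commutator_le]
    intro a ha b hb
    refine ⟨⁅(⟨a, ha⟩ : ↥N), ⟨b, hb⟩⁆, ?_, map_commutatorElement N.subtype _ _⟩
    rw [SetLike.mem_coe, MonoidHom.mem_ker, map_commutatorElement, commutatorElement_eq_one_iff_mul_comm]
    exact mul_comm _ _
  intro y hy
  obtain ⟨g, hg, hgy⟩ := hker (hle hy)
  have hg' : φ g = 1 := hg
  have hgy' : g.1 = y := hgy
  subst hgy'
  simp only [φ, dif_pos hy] at hg'
  simp only [π, MonoidHom.coe_mk, OneHom.coe_mk, QuotientGroup.mk'_apply] at hg'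
  rw [← QuotientGroup.mk_mul, QuotientGroup.eq_one_iff] at hg'
  exact hg'

theorem t_conj {P : Sylow 3 T} {t y : T} (htN : t ∈ Nm (P : Subgroup T)) (ht : t * t = 1)
    (hy : y ∈ (P : Subgroup T)) : t * y * t ∈ (P : Subgroup T) := by
  have := conj_mem htN hy
  rwa [inv_eq_of_mul_eq_one_right ht] at this

namespace Hyp

variable (hT : Hyp T)
include hT

theorem card_Nm_54 (h112 : Nat.card (Sylow 3 T) = 112) (P : Sylow 3 T) :
    Nat.card (Nm (P : Subgroup T)) = 54 := by
  haveI := three_prime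
  have h := Sylow.card_normalizer_mul P
  rw [h112, hT.card] at h
  change Nat.card (Nm (P : Subgroup T)) * _ = _ at h
  omega

theorem exists_t (h112 : Nat.card (Sylow 3 T) = 112) (P : Sylow 3 T) :
    ∃ t ∈ Nm (P : Subgroup T), t * t = 1 ∧ t ∉ (P : Subgroup T) ∧
      ∀ g ∈ Nm (P : Subgroup T), g ∈ (P : Subgroup T) ∨ g * t ∈ (P : Subgroup T) := by
  haveI := three_prime
  obtain ⟨t, ht, ht2⟩ := exists_involution (H := Nm (P : Subgroup T)) (by rw [hT.card_Nm_54 h112 P]; norm_num)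
  have htP : t ∉ (P : Subgroup T) := fun h => by
    have h3 := hT.orderOf_eq_three P.2 h (fun e => by rw [e, orderOf_one] at ht2; omega)
    omega
  have hi : ((P : Subgroup T).subgroupOf (Nm (P : Subgroup T))).index = 2 := by
    have h1 := Subgroup.card_mul_index ((P : Subgroup T).subgroupOf (Nm (P : Subgroup T)))
    rw [Nat.card_congr (subgroupOfEquivOfLe Subgroup.le_normalizer).toEquiv, hT.card_sylow,
      hT.card_Nm_54 h112 P] at h1
    omega
  refine ⟨t, ht, by rw [← sq, ← ht2, pow_orderOf_eq_one], htP, fun g hg => ?_⟩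
  by_cases hgP : g ∈ (P : Subgroup T)
  · exact Or.inl hgP
  right
  have := (Subgroup.mul_mem_iff_of_index_two hi (a := ⟨g, hg⟩) (b := ⟨t, ht⟩)).2
    (iff_of_false hgP htP)
  exact this

/-- The action of the involution on `P`. -/
theorem inverts (h112 : Nat.card (Sylow 3 T) = 112) {P : Sylow 3 T} {t : T}
    (htN : t ∈ Nm (P : Subgroup T)) (ht : t * t = 1) (htP : t ∉ (P : Subgroup T)) :
    (Ab (P : Subgroup T) → ∀ y ∈ (P : Subgroup T), t * y * t * y = 1) ∧
      (¬ Ab (P : Subgroup T) → (∀ y ∈ (P : Subgroup T), t * y * t * y ∈ Zs (P : Subgroup T)) ∧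
        ∀ z ∈ Zs (P : Subgroup T), t * z * t = z) := by
  haveI := three_prime
  obtain ⟨t', ht'N, ht'2, ht'P, hN'⟩ := hT.exists_t h112 P
  have hN : ∀ g ∈ Nm (P : Subgroup T), g ∈ (P : Subgroup T) ∨ g * t ∈ (P : Subgroup T) := fun g hg => by
    by_cases hgP : g ∈ (P : Subgroup T)
    · exact Or.inl hgP
    have h1 := (hN' g hg).resolve_left hgP
    have h2 := (hN' t htN).resolve_left htP
    right
    have := mul_mem h1 (inv_mem h2)
    rwa [mul_inv_rev, inv_eq_of_mul_eq_one_right ht, inv_eq_of_mul_eq_one_right ht'2,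
      show g * t' * (t' * t) = g * (t' * t') * t by group, ht'2, mul_one] at this
  constructor
  · intro hab y hy
    have h := inverts_of_le_commutator (C := (⊥ : Subgroup T)) ht htP (fun y hy => t_conj htN ht hy) hN
      (fun a ha b hb => by
        rw [Subgroup.mem_bot, mul_assoc, mul_assoc, ← mul_assoc b⁻¹, mul_assoc, hab a ha b hb]; group)
      (fun a _ c hc => by simp [Subgroup.mem_bot.1 hc])
      (fun c hc => by simp [Subgroup.mem_bot.1 hc, ht]) (hT.le_commutator P) y hy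
    exact Subgroup.mem_bot.1 h
  · intro hna
    have hfix : ∀ c ∈ Zs (P : Subgroup T), t * c * t ∈ Zs (P : Subgroup T) := fun c hc => by
      have := conj_mem (hT.Zs_le_Nm htN) hc
      rwa [inv_eq_of_mul_eq_one_right ht] at this
    have hinv := inverts_of_le_commutator (C := Zs (P : Subgroup T)) ht htP (fun y hy => t_conj htN ht hy) hN
      (fun a ha b hb => Subgroup.mem_inf.2 ⟨mul_mem (mul_mem (mul_mem (inv_mem ha) (inv_mem hb)) ha) hb,
        fun c hc => ((hT.center_ne P a b ha hb c hc).eq).symm⟩)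
      (fun a ha c hc => by rw [hc.2 a ha, mul_inv_cancel_right]; exact hc)
      hfix (hT.le_commutator P)
    refine ⟨hinv, fun z hz => ?_⟩
    obtain ⟨a, ha, b, hb, hab⟩ : ∃ a ∈ (P : Subgroup T), ∃ b ∈ (P : Subgroup T), a * b ≠ b * a := by
      simpa [Ab] using hna
    set w := a⁻¹ * b⁻¹ * a * b with hw
    have hwZ : w ∈ Zs (P : Subgroup T) := Subgroup.mem_inf.2 ⟨mul_mem (mul_mem (mul_mem (inv_mem ha) (inv_mem hb)) ha) hb,
      fun c hc => ((hT.center_ne P a b ha hb c hc).eq).symm⟩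
    have hw1 : w ≠ 1 := fun e => hab (by
      have : a * b = b * a * w := by rw [hw]; group
      rw [this, e, mul_one])
    have hwfix : t * w * t = w := by
      have cj : ∀ y ∈ (P : Subgroup T), ∃ c ∈ Zs (P : Subgroup T), t * y * t = c * y⁻¹ := fun y hy =>
        ⟨_, hinv y hy, by group⟩
      obtain ⟨c, hc, hca⟩ := cj a ha
      obtain ⟨d, hd, hdb⟩ := cj b hb
      have e1 : t * w * t = (t * a * t)⁻¹ * (t * b * t)⁻¹ * (t * a * t) * (t * b * t) := by
        have ti := inv_eq_of_mul_eq_one_right ht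
        simp only [hw, mul_inv_rev, ti]
        simp only [mul_assoc]
        simp only [← mul_assoc t t, ht, one_mul]
      rw [e1, hca, hdb]
      have hcc : ∀ x ∈ (P : Subgroup T), Commute c x := fun x hx => (hc.2 x hx).symm
      have hdd : ∀ x ∈ (P : Subgroup T), Commute d x := fun x hx => (hd.2 x hx).symm
      have e2 : (c * a⁻¹)⁻¹ * (d * b⁻¹)⁻¹ * (c * a⁻¹) * (d * b⁻¹) = a * b * a⁻¹ * b⁻¹ := by
        simp only [mul_inv_rev, inv_inv]
        calc a * c⁻¹ * (b * d⁻¹) * (c * a⁻¹) * (d * b⁻¹)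
            = a * b * c⁻¹ * (d⁻¹ * c) * a⁻¹ * (d * b⁻¹) := by
              rw [show a * c⁻¹ * (b * d⁻¹) = a * (c⁻¹ * b) * d⁻¹ by group, ((hcc b hb).inv_left).eq]; group
          _ = a * b * (d⁻¹ * a⁻¹) * (d * b⁻¹) := by rw [((hdd c hc.1).inv_left).eq]; group
          _ = a * b * a⁻¹ * b⁻¹ := by rw [((hdd a⁻¹ (inv_mem ha)).inv_left).eq]; group
      rw [e2]
      have h3 : Commute w (b * a) := (hwZ.2 _ (mul_mem hb ha)).symm
      calc a * b * a⁻¹ * b⁻¹ = b * a * w * (b * a)⁻¹ := by rw [hw]; group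
        _ = w := by rw [← h3.eq, mul_inv_cancel_right]
    have hz3 : Nat.card (Zs (P : Subgroup T)) = 3 := hT.card_Zs_mul hna
    have hzw : z ∈ zpowers w := by
      have he : zpowers w = Zs (P : Subgroup T) := Subgroup.eq_of_le_of_card_ge (zpowers_le.2 hwZ)
        (by rw [hz3, Nat.card_zpowers, hT.orderOf_eq_three P.2 hwZ.1 hw1])
      rw [he]; exact hz
    obtain ⟨k, rfl⟩ := mem_zpowers_iff.1 hzw
    have e : MulAut.conj t w = w := by
      rw [MulAut.conj_apply, inv_eq_of_mul_eq_one_right ht, hwfix]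
    have := congrArg (· ^ k) e
    change (MulAut.conj t w) ^ k = w ^ k at this
    rw [← map_zpow, MulAut.conj_apply, inv_eq_of_mul_eq_one_right ht] at this
    exact this

end Hyp

end Cfsg.Agent.Lib.U33Recog
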