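import Cfsg.Agent.Lib.U33Recog.Basics

/-!
Local tools: Sylow 3-subgroups inside a subgroup, centres of Sylow 3-subgroups, and normalizers of
intersections of order 9.
-/

set_option autoImplicit false

namespace Cfsg.Agent.Lib.U33Recog

open Subgroup
open Cfsg.Agent.Lib.SmallGroups

variable {T : Type*} [Group T] [Finite T]

/-- the centre of a subgroup, as a subgroup -/
abbrev Zs (D : Subgroup T) : Subgroup T := D ⊓ centralizer (D : Set T)

/-- `D` is commutative -/
abbrev Ab (D : Subgroup T) : Prop := ∀ x ∈ D, ∀ y ∈ D, x * y = y * x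

theorem mem_Nm_sylow {p : ℕ} {g : T} {P : Sylow p T} : g ∈ Nm (P : Subgroup T) ↔ g • P = P :=
  Sylow.smul_eq_iff_mem_normalizer.symm

theorem Nm_mono_conj {D : Subgroup T} {g : T} :
    Nm (D.map (MulAut.conj g).toMonoidHom) = (Nm D).map (MulAut.conj g).toMonoidHom := by
  rw [Nm, Nm, Subgroup.map_equiv_normalizer_eq]

theorem card_conj (D : Subgroup T) (g : T) :
    Nat.card (D.map (MulAut.conj g).toMonoidHom) = Nat.card D :=
  Subgroup.card_map_of_injective (MulAut.conj g).injective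

theorem mem_map_conj {D : Subgroup T} {g x : T} :
    x ∈ D.map (MulAut.conj g).toMonoidHom ↔ g⁻¹ * x * g ∈ D := by
  constructor
  · rintro ⟨y, hy, rfl⟩
    simpa [mul_assoc] using hy
  · intro h
    exact ⟨_, h, by simp [mul_assoc]⟩

theorem sylow_le_iff_conj {p : ℕ} {P : Sylow p T} {g : T} :
    ((g • P : Sylow p T) : Subgroup T) = (P : Subgroup T).map (MulAut.conj g).toMonoidHom := rfl

theorem isPGroup_of_card_nine {D : Subgroup T} (h : Nat.card D = 9) : IsPGroup 3 D :=
  IsPGroup.of_card (n := 2) (by rw [h]; norm_num)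

theorem ab_of_card_nine {D : Subgroup T} (h : Nat.card D = 9) : Ab D := fun x hx y hy => by
  haveI := three_prime
  exact (Counting.comm_of_card_sq (p := 3) (by rw [h]; norm_num) hy x hx)

/-- A 3-subgroup normalised by a Sylow subgroup's group `L` lies in every Sylow subgroup inside it. -/
theorem le_sylow_of_le_Nm {D : Subgroup T} (hD : IsPGroup 3 D) {Q : Sylow 3 T}
    (hQ : (Q : Subgroup T) ≤ Nm D) : D ≤ Q := by
  haveI := three_prime
  haveI : (D.subgroupOf (Nm D)).Normal := Subgroup.normal_in_normalizer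
  have h := IsPGroup.le_sylow_of_normal (N := D.subgroupOf (Nm D))
    (hD.comap_subtype) (Q.subtype hQ)
  intro x hx
  exact h (x := ⟨x, Subgroup.le_normalizer hx⟩) hx

/-- A subgroup of index 3 in a Sylow 3-subgroup is normalised by it. -/
theorem sylow_le_Nm {D : Subgroup T} {P : Sylow 3 T} (h : D ≤ P)
    (hc : Nat.card D * 3 = Nat.card (P : Subgroup T)) : (P : Subgroup T) ≤ Nm D := by
  haveI := three_prime
  rw [Nm, ← normal_subgroupOf_iff_le_normalizer h]
  have hi : (D.subgroupOf (P : Subgroup T)).index = 3 := by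
    have h1 := Subgroup.card_mul_index (D.subgroupOf (P : Subgroup T))
    rw [Nat.card_congr (subgroupOfEquivOfLe h).toEquiv, ← hc] at h1
    exact Nat.eq_of_mul_eq_mul_left Nat.card_pos h1
  apply Subgroup.normal_of_index_eq_minFac_card
  rw [hi]
  obtain ⟨a, ha⟩ := P.2.exists_card_eq
  rw [ha]
  rcases Nat.eq_zero_or_pos a with h0 | h0
  · subst h0; omega
  · exact (Nat.prime_three.pow_minFac h0.ne').symm

/-- Counting Sylow 3-subgroups inside a subgroup. -/
theorem card_eq_sylow_mul (L : Subgroup T) {P : Sylow 3 T} (hP : (P : Subgroup T) ≤ L) :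
    Nat.card L = Nat.card ↥(L ⊓ Nm (P : Subgroup T)) * Nat.card (Sylow 3 L) := by
  haveI := three_prime
  rw [← Sylow.card_normalizer_mul (P.subtype hP)]
  congr 1
  refine Nat.card_congr (Equiv.ofBijective (fun x => ⟨x.1.1, x.1.2, ?_⟩) ⟨fun a b e => ?_, fun y => ?_⟩)
  · refine mem_Nm_of_conj fun y hy => ?_
    exact (mem_normalizer_iff.1 x.2 ⟨y, hP hy⟩).1 hy
  · simpa [Subtype.ext_iff] using e
  · exact ⟨⟨⟨y.1, y.2.1⟩, mem_normalizer_iff.2 fun z => mem_normalizer_iff.1 y.2.2 z.1⟩, rfl⟩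

namespace Hyp

variable (hT : Hyp T)
include hT

theorem sylow_card_map {L : Subgroup T} {P : Sylow 3 T} (hP : (P : Subgroup T) ≤ L) (S : Sylow 3 L) :
    Nat.card ((S : Subgroup L).map L.subtype) = 27 := by
  haveI := three_prime
  rw [Subgroup.card_map_of_injective L.subtype_injective,
    Nat.card_congr (S.equiv (P.subtype hP)).toEquiv]
  exact (Nat.card_congr (subgroupOfEquivOfLe hP).toEquiv).trans (hT.card_sylow P)

/-- Sylow subgroups of a subgroup containing one, as those of the group. -/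
theorem sylow_equiv {L : Subgroup T} {P : Sylow 3 T} (hP : (P : Subgroup T) ≤ L) :
    Nat.card (Sylow 3 L) = Nat.card {Q : Sylow 3 T // (Q : Subgroup T) ≤ L} := by
  haveI := three_prime
  refine (Nat.card_congr (Equiv.ofBijective (fun Q : {Q : Sylow 3 T // (Q : Subgroup T) ≤ L} => Q.1.subtype Q.2)
    ⟨fun a b e => Subtype.ext (Sylow.subtype_injective e), fun S => ?_⟩)).symm
  obtain ⟨Q, hQ⟩ := (S.2.map L.subtype).exists_le_sylow
  have he := Subgroup.eq_of_le_of_card_ge hQ (by rw [hT.card_sylow, hT.sylow_card_map hP S])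
  have hle : (Q : Subgroup T) ≤ L := he ▸ Subgroup.map_subtype_le _
  refine ⟨⟨Q, hle⟩, Sylow.ext ?_⟩
  show (Q : Subgroup T).subgroupOf L = S
  rw [← he]
  exact Subgroup.comap_map_eq_self_of_injective L.subtype_injective _

theorem sylow_mod {L : Subgroup T} : Nat.card (Sylow 3 L) % 3 = 1 :=
  haveI := three_prime
  Sylow.card_sylow_mod

theorem pow_three_of_mem {P : Sylow 3 T} {x : T} (hx : x ∈ (P : Subgroup T)) : x ^ 3 = 1 :=
  hT.pow_three P.2 hx

theorem card_Zs_mul {P : Sylow 3 T} (hna : ¬ Ab (P : Subgroup T)) :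
    Nat.card (Zs (P : Subgroup T)) = 3 := by
  haveI := three_prime
  let P' : Subgroup T := P
  haveI : Nontrivial ↥P' := (Subgroup.nontrivial_iff_ne_bot _).2 (hT.sylow_ne_bot P)
  have hZ : Zs (P : Subgroup T) = (Subgroup.center ↥P').map P'.subtype := by
    ext x
    constructor
    · rintro ⟨hx, hc⟩
      exact ⟨⟨x, hx⟩, Subgroup.mem_center_iff.2 fun y => Subtype.ext (hc y.1 y.2), rfl⟩
    · rintro ⟨y, hy, rfl⟩
      exact ⟨y.2, fun z hz => congrArg Subtype.val (Subgroup.mem_center_iff.1 hy ⟨z, hz⟩)⟩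
  rw [hZ, Subgroup.card_map_of_injective P'.subtype_injective]
  haveI : Nontrivial (Subgroup.center ↥P') := P.2.center_nontrivial
  obtain ⟨k, hk⟩ := IsPGroup.iff_card.1 (P.2.to_subgroup (Subgroup.center ↥P'))
  have hk1 : k ≠ 0 := by
    rintro rfl
    exact (not_nontrivial_iff_subsingleton.2 (Nat.card_eq_one_iff_unique.1 hk).1) ‹_›
  have hmul := Subgroup.card_eq_card_quotient_mul_card_subgroup (Subgroup.center ↥P')
  rw [show Nat.card ↥P' = 27 from hT.card_sylow P, hk] at hmul
  have hk2 : k ≤ 1 := by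
    by_contra hc
    apply hna
    have hq : Nat.card (↥P' ⧸ Subgroup.center ↥P') ≤ 3 := by
      have : 9 ≤ 3 ^ k := by calc 9 = 3 ^ 2 := by norm_num
                             _ ≤ 3 ^ k := Nat.pow_le_pow_right (by norm_num) (by omega)
      nlinarith
    haveI : IsCyclic (↥P' ⧸ Subgroup.center ↥P') := by
      obtain ⟨j, hj⟩ := IsPGroup.iff_card.1 (P.2.to_quotient (Subgroup.center ↥P'))
      rw [hj] at hq
      rcases (show j = 0 ∨ j = 1 by
        by_contra hj2
        have : 3 ^ 2 ≤ 3 ^ j := Nat.pow_le_pow_right (by norm_num) (by omega)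
        omega) with rfl | rfl
      · haveI := (Nat.card_eq_one_iff_unique.1 (by simpa using hj)).1
        exact inferInstance
      · exact isCyclic_of_prime_card (by simpa using hj)
    intro x hx y hy
    exact congrArg Subtype.val ((commutative_of_cyclic_center_quotient (QuotientGroup.mk' (Subgroup.center ↥P'))
      (by rw [QuotientGroup.ker_mk'])) ⟨x, hx⟩ ⟨y, hy⟩)
  rw [hk, show k = 1 by omega, pow_one]

theorem Zs_le {P : Sylow 3 T} (hna : ¬ Ab (P : Subgroup T)) {D : Subgroup T} (hD : D ≤ P)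
    (h9 : Nat.card D = 9) : Zs (P : Subgroup T) ≤ D := by
  by_contra hle
  apply hna
  obtain ⟨z, hz, hzD⟩ := SetLike.not_le_iff_exists.1 hle
  have hgt : D < D ⊔ zpowers z := lt_of_le_of_ne le_sup_left fun e =>
    hzD (e ▸ Subgroup.mem_sup_right (mem_zpowers z))
  have hleP : D ⊔ zpowers z ≤ P := sup_le hD ((zpowers_le).2 hz.1)
  have htop : D ⊔ zpowers z = (P : Subgroup T) := by
    refine Subgroup.eq_of_le_of_card_ge hleP ?_
    have h1 := Subgroup.card_dvd_of_le hleP
    have h2 := Subgroup.card_dvd_of_le hgt.le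
    have h3 : Nat.card D < Nat.card ↥(D ⊔ zpowers z) :=
      lt_of_le_of_ne (Subgroup.card_le_of_le hgt.le) fun e =>
        hgt.ne (Subgroup.eq_of_le_of_card_ge hgt.le e.ge)
    rw [hT.card_sylow] at h1 ⊢
    rw [h9] at h2 h3
    obtain ⟨c, hc⟩ := h2
    rw [hc] at h1 h3
    have : c ∣ 3 := Nat.dvd_of_mul_dvd_mul_left (by norm_num : 0 < 9) h1
    rcases (Nat.dvd_prime Nat.prime_three).1 this with rfl | rfl <;> omega
  have hcl : D ⊔ zpowers z ≤ centralizer (D : Set T) := sup_le (fun x hx y hy => ab_of_card_nine h9 y hy x hx)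
    (zpowers_le.2 fun y hy => hz.2 y (hD hy))
  intro x hx y hy
  rw [← htop] at hx hy
  have hcl2 : D ⊔ zpowers z ≤ centralizer ((D ⊔ zpowers z : Subgroup T) : Set T) := by
    refine sup_le (fun d hd w hw => (hcl hw d hd).symm) (zpowers_le.2 fun w hw => hz.2 w (hleP hw))
  exact (hcl2 hy x hx)

theorem Zs_le_Nm {P : Sylow 3 T} : Nm (P : Subgroup T) ≤ Nm (Zs (P : Subgroup T)) := by
  intro g hg
  refine mem_Nm_of_conj fun y hy => ⟨conj_mem hg hy.1, fun w hw => ?_⟩
  have hw' : g⁻¹ * w * g ∈ (P : Subgroup T) := by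
    have := conj_mem (inv_mem hg) hw
    simpa using this
  have := hy.2 _ hw'
  calc w * (g * y * g⁻¹) = g * ((g⁻¹ * w * g) * y) * g⁻¹ := by group
    _ = g * (y * (g⁻¹ * w * g)) * g⁻¹ := by rw [this]
    _ = g * y * g⁻¹ * w := by group

end Hyp

end Cfsg.Agent.Lib.U33Recog
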