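import Cfsg.Agent.Lib.U33Recog.Order12096
import Cfsg.Agent.Lib.Unitary.Simple

/-!
G₂(2) has no elements of order 9, 14 or 21, and its derived subgroup U₃(3) neither.
-/

set_option autoImplicit false
set_option maxRecDepth 100000

namespace Cfsg.Agent.Lib.U33Recog.Main

open Cfsg.Lie ChevStructure
open scoped MatrixGroups
open Order.DataG2Two

/-- the code of a power -/
def powB : List ℕ → ℕ → List ℕ
  | _, 0 => Bits.oneB 14
  | A, k + 1 => Bits.mulB 14 A (powB A k)

theorem decD_pow {A : List ℕ} (hA : A.length = chevG2.rank + chevG2.nroots) :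
    ∀ k, Bits.decD chevG2 A ^ k = Bits.decD chevG2 (powB A k)
  | 0 => (Bits.dec_one (Bits.idx chevG2)).symm
  | k + 1 => by
    rw [pow_succ', decD_pow hA k, powB]
    exact (Bits.dec_mul (Bits.idx chevG2) hA _).symm

/-- the image of a listed element -/
theorem phi_el {i : ℕ} (hi : i < 6048) :
    ((G2Two.phi (U33.el (U33.eltN i)) : GL chevG2.Idx (ZMod 2)) : Matrix chevG2.Idx chevG2.Idx (ZMod 2)) =
      Bits.decD chevG2 (G2Two.img i) := by
  rw [G2Two.phi_val, G2Two.phi0, U33.idx_el hi]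

theorem rep_table : ((List.range 14).all fun c => Nat.blt (U33.repI c) 6048 &&
    ((powB (G2Two.img (U33.repI c)) 8 == Bits.oneB 14) ||
      (powB (G2Two.img (U33.repI c)) 12 == Bits.oneB 14) ||
      ((powB (G2Two.img (U33.repI c)) 7 == Bits.oneB 14) && (Nat.beq c 5 || Nat.beq c 7)))) = true := by
  decide +kernel

theorem rep_spec {c : ℕ} (hc : c < 14) :
    U33.repI c < 6048 ∧ (orderOf (U33.el (U33.eltN (U33.repI c))) ∣ 8 ∨
      orderOf (U33.el (U33.eltN (U33.repI c))) ∣ 12 ∨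
        (orderOf (U33.el (U33.eltN (U33.repI c))) ∣ 7 ∧ (c = 5 ∨ c = 7))) := by
  have h := List.all_eq_true.1 rep_table c (List.mem_range.2 hc)
  simp only [Bool.and_eq_true, Bool.or_eq_true, Nat.blt_eq, beq_iff_eq] at h
  obtain ⟨hi, h⟩ := h
  have key : ∀ k, powB (G2Two.img (U33.repI c)) k = Bits.oneB 14 →
      orderOf (U33.el (U33.eltN (U33.repI c))) ∣ k := by
    intro k hk
    refine orderOf_dvd_of_pow_eq_one (G2Two.phi_injective (Units.ext ?_))
    rw [map_pow, map_one, Units.val_pow_eq_pow_val, phi_el hi, decD_pow (G2Two.img_len _), hk, Units.val_one]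
    exact Bits.dec_one (Bits.idx chevG2)
  refine ⟨hi, ?_⟩
  rcases h with (h | h) | ⟨h, h'⟩
  · exact Or.inl (key 8 h)
  · exact Or.inr (Or.inl (key 12 h))
  · exact Or.inr (Or.inr ⟨key 7 h, h'.imp Nat.eq_of_beq_eq_true Nat.eq_of_beq_eq_true⟩)

theorem orderOf_eq_rep (g : U33.G) :
    orderOf g = orderOf (U33.el (U33.eltN (U33.repI (U33.cls g)))) := by
  obtain ⟨c, hc⟩ := isConj_iff.1 (U33.isConj_rep g)
  conv_lhs => rw [← hc, ← MulAut.conj_apply, MulEquiv.orderOf_eq]

theorem orderOf_dvd_U33 (g : U33.G) : orderOf g ∣ 8 ∨ orderOf g ∣ 12 ∨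
    (orderOf g ∣ 7 ∧ (U33.cls g = 5 ∨ U33.cls g = 7)) := by
  rw [orderOf_eq_rep g]
  exact (rep_spec (U33.cls_lt14 g)).2

theorem hyp : Hyp U33.G where
  simple := by
    haveI := Unitary.isSimpleGroup_PSU (F := U33.K9) (q := 3) (n := 3) U33.card_k9 (by norm_num) (by norm_num)
    have e : U33.G ≃* Cfsg.PSU 3 U33.K9 3 :=
      ((QuotientGroup.quotientMulEquivOfEq G2Two.center_bot).trans QuotientGroup.quotientBot).symm
    exact e.isSimpleGroup
  card := U33.card_G
  not9 g h := by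
    rcases orderOf_dvd_U33 g with e | e | ⟨e, -⟩ <;> rw [h] at e <;> norm_num at e
  not14 g h := by
    rcases orderOf_dvd_U33 g with e | e | ⟨e, -⟩ <;> rw [h] at e <;> norm_num at e
  not21 g h := by
    rcases orderOf_dvd_U33 g with e | e | ⟨e, -⟩ <;> rw [h] at e <;> norm_num at e

/-- the code of an outer root element -/
def tB : List ℕ := xs.getD 2 []

theorem witness_table : (Nat.beq (U33.clsN 4894) 7 && Nat.beq (U33.clsN 408) 5 &&
    (Bits.mulB 14 tB (G2Two.img (U33.repI 5)) == Bits.mulB 14 (G2Two.img 4894) tB) &&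
    (Bits.mulB 14 tB (G2Two.img (U33.repI 7)) == Bits.mulB 14 (G2Two.img 408) tB) &&
    Nat.beq (tB.length) 14) = true := by decide +kernel

/-- An element of `G₂(2)` exchanging the two classes of elements of order 7. -/
theorem exists_swap : ∃ t ∈ chevG2.group (ZMod 2), ∀ c, c = 5 ∨ c = 7 → ∃ j : U33.G, U33.cls j ≠ c ∧
    t * G2Two.phi (U33.el (U33.eltN (U33.repI c))) = G2Two.phi j * t := by
  refine ⟨Cert.G2.core.X (ZMod 2) ⟨2, by decide⟩ 1, Cert.G2.core.X_mem_group _ _, ?_⟩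
  have hval : ((Cert.G2.core.X (ZMod 2) ⟨2, by decide⟩ 1 : GL chevG2.Idx (ZMod 2)) :
      Matrix chevG2.Idx chevG2.Idx (ZMod 2)) = Bits.decD chevG2 tB := by
    rw [Cert.G2.core.X_val, Bits.xI_eq_dec (G2Two.xs_ok _)]
    rfl
  have h := witness_table
  simp only [Bool.and_eq_true, beq_iff_eq] at h
  obtain ⟨⟨⟨⟨c1, c2⟩, e1⟩, e2⟩, hl⟩ := h
  have hl' : tB.length = chevG2.rank + chevG2.nroots := Nat.eq_of_beq_eq_true hl
  have main : ∀ i j, i < 6048 → j < 6048 →
      Bits.mulB 14 tB (G2Two.img i) = Bits.mulB 14 (G2Two.img j) tB →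
      Cert.G2.core.X (ZMod 2) ⟨2, by decide⟩ 1 * G2Two.phi (U33.el (U33.eltN i)) =
        G2Two.phi (U33.el (U33.eltN j)) * Cert.G2.core.X (ZMod 2) ⟨2, by decide⟩ 1 := by
    intro i j hi hj e
    refine Units.ext ?_
    rw [Units.val_mul, Units.val_mul, hval, phi_el hi, phi_el hj]
    refine ((Bits.dec_mul (Bits.idx chevG2) hl' _).symm.trans ?_).trans
      (Bits.dec_mul (Bits.idx chevG2) (G2Two.img_len _) _)
    exact congrArg (Bits.decD chevG2) e
  rintro c (rfl | rfl)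
  · refine ⟨U33.el (U33.eltN 4894), ?_, main _ _ (rep_spec (by norm_num)).1 (by norm_num) e1⟩
    rw [U33.cls, U33.idx_el (by norm_num), Nat.eq_of_beq_eq_true c1]; norm_num
  · refine ⟨U33.el (U33.eltN 408), ?_, main _ _ (rep_spec (by norm_num)).1 (by norm_num) e2⟩
    rw [U33.cls, U33.idx_el (by norm_num), Nat.eq_of_beq_eq_true c2]; norm_num

/-- `G₂(2)` -/
noncomputable abbrev M : Subgroup (GL chevG2.Idx (ZMod 2)) := chevG2.group (ZMod 2)

/-- The element orders of `G₂(2)`. -/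
theorem not_orders (g : M) : orderOf g ≠ 9 ∧ orderOf g ≠ 14 ∧ orderOf g ≠ 21 := by
  have hle : G2Two.phi.range ≤ M := by
    rw [G2Two.range_phi]
    exact Subgroup.commutator_le.2 fun a ha b hb =>
      mul_mem (mul_mem (mul_mem ha hb) (inv_mem ha)) (inv_mem hb)
  set N := G2Two.phi.range.subgroupOf M with hN
  have hidx : N.index = 2 := by
    have h := N.card_mul_index
    rw [Nat.card_congr (Subgroup.subgroupOfEquivOfLe hle).toEquiv,
      ← Nat.card_congr (MonoidHom.ofInjective G2Two.phi_injective).toEquiv, U33.card_G,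
      G2Two.card_group] at h
    omega
  have hsq : ∀ x : M, x ^ 2 ∈ N := fun x => Subgroup.sq_mem_of_index_two hidx x
  have hphi : ∀ x : M, x ∈ N → ∃ u : U33.G, G2Two.phi u = x.1 ∧ orderOf u = orderOf x := by
    intro x hx
    obtain ⟨u, hu⟩ : x.1 ∈ G2Two.phi.range := hx
    exact ⟨u, hu, by rw [← orderOf_injective G2Two.phi G2Two.phi_injective u, hu, Subgroup.orderOf_coe]⟩
  have hin : ∀ x : M, Odd (orderOf x) → x ∈ N := fun x ⟨k, hk⟩ => by
    have e : x = (x ^ 2) ^ (k + 1) := by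
      rw [← pow_mul, show 2 * (k + 1) = orderOf x + 1 by omega, pow_succ, pow_orderOf_eq_one, one_mul]
    rw [e]
    exact pow_mem (hsq x) _
  refine ⟨fun h => ?_, fun h => ?_, fun h => ?_⟩
  · obtain ⟨u, -, hu⟩ := hphi g (hin g (by rw [h]; decide))
    exact hyp.not9 u (hu.trans h)
  · -- an involution outside `N` centralizing an element of order 7
    by_cases hg : g ∈ N
    · obtain ⟨u, -, hu⟩ := hphi g hg
      exact hyp.not14 u (hu.trans h)
    set s := g ^ 7 with hs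
    have hsN : s ∉ N := fun e => hg (by
      have e' : g = s * ((g ^ 2) ^ 3)⁻¹ := by rw [hs, ← pow_mul, eq_mul_inv_iff_mul_eq, ← pow_succ']
      rw [e']
      exact mul_mem e (inv_mem (pow_mem (hsq g) 3)))
    obtain ⟨u, hu, huo⟩ := hphi (g ^ 2) (hsq g)
    rw [orderOf_pow' g (by norm_num), h] at huo
    norm_num at huo
    have hcls : U33.cls u = 5 ∨ U33.cls u = 7 := by
      rcases orderOf_dvd_U33 u with e | e | ⟨-, e⟩
      · rw [huo] at e; norm_num at e
      · rw [huo] at e; norm_num at e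
      · exact e
    set c := U33.cls u with hc
    set r := U33.el (U33.eltN (U33.repI c)) with hr
    obtain ⟨d, hd⟩ := isConj_iff.1 (U33.isConj_rep u)
    rw [← hc, ← hr] at hd
    obtain ⟨t, ht, hsw⟩ := exists_swap
    obtain ⟨j, hj, hjt⟩ := hsw c hcls
    rw [← hr] at hjt
    apply hj
    -- `s` commutes with the image of `u`
    have hsu : s.1 * G2Two.phi u = G2Two.phi u * s.1 := by
      rw [hu, ← Subgroup.coe_mul, ← Subgroup.coe_mul, hs, ← pow_add, ← pow_add]
    set s' := (G2Two.phi d)⁻¹ * s.1 * G2Two.phi d with hs'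
    have hs'r : s' * G2Two.phi r = G2Two.phi r * s' := by
      have e : G2Two.phi r = (G2Two.phi d)⁻¹ * G2Two.phi u * G2Two.phi d := by
        rw [← hd, map_mul, map_mul, map_inv]; group
      rw [e, hs']
      calc (G2Two.phi d)⁻¹ * s.1 * G2Two.phi d * ((G2Two.phi d)⁻¹ * G2Two.phi u * G2Two.phi d)
          = (G2Two.phi d)⁻¹ * (s.1 * G2Two.phi u) * G2Two.phi d := by group
        _ = _ := by rw [hsu]; group
    have hs'M : s' ∈ M := mul_mem (mul_mem (inv_mem (hle ⟨d, rfl⟩)) s.2) (hle ⟨d, rfl⟩)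
    have hs'N : (⟨s', hs'M⟩ : M) ∉ N := by
      intro e
      obtain ⟨w, hw⟩ : s' ∈ G2Two.phi.range := e
      exact hsN (show s.1 ∈ G2Two.phi.range from ⟨d * w * d⁻¹, by rw [map_mul, map_mul, map_inv, hw, hs']; group⟩)
    by_cases htN : (⟨t, ht⟩ : M) ∈ N
    · obtain ⟨w, hw⟩ : t ∈ G2Two.phi.range := htN
      have hjw : j = w * r * w⁻¹ := G2Two.phi_injective (by
        rw [map_mul, map_mul, map_inv, hw, hjt]; group)
      rw [hjw, U33.cls_conj, hr]
      exact U33.isConj_iff_cls.1 (U33.isConj_rep u)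
    · have hm : (⟨t, ht⟩ : M) * ⟨s', hs'M⟩ ∈ N := (Subgroup.mul_mem_iff_of_index_two hidx).2 ⟨fun e => absurd e htN, fun e => absurd e hs'N⟩
      obtain ⟨w, hw⟩ : t * s' ∈ G2Two.phi.range := hm
      have hjw : j = w * r * w⁻¹ := G2Two.phi_injective (by
        rw [map_mul, map_mul, map_inv, hw]
        calc G2Two.phi j = G2Two.phi j * t * t⁻¹ := by group
          _ = t * G2Two.phi r * t⁻¹ := by rw [hjt]
          _ = t * (s' * G2Two.phi r) * s'⁻¹ * t⁻¹ := by rw [hs'r]; group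
          _ = _ := by group)
      rw [hjw, U33.cls_conj, hr]
      exact U33.isConj_iff_cls.1 (U33.isConj_rep u)
  · obtain ⟨u, -, hu⟩ := hphi g (hin g (by rw [h]; decide))
    exact hyp.not21 u (hu.trans h)

universe u

/-- Recognition of `G₂(2)`. -/
theorem recognition {G : Type u} [Group G] [Finite G] {F : Type*} [Field F] [Fintype F]
    (hF : Fintype.card F = 2) :
    Nonempty (G ≃* ↥(chevG2.group F)) ↔
      (Set.range (orderOf : G → ℕ) = Set.range (orderOf : ↥(chevG2.group F) → ℕ) ∧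
        Nat.card G = Nat.card ↥(chevG2.group F)) := by
  refine ⟨fun ⟨e⟩ => ⟨?_, Nat.card_congr e.toEquiv⟩, fun ⟨hr, hc⟩ => ?_⟩
  · ext k
    exact ⟨fun ⟨g, hg⟩ => ⟨e g, (MulEquiv.orderOf_eq e g).trans hg⟩,
      fun ⟨g, hg⟩ => ⟨e.symm g, (MulEquiv.orderOf_eq e.symm g).trans hg⟩⟩
  obtain ⟨e⟩ := nonempty_zmod_two hF
  obtain ⟨f⟩ := nonempty_group_equiv Cert.G2.core e
  haveI : Finite (chevG2.group (ZMod 2)) :=
    Nat.finite_of_card_ne_zero (by rw [G2Two.card_group]; norm_num)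
  have key : ∀ g : G, orderOf g ≠ 9 ∧ orderOf g ≠ 14 ∧ orderOf g ≠ 21 := fun g => by
    obtain ⟨m, hm⟩ : orderOf g ∈ Set.range (orderOf : ↥(chevG2.group F) → ℕ) := hr ▸ ⟨g, rfl⟩
    rw [← hm, ← MulEquiv.orderOf_eq f.symm m]
    exact not_orders _
  have hG : Nat.card G = 12096 := by rw [hc, ← Nat.card_congr f.toEquiv, G2Two.card_group]
  obtain ⟨a⟩ := Order12096.nonempty_mulEquiv hyp hG (fun g => (key g).1) (fun g => (key g).2.1)
    fun g => (key g).2.2
  obtain ⟨b⟩ := Order12096.nonempty_mulEquiv hyp G2Two.card_group (fun g => (not_orders g).1)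
    (fun g => (not_orders g).2.1) fun g => (not_orders g).2.2
  exact ⟨(a.trans b.symm).trans f⟩

end Cfsg.Agent.Lib.U33Recog.Main
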