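import Mathlib

/-!
Coded models for a group acting on 28 points in which a point stabiliser has a normal subgroup of
order 27, regular on the other points, with a two-point stabiliser of order 8: an exhaustive search
for the element exchanging the two points.
-/

set_option autoImplicit false
set_option maxRecDepth 100000

namespace Cfsg.Agent.Lib.U33Recog.Model

/-- entry `x` of a packed table -/
def tbl (T x : ℕ) : ℕ := Nat.mod (Nat.shiftRight T (Nat.mul 5 x)) 32

/-- the models with non-abelian normal subgroup -/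
def heis (m : ℕ) : Bool := Nat.ble 3 m

/-- the product of two coded elements of the group of order 27 -/
def mulC (h : Bool) (x y : ℕ) : ℕ :=
  let a := Nat.mod x 3
  let b := Nat.mod (Nat.div x 3) 3
  let c := Nat.div x 9
  let a' := Nat.mod y 3
  let b' := Nat.mod (Nat.div y 3) 3
  let c' := Nat.div y 9
  let d := cond h (Nat.add (Nat.mul 2 (Nat.mul a b')) (Nat.mul b a')) 0
  Nat.add (Nat.add (Nat.mod (Nat.add a a') 3) (Nat.mul 3 (Nat.mod (Nat.add b b') 3)))
    (Nat.mul 9 (Nat.mod (Nat.add (Nat.add c c') d) 3))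

/-- the inverse of a coded element -/
def invC (h : Bool) (x : ℕ) : ℕ := mulC h x x

def hsD : List (List ℕ) :=
  [[0x6b38bdab49ca307b9ac5a928398a418820,
    0x3971541af626f4d4f36c56451202721860,
    0x4f17ad33ab494f731708b521314623a080,
    0x322a6bd6e826ba9db14be64340486114e0,
    0x5af5ceb13a49ae6422f52d2428ce830440,
    0x414d5ba2c7a733b52faae2470904540cc0,
    0x52b9c4ef6d496c83d4e6c52219cc129100,
    0x3dab8b15072716a6ab3cde462090309ca0],
   [0x6b38bdab49ca307b9ac5a928398a418820,
    0x422f6b98a5a73ac5af59d2474188518440,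
    0x45cb8354f62757a66d3c5648288e409860,
    0x66d3d5e98aca0d545cb7b1272050511860,
    0x5f54b6675c49d15b60a63d254088708cc0,
    0x360a7456c7a6d99df54ae244384a810cc0,
    0x39ac8c1eb526f6aeb38a4e4520d0730820,
    0x5af5ceb13a49ae6422f52d2428ce830440],
   [0x6b38bdab49ca307b9ac5a928398a418820,
    0x66d3d5e98aca0d545cb7b1272050511860,
    0x29ee62e116a678bd699d5a41314623a080,
    0x5af5ceb13a49ae6422f52d2428ce830440,
    0x31515bdb0726b3d5316cde430a04621ca0,
    0x3d6d5322e82714b4ebabe64611023414e0,
    0x5f54b6675c49d15b60a63d254088708cc0,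
    0x2d907a9cd8a695ce277b6a4219cc129100],
   [0x6b38bdab49ca307b9ac5a928398a418820,
    0x3971541af626f4d4f36c56451202721860,
    0x4f17ad33ab494f731708b521314623a080,
    0x322a6bd6e826ba9db14be64340486114e0,
    0x5af5ceb13a49ae6422f52d2428ce830440,
    0x414d5ba2c7a733b52faae2470904540cc0,
    0x52b9c4ef6d496c83d4e6c52219cc129100,
    0x3dab8b15072716a6ab3cde462090309ca0],
   [0x6b38bdab49ca307b9ac5a928398a418820,
    0x422f6b98a5a73ac5af59d2474188518440,
    0x45cb8354f62757a66d3c5648288e409860,
    0x66d3d5e98aca0d545cb7b1272050511860,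
    0x5f54b6675c49d15b60a63d254088708cc0,
    0x360a7456c7a6d99df54ae244384a810cc0,
    0x39ac8c1eb526f6aeb38a4e4520d0730820,
    0x5af5ceb13a49ae6422f52d2428ce830440],
   [0x6b38bdab49ca307b9ac5a928398a418820,
    0x66d3d5e98aca0d545cb7b1272050511860,
    0x4f17ad33ab494f731708b521314623a080,
    0x5af5ceb13a49ae6422f52d2428ce830440,
    0x567aa62d9bc98a8aded839230a04621ca0,
    0x62969d757cc9eb6a9917412611023414e0,
    0x5f54b6675c49d15b60a63d254088708cc0,
    0x52b9c4ef6d496c83d4e6c52219cc129100]]

def gensD : List (ℕ × ℕ) := [(1, 1), (1, 2), (1, 2), (1, 1), (1, 2), (1, 2)]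

def wordsD : List (List (List ℕ)) :=
  [[[], [0], [0, 0], [0, 0, 0], [0, 0, 0, 0], [0, 0, 0, 0, 0], [0, 0, 0, 0, 0, 0], [0, 0, 0, 0, 0, 0, 0]],
   [[], [0], [1], [0, 1], [1, 0], [0, 1, 0], [1, 0, 1], [0, 1, 0, 1]],
   [[], [0], [1], [0, 0], [0, 1], [1, 0], [0, 0, 0], [0, 0, 1]],
   [[], [0], [0, 0], [0, 0, 0], [0, 0, 0, 0], [0, 0, 0, 0, 0], [0, 0, 0, 0, 0, 0], [0, 0, 0, 0, 0, 0, 0]],
   [[], [0], [1], [0, 1], [1, 0], [0, 1, 0], [1, 0, 1], [0, 1, 0, 1]],
   [[], [0], [1], [0, 0], [0, 1], [1, 0], [0, 0, 0], [0, 0, 1]]]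

/-- the `i`-th element of the two-point stabiliser of the model `m` -/
def hs (m i x : ℕ) : ℕ := tbl ((hsD.getD m []).getD i 0) x

/-- the two generators of the two-point stabiliser -/
def gen1 (m : ℕ) : ℕ := (gensD.getD m (0, 0)).1

/-- the second generator -/
def gen2 (m : ℕ) : ℕ := (gensD.getD m (0, 0)).2

/-- apply a word in two elements -/
def wordApp (m u v : ℕ) : List ℕ → ℕ → ℕ
  | [], x => x
  | k :: w, x => hs m (cond (Nat.beq k 0) u v) (wordApp m u v w x)

/-- all numbers below `n` satisfy `p` -/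
def allB : ℕ → (ℕ → Bool) → Bool
  | 0, _ => true
  | n + 1, p => p n && allB n p

/-- some number below `n` satisfies `p` -/
def anyB : ℕ → (ℕ → Bool) → Bool
  | 0, _ => false
  | n + 1, p => p n || anyB n p

/-- the first number below `n` satisfying `p`, counted from the top, or `d` -/
def findB (d : ℕ) : ℕ → (ℕ → Bool) → ℕ
  | 0, _ => d
  | n + 1, p => cond (p n) n (findB d n p)

/-- the image of the element `i` when the generators go to `u` and `v` -/
def theta (m u v i : ℕ) : ℕ :=
  findB 8 8 fun j => allB 27 fun x => Nat.beq (hs m j x) (wordApp m u v ((wordsD.getD m []).getD i []) x)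

/-- the automorphism given by `u`, `v` is admissible -/
def thetaOK (m u v : ℕ) : Bool :=
  allB 8 fun i => Nat.blt (theta m u v i) 8 && Nat.beq (theta m u v (theta m u v i)) i

/-- set one value of a partial map, packed by 5 bits with `31` for undefined -/
def setPt (s x y : ℕ) : Option ℕ :=
  cond (Nat.beq (tbl s x) 31) (some (Nat.xor s (Nat.shiftLeft (Nat.xor 31 y) (Nat.mul 5 x))))
    (cond (Nat.beq (tbl s x) y) (some s) none)

/-- spread one value along the orbits of the two-point stabiliser -/
def prop (m th a b : ℕ) : ℕ → ℕ → Option ℕ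
  | 0, s => some s
  | i + 1, s => (setPt s (hs m i a) (hs m (tbl th i) b)).bind fun s =>
      (setPt s (hs m (tbl th i) b) (hs m i a)).bind fun s => prop m th a b i s

/-- the exchanging permutation of the 28 points given by a table -/
def wF (s x : ℕ) : ℕ := cond (Nat.beq x 27) 0 (cond (Nat.beq x 0) 27 (tbl s x))

/-- left translation on the 28 points -/
def lF (h : Bool) (a x : ℕ) : ℕ := cond (Nat.beq x 27) 27 (mulC h a x)

/-- the element fixing `27` attached to `a` -/
def gF (m s a x : ℕ) : ℕ :=
  wF s (lF (heis m) (invC (heis m) (tbl s a)) (wF s (lF (heis m) a (wF s x))))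

/-- the necessary condition -/
def valid (m s : ℕ) : Bool :=
  allB 26 fun a => anyB 8 fun i => allB 27 fun x =>
    Nat.beq (lF (heis m) (invC (heis m) (gF m s (Nat.add a 1) 0)) (gF m s (Nat.add a 1) x)) (hs m i x)

/-- the first undefined place -/
def firstUndef (s : ℕ) : ℕ := findB 27 27 fun x => Nat.beq (tbl s x) 31

/-- the two solutions -/
def sol0 : ℕ := 0x5676a6357ca5cd5c60a7b24828ce430820

/-- the second solution -/
def sol1 : ℕ := 0x629a9d6d9ba611535cb63e44398a818440

/-- the starting partial map -/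
def start : ℕ := 0x7fffffffffffffffffffffffffffffffe0

/-- every valid completion is one of the solutions -/
def searchOK (m th : ℕ) : ℕ → ℕ → Bool
  | 0, _ => false
  | f + 1, s =>
    let a := firstUndef s
    cond (Nat.blt a 27)
      (allB 26 fun b => match prop m th a (Nat.add b 1) 8 s with
        | none => true
        | some s' => searchOK m th f s')
      (!valid m s || (Nat.beq m 3 && (Nat.beq s sol0 || Nat.beq s sol1)))

/-- the admissible automorphisms, packed -/
def thsD : List (List ℕ) :=
  [[0x398a418820, 0x288e409860, 0x19824388a0, 0x8864298e0],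
   [0x398a418820, 0x3984321420, 0x394c320440, 0x38823218a0, 0x384a3208c0, 0x38444194c0],
   [0x398a418820, 0x1188519c20, 0x31c8518440, 0x114c119c80, 0x1102619ca0, 0x38485188c0, 0x284e2190c0, 0x20447194c0, 0x104a419cc0, 0x8885198e0],
   [0x398a418820, 0x288e409860, 0x19824388a0, 0x8864298e0],
   [0x398a418820, 0x3984321420, 0x394c320440, 0x38823218a0, 0x384a3208c0, 0x38444194c0],
   [0x398a418820, 0x1188519c20, 0x31c8518440, 0x114c119c80, 0x1102619ca0, 0x38485188c0, 0x284e2190c0, 0x20447194c0, 0x104a419cc0, 0x8885198e0]]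

/-- the whole check for one model -/
def checkModel (m : ℕ) : Bool :=
  (thsD.getD m []).all fun th => searchOK m th 27 start

/-- every admissible automorphism is listed -/
def checkTheta (m : ℕ) : Bool :=
  allB 8 fun u => allB 8 fun v => !thetaOK m u v ||
    (thsD.getD m []).any fun th => allB 8 fun i => Nat.beq (tbl th i) (theta m u v i)

end Cfsg.Agent.Lib.U33Recog.Model
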