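import Cfsg.Agent.Lib.U33Recog.Chars
import Cfsg.Agent.Lib.U33Recog.Block7
import Cfsg.Agent.Lib.Classif.SmallOrderKills4

/-!
No simple group of order 12096 lacks elements of order 14 and 21.
-/

set_option autoImplicit false

namespace Cfsg.Agent.Lib.U33Recog.NotSimple

open Cfsg.Agent.Lib.SmallGroups Cfsg.Agent.Lib.Classif.SmallOrderKills3
  Cfsg.Agent.Lib.Classif.PrimeExceptional Cfsg.Agent.Lib.Characters.Basic Cfsg.Agent.Lib.Characters.Complete
open scoped ComplexConjugate

variable {G : Type*} [Group G] [Finite G]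

/-- The elements conjugating `t` to a given conjugate. -/
theorem card_conj_fibre (t h : G) :
    Nat.card {g : G // g * t * g⁻¹ = h * t * h⁻¹} = Nat.card (Subgroup.centralizer ({t} : Set G)) := by
  refine Nat.card_congr ((Equiv.mulLeft h⁻¹).subtypeEquiv fun g => ?_)
  rw [eq_comm]
  exact Classif.FixedSylow.conj_eq_iff

theorem card_centralizer_conj {t u : G} (h : IsConj t u) :
    Nat.card (Subgroup.centralizer ({u} : Set G)) = Nat.card (Subgroup.centralizer ({t} : Set G)) := by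
  obtain ⟨g, rfl⟩ := isConj_iff.1 h
  rw [← card_conj_fibre (g * t * g⁻¹) 1, ← card_conj_fibre t 1]
  refine Nat.card_congr ((MulAut.conj g⁻¹).toEquiv.subtypeEquiv fun a => ?_)
  simp only [one_mul, mul_one, inv_one, MulEquiv.toEquiv_eq_coe, EquivLike.coe_coe, MulAut.conj_apply, inv_inv]
  constructor
  · intro e
    calc g⁻¹ * a * g * t * (g⁻¹ * a * g)⁻¹ = g⁻¹ * (a * (g * t * g⁻¹) * a⁻¹) * g := by group
      _ = t := by rw [e]; group
  · intro e
    calc a * (g * t * g⁻¹) * a⁻¹ = g * (g⁻¹ * a * g * t * (g⁻¹ * a * g)⁻¹) * g⁻¹ := by group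
      _ = g * t * g⁻¹ := by rw [e]

/-- The local data at the prime 7. -/
structure Seven (x t : G) : Prop where
  ordx : orderOf x = 7
  ordt : orderOf t = 2
  inv : t * x * t⁻¹ = x⁻¹
  pw : ∀ k : ℕ, ¬ 7 ∣ k → IsConj x (x ^ k)
  cent : Subgroup.centralizer ({x} : Set G) = Subgroup.zpowers x
  three : 3 ∣ Nat.card (Subgroup.centralizer ({t} : Set G))

variable [IsSimpleGroup G]

theorem not_comm (h : Nat.card G = 12096) : ¬ IsMulCommutative G :=
  Sylow.not_comm_of_card (by rw [h]; norm_num)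

theorem exists_seven (h : Nat.card G = 12096) (h14 : ∀ g : G, orderOf g ≠ 14)
    (h21 : ∀ g : G, orderOf g ≠ 21) : ∃ x t : G, Seven x t := by
  classical
  haveI : Fintype G := Fintype.ofFinite G
  haveI : Fact (Nat.Prime 7) := ⟨by norm_num⟩
  obtain ⟨-, hall⟩ := prime_data (not_comm h) (p := 7) h (m := 1728) rfl (by norm_num) (by norm_num)
  obtain ⟨P⟩ := (inferInstance : Nonempty (Sylow 7 G))
  obtain ⟨hP, e, c, he, he1, hc, hC, hN, hce⟩ := hall P
  obtain ⟨⟨x, hxP⟩, hx⟩ := exists_prime_orderOf_dvd_card' (G := (P : Subgroup G)) 7 (by rw [hP])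
  rw [Subgroup.orderOf_mk] at hx
  have hx1 : x ≠ 1 := fun e => by rw [e, orderOf_one] at hx; omega
  have hz : Subgroup.zpowers x = (P : Subgroup G) := zpowers_eq P hP hxP hx1
  have hCx : Subgroup.centralizer ({x} : Set G) = Subgroup.centralizer ((P : Subgroup G) : Set G) := by
    refine le_antisymm (fun y hy => ?_) (Subgroup.centralizer_le (Set.singleton_subset_iff.2 hxP))
    rw [Subgroup.mem_centralizer_iff]
    intro z hzP
    rw [SetLike.mem_coe, ← hz] at hzP
    obtain ⟨k, rfl⟩ := Subgroup.mem_zpowers_iff.1 hzP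
    exact ((Commute.symm (Subgroup.mem_centralizer_singleton_iff.1 hy)).zpow_left k).eq
  have hq : ∀ q : ℕ, q.Prime → q ∣ c → q ≠ 2 ∧ q ≠ 3 := by
    intro q hqp hqc
    haveI := Fact.mk hqp
    obtain ⟨⟨y, hy⟩, hyo⟩ := exists_prime_orderOf_dvd_card'
      (G := Subgroup.centralizer ((P : Subgroup G) : Set G)) q (by rw [hC]; exact hqc)
    rw [Subgroup.orderOf_mk] at hyo
    rw [← hCx, Subgroup.mem_centralizer_singleton_iff] at hy
    constructor <;> rintro rfl
    · exact h14 (y * x) (by rw [Commute.orderOf_mul_eq_mul_orderOf_of_coprime (show Commute y x from hy) (by rw [hyo, hx]; norm_num), hyo, hx])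
    · exact h21 (y * x) (by rw [Commute.orderOf_mul_eq_mul_orderOf_of_coprime (show Commute y x from hy) (by rw [hyo, hx]; norm_num), hyo, hx])
  have hc7 : c = 7 := by
    obtain ⟨k, rfl⟩ := hc
    have hk : k ∣ 2 ^ 6 * 3 ^ 3 := by
      have hd : 7 * k ∣ 7 * (2 ^ 6 * 3 ^ 3) := by
        rw [← hC, show 7 * (2 ^ 6 * 3 ^ 3) = 12096 by norm_num, ← h]
        exact Subgroup.card_subgroup_dvd_card _
      exact Nat.dvd_of_mul_dvd_mul_left (by norm_num) hd
    by_contra hne
    obtain ⟨q, hqp, hqk⟩ := Nat.exists_prime_and_dvd (show k ≠ 1 by omega)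
    rcases (Nat.Prime.dvd_mul hqp).1 (hqk.trans hk) with h2 | h2
    · exact (hq q hqp (hqk.trans (dvd_mul_left k 7))).1
        ((Nat.prime_dvd_prime_iff_eq hqp Nat.prime_two).1 (hqp.dvd_of_dvd_pow h2))
    · exact (hq q hqp (hqk.trans (dvd_mul_left k 7))).2
        ((Nat.prime_dvd_prime_iff_eq hqp Nat.prime_three).1 (hqp.dvd_of_dvd_pow h2))
  subst hc7
  have he6 : e = 6 := by
    have hn := card_sylow_modEq_one 7 G
    unfold Nat.ModEq at hn
    have hle : e ≤ 6 := Nat.le_of_dvd (by norm_num) he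
    interval_cases e <;> norm_num at he <;> omega
  subst he6
  set N := Subgroup.normalizer ((P : Subgroup G) : Set G) with hNd
  have hCP := Classif.SmallOrderKills4.centralizer_eq P hP hC
  rw [hCP, ← hz] at hCx
  -- the normalizer acts on `P` with all six automorphisms
  have hNconj : ∀ n ∈ N, ∃ k : ℕ, k < 7 ∧ n * x * n⁻¹ = x ^ k := by
    intro n hn
    have h1 : n * x * n⁻¹ ∈ Subgroup.zpowers x := hz ▸ (Subgroup.mem_normalizer_iff.1 hn x).1 hxP
    rw [mem_zpowers_iff_mem_range_orderOf, Finset.mem_image] at h1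
    obtain ⟨k, hk, e⟩ := h1
    rw [Finset.mem_range, hx] at hk
    exact ⟨k, hk, e.symm⟩
  obtain ⟨g, hg, hgx⟩ : ∃ g ∈ N, g * x * g⁻¹ = x ^ 3 := by
    by_contra hno
    push Not at hno
    set S : Finset G := Finset.univ.filter (· ∈ N) with hS
    set I : Finset G := ({1, 2, 4, 5, 6} : Finset ℕ).image (fun k => x ^ k) with hI
    have hmem : ∀ n ∈ S, n * x * n⁻¹ ∈ I := by
      intro n hn
      have hn' : n ∈ N := (Finset.mem_filter.1 hn).2
      obtain ⟨k, hk, e⟩ := hNconj n hn'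
      rw [e]
      refine Finset.mem_image.2 ⟨k, ?_, rfl⟩
      have h3 : k ≠ 3 := fun e' => hno n hn' (e' ▸ e)
      have h0 : k ≠ 0 := fun e' => by rw [e', pow_zero, conj_eq_one_iff] at e; exact hx1 e
      simp only [Finset.mem_insert, Finset.mem_singleton]
      omega
    have hfib : ∀ b ∈ I, (S.filter fun n => n * x * n⁻¹ = b).card ≤ 7 := by
      intro b _
      rcases (S.filter fun n => n * x * n⁻¹ = b).eq_empty_or_nonempty with e | ⟨n₀, hn₀⟩
      · rw [e, Finset.card_empty]; omega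
      have hn₀' := (Finset.mem_filter.1 hn₀).2
      calc (S.filter fun n => n * x * n⁻¹ = b).card
          ≤ (Finset.univ.filter fun n => n * x * n⁻¹ = n₀ * x * n₀⁻¹).card :=
            Finset.card_le_card fun n hn => Finset.mem_filter.2
              ⟨Finset.mem_univ _, (Finset.mem_filter.1 hn).2.trans hn₀'.symm⟩
        _ = 7 := by
            rw [← Fintype.card_subtype, ← Nat.card_eq_fintype_card, card_conj_fibre, hCx, Nat.card_zpowers, hx]
    have hle := Finset.card_le_mul_card_image_of_maps_to hmem 7 hfib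
    have hS42 : S.card = 42 := by
      rw [hS, ← Fintype.card_subtype, ← Nat.card_eq_fintype_card]; exact hN
    have hI5 : I.card ≤ 5 := Finset.card_image_le.trans (by rfl)
    omega
  have hpow : ∀ n k : ℕ, g ^ n * x ^ k * (g ^ n)⁻¹ = x ^ (3 ^ n * k) := by
    intro n
    induction n with
    | zero => intro k; simp
    | succ n ih =>
      intro k
      rw [pow_succ, mul_inv_rev,
        show g ^ n * g * x ^ k * (g⁻¹ * (g ^ n)⁻¹) = g ^ n * (g * x ^ k * g⁻¹) * (g ^ n)⁻¹ by group,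
        ← conj_pow, hgx, ← pow_mul, ih]
      congr 1
      ring
  have hpow1 : ∀ n : ℕ, g ^ n * x * (g ^ n)⁻¹ = x ^ (3 ^ n) := fun n => by simpa using hpow n 1
  have hxe : ∀ a b : ℕ, x ^ a = x ^ b → a % 7 = b % 7 := fun a b e => by
    rw [pow_eq_pow_iff_modEq, hx] at e; exact e
  have hxm : ∀ a b : ℕ, a % 7 = b % 7 → x ^ a = x ^ b := fun a b e => by
    rw [pow_eq_pow_iff_modEq, hx]; exact e
  have hg6 : g ^ 6 = 1 := by
    have hm : g ^ 6 ∈ Subgroup.centralizer ({x} : Set G) := by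
      rw [Subgroup.mem_centralizer_singleton_iff, ← mul_inv_eq_iff_eq_mul, hpow1, hxm _ 1 (by norm_num), pow_one]
    rw [hCx, mem_zpowers_iff_mem_range_orderOf, Finset.mem_image] at hm
    obtain ⟨k, hk, e⟩ := hm
    rw [Finset.mem_range, hx] at hk
    have h1 : g * x ^ k * g⁻¹ = x ^ k := by rw [e, ← pow_succ', pow_succ, mul_inv_cancel_right]
    rw [← conj_pow, hgx, ← pow_mul] at h1
    have := hxe _ _ h1
    rw [← e, show k = 0 by omega, pow_zero]
  refine ⟨x, g ^ 3, hx, ?_, ?_, ?_, hCx, ?_⟩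
  · haveI : Fact (Nat.Prime 2) := ⟨Nat.prime_two⟩
    refine orderOf_eq_prime (by rw [← pow_mul]; exact hg6) fun e => ?_
    have := hpow1 3
    rw [e, one_mul, inv_one, mul_one] at this
    exact absurd (hxe 1 _ ((pow_one x).trans this)) (by norm_num)
  · rw [hpow1, eq_inv_iff_mul_eq_one, ← pow_succ, ← orderOf_dvd_iff_pow_eq_one, hx]
    norm_num
  · intro k hk
    have hcase : k % 7 = 1 ∨ k % 7 = 3 ∨ k % 7 = 2 ∨ k % 7 = 6 ∨ k % 7 = 4 ∨ k % 7 = 5 := by omega
    obtain ⟨n, hn⟩ : ∃ n : ℕ, 3 ^ n % 7 = k % 7 := by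
      rcases hcase with e | e | e | e | e | e <;> rw [e]
      exacts [⟨0, rfl⟩, ⟨1, rfl⟩, ⟨2, rfl⟩, ⟨3, rfl⟩, ⟨4, rfl⟩, ⟨5, rfl⟩]
    exact isConj_iff.2 ⟨g ^ n, (hpow1 n).trans (hxm _ _ hn)⟩
  · haveI : Fact (Nat.Prime 3) := ⟨Nat.prime_three⟩
    have hy : orderOf (g ^ 2) = 3 := by
      refine orderOf_eq_prime (by rw [← pow_mul]; exact hg6) fun e => ?_
      have := hpow1 2
      rw [e, one_mul, inv_one, mul_one] at this
      exact absurd (hxe 1 _ ((pow_one x).trans this)) (by norm_num)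
    have hm : g ^ 2 ∈ Subgroup.centralizer ({g ^ 3} : Set G) := by
      rw [Subgroup.mem_centralizer_singleton_iff, ← pow_add, ← pow_add]
    have := Subgroup.card_dvd_of_le (Subgroup.zpowers_le.2 hm)
    rwa [Nat.card_zpowers, hy] at this

omit [IsSimpleGroup G]

/-- An involution whose product with one of its conjugates is conjugate to `x` is conjugate to `t`. -/
theorem isConj_of_mul {x t : G} (hs : Seven x t) {u b : G} (hu : u * u = 1)
    (h : IsConj x (u * (b * u * b⁻¹))) : IsConj t u := by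
  obtain ⟨c, hc⟩ := isConj_iff.1 h
  have htt : t * t = 1 := by rw [← pow_two, ← hs.ordt, pow_orderOf_eq_one]
  set u₀ := c⁻¹ * u * c with hu0
  have h1 : u₀ * u₀ = 1 := by
    rw [hu0, show c⁻¹ * u * c * (c⁻¹ * u * c) = c⁻¹ * (u * u) * c by group, hu]; group
  have h2 : u₀ * x * u₀⁻¹ = x⁻¹ := by
    have hx : x = c⁻¹ * u * (b * u * b⁻¹) * c := by
      calc x = c⁻¹ * (c * x * c⁻¹) * c := by group
        _ = _ := by rw [hc]; group
    have hui : u⁻¹ = u := inv_eq_of_mul_eq_one_right hu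
    have hxi : x⁻¹ = c⁻¹ * (b * u * b⁻¹) * u * c := by
      rw [hx]; simp only [mul_inv_rev, inv_inv, hui]; group
    rw [inv_eq_of_mul_eq_one_right h1, hxi, hx, hu0]
    calc c⁻¹ * u * c * (c⁻¹ * u * (b * u * b⁻¹) * c) * (c⁻¹ * u * c)
        = c⁻¹ * (u * u) * (b * u * b⁻¹) * u * c := by group
      _ = _ := by rw [hu]; group
  have hti : t⁻¹ = t := inv_eq_of_mul_eq_one_right htt
  have h3 : t * u₀ ∈ Subgroup.centralizer ({x} : Set G) := by
    rw [Subgroup.mem_centralizer_singleton_iff, ← mul_inv_eq_iff_eq_mul]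
    calc t * u₀ * x * (t * u₀)⁻¹ = t * (u₀ * x * u₀⁻¹) * t⁻¹ := by group
      _ = (t * x * t⁻¹)⁻¹ := by rw [h2]; group
      _ = x := by rw [hs.inv, inv_inv]
  rw [hs.cent, Subgroup.mem_zpowers_iff] at h3
  obtain ⟨k, hk⟩ := h3
  have hx7 : x ^ (7 : ℤ) = 1 := by
    rw [show (7 : ℤ) = ((7 : ℕ) : ℤ) from rfl, zpow_natCast, ← hs.ordx, pow_orderOf_eq_one]
  have hsw : x ^ (3 * k) * t = t * (x ^ (3 * k))⁻¹ := by
    have h := conj_zpow (a := t) (b := x) (i := 3 * k)
    rw [hs.inv, inv_zpow, hti] at h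
    rw [h, ← mul_assoc, ← mul_assoc, htt, one_mul]
  refine (isConj_iff.2 ⟨x ^ (3 * k), ?_⟩).trans (isConj_iff.2 ⟨c, show c * u₀ * c⁻¹ = u by rw [hu0]; group⟩)
  rw [hsw, mul_assoc, show u₀ = t * (t * u₀) by rw [← mul_assoc, htt, one_mul], ← hk]
  congr 1
  calc (x ^ (3 * k))⁻¹ * (x ^ (3 * k))⁻¹ = x ^ k * ((x ^ (7 : ℤ)) ^ k)⁻¹ := by group
    _ = x ^ k := by rw [hx7, one_zpow, inv_one, mul_one]

/-- The number of conjugating elements giving a product conjugate to `x`. -/
theorem card_products [Fintype G] [DecidableEq G] {x t : G} (hs : Seven x t) :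
    ∀ [DecidablePred fun b : G => IsConj x (t * (b * t * b⁻¹))],
      (Finset.univ.filter fun b : G => IsConj x (t * (b * t * b⁻¹))).card =
        Nat.card (Subgroup.centralizer ({t} : Set G)) ^ 2 := by
  classical
  intro _
  have htt : t * t = 1 := by rw [← pow_two, ← hs.ordt, pow_orderOf_eq_one]
  have hti : t⁻¹ = t := inv_eq_of_mul_eq_one_right htt
  set c := Nat.card (Subgroup.centralizer ({t} : Set G)) with hc
  have hfib : ∀ z h : G, (Finset.univ.filter fun g : G => g * z * g⁻¹ = h * z * h⁻¹).card =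
      Nat.card (Subgroup.centralizer ({z} : Set G)) := fun z h => by
    rw [← Fintype.card_subtype, ← Nat.card_eq_fintype_card, card_conj_fibre]
  have hcomm : ∀ i : ℕ, x ^ i * t = t * (x ^ i)⁻¹ := fun i => by
    have h := conj_pow (a := t) (b := x) (i := i)
    rw [hs.inv, inv_pow, hti] at h
    rw [h, ← mul_assoc, ← mul_assoc, htt, one_mul]
  have hk : ∀ i : ℕ, x ^ (3 * i) * t * (x ^ (3 * i))⁻¹ = t * x ^ i := by
    intro i
    rw [hcomm, mul_assoc, ← mul_inv_rev, ← pow_add]
    congr 1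
    rw [inv_eq_iff_mul_eq_one, ← pow_add, ← orderOf_dvd_iff_pow_eq_one, hs.ordx]
    omega
  -- count pairs in two ways
  have hA : ∑ b : G, ∑ g : G, (if t * (b * t * b⁻¹) = g * x * g⁻¹ then 1 else 0 : ℕ) =
      7 * (Finset.univ.filter fun b : G => IsConj x (t * (b * t * b⁻¹))).card := by
    rw [mul_comm, ← smul_eq_mul, ← Finset.sum_const, Finset.sum_filter]
    refine Finset.sum_congr rfl fun b _ => ?_
    rw [Finset.sum_boole, Nat.cast_id]
    split_ifs with hb
    · obtain ⟨h, hh⟩ := isConj_iff.1 hb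
      have := hfib x h
      rw [hs.cent, Nat.card_zpowers, hs.ordx] at this
      rw [← this]
      congr 1
      refine Finset.filter_congr fun g _ => ?_
      rw [← hh, eq_comm]
    · rw [Finset.card_eq_zero, Finset.filter_eq_empty_iff]
      exact fun g _ e => hb (isConj_iff.2 ⟨g, e.symm⟩)
  have hB : ∑ b : G, ∑ g : G, (if t * (b * t * b⁻¹) = g * x * g⁻¹ then 1 else 0 : ℕ) =
      ∑ g : G, ∑ b : G, (if g * t * g⁻¹ * (b * t * b⁻¹) = x then 1 else 0 : ℕ) := by
    rw [Finset.sum_comm, ← Equiv.sum_comp (Equiv.inv G)]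
    refine Finset.sum_congr rfl fun g _ => ?_
    rw [← Equiv.sum_comp (Equiv.mulLeft g⁻¹)]
    refine Finset.sum_congr rfl fun b _ => if_congr ?_ rfl rfl
    simp only [Equiv.inv_apply, Equiv.coe_mulLeft, inv_inv, mul_inv_rev]
    constructor
    · intro e
      calc g * t * g⁻¹ * (b * t * b⁻¹) = g * (t * (g⁻¹ * b * t * (b⁻¹ * g))) * g⁻¹ := by group
        _ = x := by rw [e]; group
    · intro e
      calc t * (g⁻¹ * b * t * (b⁻¹ * g)) = g⁻¹ * (g * t * g⁻¹ * (b * t * b⁻¹)) * g := by group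
        _ = g⁻¹ * x * g := by rw [e]
  set I : Finset G := (Finset.range 7).image fun i => t * x ^ i with hI
  have hI7 : I.card = 7 := by
    rw [hI, Finset.card_image_of_injOn fun i hi j hj e => ?_, Finset.card_range]
    have h1 := mul_left_cancel e
    rw [pow_eq_pow_iff_modEq, hs.ordx] at h1
    simp only [Finset.coe_range, Set.mem_Iio] at hi hj
    exact Nat.ModEq.eq_of_lt_of_lt h1 hi hj
  have hC : ∀ g : G, ∑ b : G, (if g * t * g⁻¹ * (b * t * b⁻¹) = x then 1 else 0 : ℕ) =
      if g * t * g⁻¹ ∈ I then c else 0 := by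
    intro g
    rw [Finset.sum_boole, Nat.cast_id]
    have hgg : g * t * g⁻¹ * (g * t * g⁻¹) = 1 := by
      rw [show g * t * g⁻¹ * (g * t * g⁻¹) = g * (t * t) * g⁻¹ by group, htt]; group
    split_ifs with hgI
    · obtain ⟨i, -, hi⟩ := Finset.mem_image.1 hgI
      rw [hc, ← hfib t (x ^ (3 * (i + 1)))]
      congr 1
      refine Finset.filter_congr fun b _ => ?_
      rw [hk, pow_succ, show t * (x ^ i * x) = g * t * g⁻¹ * x by rw [← mul_assoc, hi]]
      constructor
      · intro e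
        calc b * t * b⁻¹ = g * t * g⁻¹ * (g * t * g⁻¹ * (b * t * b⁻¹)) := by
              rw [← mul_assoc (g * t * g⁻¹) (g * t * g⁻¹), hgg, one_mul]
          _ = g * t * g⁻¹ * x := by rw [e]
      · intro e
        rw [e, ← mul_assoc, hgg, one_mul]
    · rw [Finset.card_eq_zero, Finset.filter_eq_empty_iff]
      intro b _ e
      apply hgI
      set v := g * t * g⁻¹ with hv
      set w := b * t * b⁻¹ with hw
      have hww : w * w = 1 := by
        rw [hw, show b * t * b⁻¹ * (b * t * b⁻¹) = b * (t * t) * b⁻¹ by group, htt]; group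
      have hvx : v * x * v⁻¹ = x⁻¹ := by
        rw [← e, inv_eq_of_mul_eq_one_right hgg, mul_inv_rev, inv_eq_of_mul_eq_one_right hgg,
          inv_eq_of_mul_eq_one_right hww, ← mul_assoc v, hgg, one_mul]
      have hm : t * v ∈ Subgroup.centralizer ({x} : Set G) := by
        rw [Subgroup.mem_centralizer_singleton_iff, ← mul_inv_eq_iff_eq_mul]
        calc t * v * x * (t * v)⁻¹ = t * (v * x * v⁻¹) * t⁻¹ := by group
          _ = (t * x * t⁻¹)⁻¹ := by rw [hvx]; group
          _ = x := by rw [hs.inv, inv_inv]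
      rw [hs.cent, mem_zpowers_iff_mem_range_orderOf, Finset.mem_image] at hm
      obtain ⟨i, hi, ei⟩ := hm
      rw [hs.ordx] at hi
      exact Finset.mem_image.2 ⟨i, hi, by rw [ei, ← mul_assoc, htt, one_mul]⟩
  have hD : ∑ g : G, (if g * t * g⁻¹ ∈ I then c else 0) = 7 * c * c := by
    rw [← Finset.sum_filter, Finset.sum_const, smul_eq_mul]
    congr 1
    rw [Finset.card_eq_sum_card_fiberwise (f := fun g => g * t * g⁻¹) (t := I)
      (s := Finset.univ.filter fun g : G => g * t * g⁻¹ ∈ I)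
      (fun g hg => (Finset.mem_filter.1 hg).2), Finset.sum_congr rfl (g := fun _ => c) fun v hv => ?_,
      Finset.sum_const, hI7, smul_eq_mul]
    obtain ⟨i, hi, rfl⟩ := Finset.mem_image.1 hv
    rw [Finset.filter_filter, hc, ← hfib t (x ^ (3 * i)), hk]
    congr 1
    refine Finset.filter_congr fun g _ => ⟨fun e => e.2, fun e => ⟨?_, e⟩⟩
    rw [e]; exact hv
  rw [hB, Finset.sum_congr rfl fun g _ => hC g, hD] at hA
  rw [pow_two]
  exact Nat.eq_of_mul_eq_mul_left (show 0 < 7 by norm_num) (hA.symm.trans (mul_assoc 7 c c))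

/-- Column orthogonality against `x`, with integral values there. -/
theorem col [Fintype (Cfsg.IrrCharacter G)] {x t : G} (hs : Seven x t) (a : Cfsg.IrrCharacter G → ℤ)
    (ha : ∀ χ : Cfsg.IrrCharacter G, (χ : G → ℂ) x = (a χ : ℂ)) (z : G) [Decidable (IsConj x z)] :
    ∑ χ : Cfsg.IrrCharacter G, (a χ : ℂ) * (χ : G → ℂ) z = if IsConj x z then 7 else 0 := by
  have h := congrArg conj (sum_irr_mul_conj x z)
  rw [hs.cent, Nat.card_zpowers, hs.ordx] at h
  simp only [map_sum, map_mul, Complex.conj_conj, ha, map_intCast, apply_ite conj, map_natCast, map_zero] at h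
  rw [h]
  congr 1

variable [IsSimpleGroup G]

theorem false_of_simple (h : Nat.card G = 12096) (h14 : ∀ g : G, orderOf g ≠ 14)
    (h21 : ∀ g : G, orderOf g ≠ 21) : False := by
  classical
  haveI : Fintype G := Fintype.ofFinite G
  haveI := Fintype.ofFinite (Cfsg.IrrCharacter G)
  have hG := not_comm h
  obtain ⟨x, t, hs⟩ := exists_seven h h14 h21
  have htt : t * t = 1 := by rw [← pow_two, ← hs.ordt, pow_orderOf_eq_one]
  choose v hv hv4 using fun χ : Cfsg.IrrCharacter G => Chars.exists_int_mod_four hG χ htt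
  choose a ha h7 h14' hlo hhi using fun χ : Cfsg.IrrCharacter G => Chars.exists_seven hs.ordx htt hs.inv hs.pw χ (hv χ)
  set one := oneChar G with hone
  have ha1 : a one = 1 := by have := ha one; rw [hone, oneChar_apply] at this; exact_mod_cast this.symm
  have hv1 : v one = 1 := by have := hv one; rw [hone, oneChar_apply] at this; exact_mod_cast this.symm
  have hf1 : Chars.deg one = 1 := by
    have := Chars.apply_one one; rw [hone, oneChar_apply] at this; exact_mod_cast this.symm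
  have hdvd : ∀ χ, Chars.deg χ ∣ 12096 := fun χ => h ▸ H80.ClassMult.charDegree_dvd_card χ
  -- orthogonality
  have e7 : ∑ χ, a χ * a χ = 7 := by
    have := col hs a ha x
    rw [if_pos (IsConj.refl x)] at this
    simp only [ha] at this
    exact_mod_cast this
  have hnot : ∀ z : G, orderOf z ≠ 7 → ¬ IsConj x z := fun z hz hxz => hz (by
    obtain ⟨c, rfl⟩ := isConj_iff.1 hxz
    rw [← MulAut.conj_apply, MulEquiv.orderOf_eq, hs.ordx])
  have eaf : ∑ χ, a χ * (Chars.deg χ : ℤ) = 0 := by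
    have := col hs a ha 1
    rw [if_neg (hnot 1 (by rw [orderOf_one]; norm_num))] at this
    simp only [Chars.apply_one] at this
    exact_mod_cast this
  have eav : ∑ χ, a χ * v χ = 0 := by
    have := col hs a ha t
    rw [if_neg (hnot t (by rw [hs.ordt]; norm_num))] at this
    simp only [hv] at this
    exact_mod_cast this
  have ef : ∑ χ : Cfsg.IrrCharacter G, Chars.deg χ * Chars.deg χ = 12096 := by
    have := sum_degree_mul_apply (1 : G)
    rw [if_pos rfl, h] at this
    simp only [Chars.apply_one] at this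
    exact_mod_cast this
  have class_mult : ∀ (u : G) (w : Cfsg.IrrCharacter G → ℤ), (∀ χ : Cfsg.IrrCharacter G, (χ : G → ℂ) u = (w χ : ℂ)) →
      ∑ χ, a χ * w χ * w χ * ((12096 / Chars.deg χ : ℕ) : ℤ) =
        7 * ((Finset.univ.filter fun b : G => IsConj x (u * (b * u * b⁻¹))).card : ℤ) := by
    intro u w hw
    have h1 : ∑ χ, (a χ : ℂ) * ∑ b : G, (χ : G → ℂ) (u * (b * u * b⁻¹)) =
        7 * ((Finset.univ.filter fun b : G => IsConj x (u * (b * u * b⁻¹))).card : ℂ) := by
      simp only [Finset.mul_sum]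
      rw [Finset.sum_comm, Finset.sum_congr rfl fun b _ => col hs a ha _, ← Finset.sum_filter,
        Finset.sum_const, nsmul_eq_mul, mul_comm]
    simp only [H80.ClassMult.sum_apply_mul_conj, hw, Chars.apply_one, h] at h1
    have h2 : ∀ χ, (a χ : ℂ) * ((12096 : ℕ) * (w χ : ℂ) * (w χ : ℂ) / (Chars.deg χ : ℂ)) =
        ((a χ * w χ * w χ * ((12096 / Chars.deg χ : ℕ) : ℤ) : ℤ) : ℂ) := by
      intro χ
      have h0 : (Chars.deg χ : ℂ) ≠ 0 := Nat.cast_ne_zero.2 (H80.ClassMult.deg_spec χ).1.ne'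
      obtain ⟨m, hm⟩ := hdvd χ
      rw [hm, Nat.mul_div_cancel_left _ (H80.ClassMult.deg_spec χ).1]
      push_cast
      field_simp
    rw [Finset.sum_congr rfl fun χ _ => h2 χ] at h1
    exact_mod_cast h1
  -- the block
  set S := Finset.univ.filter fun χ => χ ≠ one ∧ a χ ≠ 0 with hS
  have hsplit : ∀ φ : Cfsg.IrrCharacter G → ℤ, (∀ χ, a χ = 0 → φ χ = 0) →
      ∑ χ ∈ S, φ χ = ∑ χ, φ χ - φ one := by
    intro φ hφ
    rw [← Finset.sum_erase_eq_sub (Finset.mem_univ one)]
    refine Finset.sum_subset (fun χ hχ => ?_) fun χ hχ hχ' => hφ χ ?_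
    · exact Finset.mem_erase.2 ⟨(Finset.mem_filter.1 hχ).2.1, Finset.mem_univ _⟩
    · by_contra h0
      exact hχ' (Finset.mem_filter.2 ⟨Finset.mem_univ _, (Finset.mem_erase.1 hχ).1, h0⟩)
  have hf2 : ∑ χ ∈ S, Chars.deg χ * Chars.deg χ ≤ 12095 := by
    have hle : S ⊆ Finset.univ.erase one := fun χ hχ =>
      Finset.mem_erase.2 ⟨(Finset.mem_filter.1 hχ).2.1, Finset.mem_univ _⟩
    have := Finset.sum_le_sum_of_subset (f := fun χ => Chars.deg χ * Chars.deg χ) hle
    have h' := Finset.add_sum_erase _ (fun χ => Chars.deg χ * Chars.deg χ) (Finset.mem_univ one)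
    simp only [hf1] at h'
    omega
  have ha2 : ∀ χ ∈ S, -2 ≤ a χ ∧ a χ ≤ 2 := by
    intro χ hχ
    have h1 := hsplit (fun χ => a χ * a χ) (fun χ e => by rw [e]; rfl)
    rw [e7, ha1] at h1
    have := Finset.single_le_sum (f := fun χ => a χ * a χ) (fun i _ => mul_self_nonneg _) hχ
    constructor <;> nlinarith
  set M : Multiset Block7.Opt := S.val.map fun χ => (a χ, Chars.deg χ, v χ) with hMd
  have hperf := Sylow.commutator_eq_top hG
  have hMmem : ∀ y ∈ M, y ∈ Block7.opts := by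
    intro y hy
    obtain ⟨χ, hχ, rfl⟩ := Multiset.mem_map.1 hy
    have hχ' : χ ∈ S := hχ
    have h2 := two_le_deg hperf χ (Finset.mem_filter.1 hχ').2.1
    have h110 : Chars.deg χ < 110 := by
      have := Finset.single_le_sum (f := fun χ => Chars.deg χ * Chars.deg χ) (fun i _ => Nat.zero_le _) hχ'
      by_contra hlt
      have : 110 * 110 ≤ Chars.deg χ * Chars.deg χ := Nat.mul_le_mul (by omega) (by omega)
      omega
    exact Block7.mem_opts h110 (ha2 χ hχ') (by simp only [deg] at h2; exact_mod_cast h2) (hdvd χ) (h7 χ) (h14' χ)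
      (hlo χ) (hhi χ) (hv4 χ) (Finset.mem_filter.1 hχ').2.2
  have hMs : (M.map fun y => y.1.natAbs ^ 2).sum = 6 := by
    have h1 := hsplit (fun χ => a χ * a χ) (fun χ e => by rw [e]; rfl)
    rw [e7, ha1] at h1
    have h2 : ((∑ χ ∈ S, (a χ).natAbs ^ 2 : ℕ) : ℤ) = 6 := by
      push_cast
      rw [Finset.sum_congr rfl fun χ _ => show |a χ| ^ 2 = a χ * a χ by rw [sq_abs, pow_two], h1]
      norm_num
    rw [hMd, Multiset.map_map]
    exact_mod_cast h2
  have hM1 : (M.map fun y => y.1 * (y.2.1 : ℤ)).sum = -1 := by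
    rw [hMd, Multiset.map_map]
    refine (hsplit (fun χ => a χ * (Chars.deg χ : ℤ)) fun χ e => by rw [e, zero_mul]).trans ?_
    rw [eaf, ha1, hf1]; norm_num
  have hM2 : (M.map fun y => y.1 * y.2.2).sum = -1 := by
    rw [hMd, Multiset.map_map]
    refine (hsplit (fun χ => a χ * v χ) fun χ e => by rw [e, zero_mul]).trans ?_
    rw [eav, ha1, hv1]; norm_num
  have hM3 : (M.map fun y => y.2.1 * y.2.1).sum ≤ 12095 := by
    rw [hMd, Multiset.map_map]; exact hf2
  set c := Nat.card (Subgroup.centralizer ({t} : Set G)) with hc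
  have hM4 : 12096 + (M.map fun y => y.1 * y.2.2 * y.2.2 * ((12096 / y.2.1 : ℕ) : ℤ)).sum =
      7 * (c : ℤ) * c := by
    rw [hMd, Multiset.map_map]
    refine (congrArg (fun s : ℤ => 12096 + s) (hsplit (fun χ => a χ * v χ * v χ * ((12096 / Chars.deg χ : ℕ) : ℤ))
      fun χ e => by rw [e, zero_mul, zero_mul, zero_mul])).trans ?_
    rw [class_mult t v hv, card_products hs, ha1, hv1, hf1, ← hc]
    push_cast
    ring
  obtain ⟨hM, hc48⟩ := Block7.block_unique M hMmem hMs hM1 hM2 hM3 (h ▸ Subgroup.card_subgroup_dvd_card _)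
    hs.three hM4
  -- an involution central in a Sylow 2-subgroup
  haveI : Fact (Nat.Prime 2) := ⟨Nat.prime_two⟩
  obtain ⟨Q⟩ := (inferInstance : Nonempty (Sylow 2 G))
  have hQ : Nat.card (Q : Subgroup G) = 2 ^ 6 :=
    Sylow.card_sylow_eq Q (show Nat.card G = 2 ^ 6 * 189 by rw [h]; norm_num) (by norm_num)
  haveI : Nontrivial (Q : Subgroup G) := Finite.one_lt_card_iff_nontrivial.1 (by rw [hQ]; norm_num)
  obtain ⟨k, hk0, hk⟩ := ((IsPGroup.of_card hQ).to_subgroup (Subgroup.center (Q : Subgroup G))).nontrivial_iff_card.1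
    (IsPGroup.of_card hQ).center_nontrivial
  obtain ⟨z, hz⟩ := exists_prime_orderOf_dvd_card' (G := Subgroup.center (Q : Subgroup G)) 2
    (by rw [hk]; exact dvd_pow_self 2 (by omega))
  set u : G := ((z : (Q : Subgroup G)) : G) with hu
  have huo : orderOf u = 2 := by rw [hu, Subgroup.orderOf_coe, Subgroup.orderOf_coe, hz]
  have huu : u * u = 1 := by rw [← pow_two, ← huo, pow_orderOf_eq_one]
  have hu1 : u ≠ 1 := fun e => by rw [e, orderOf_one] at huo; omega
  have hnt : ¬ IsConj t u := by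
    intro hcj
    have h64 : 2 ^ 6 ∣ Nat.card (Subgroup.centralizer ({u} : Set G)) := hQ ▸ Subgroup.card_dvd_of_le fun y hy => by
      rw [Subgroup.mem_centralizer_singleton_iff]
      exact congrArg Subtype.val (Subgroup.mem_center_iff.1 z.2 ⟨y, hy⟩)
    rw [card_centralizer_conj hcj, ← hc, show c = 48 from hc48] at h64
    norm_num at h64
  choose w hw hw4 using fun χ : Cfsg.IrrCharacter G => Chars.exists_int_mod_four hG χ huu
  have hwlt : ∀ χ, χ ≠ one → -(Chars.deg χ : ℤ) < w χ ∧ w χ < Chars.deg χ := by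
    intro χ hχ
    have h1 := Chars.norm_lt hG χ hχ hu1
    rw [hw χ, Complex.norm_intCast, ← Int.cast_abs] at h1
    have h2 : |w χ| < (Chars.deg χ : ℤ) := by exact_mod_cast h1
    exact abs_lt.1 h2
  have hw1 : w one = 1 := by have := hw one; rw [hone, oneChar_apply] at this; exact_mod_cast this.symm
  have eaw : ∑ χ, a χ * w χ = 0 := by
    have := col hs a ha u
    rw [if_neg (hnot u (by rw [huo]; norm_num))] at this
    simp only [hw] at this
    exact_mod_cast this
  have ecl : ∑ χ, a χ * w χ * w χ * ((12096 / Chars.deg χ : ℕ) : ℤ) = 0 := by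
    rw [class_mult u w hw, Finset.filter_eq_empty_iff.2 fun b _ hb => hnt (isConj_of_mul hs huu hb)]
    simp
  -- the block in coordinates
  have hSa : ∀ χ ∈ S, (Chars.deg χ = 8 ∧ a χ = 1) ∨ (Chars.deg χ = 27 ∧ a χ = -1) ∨
      (Chars.deg χ = 36 ∧ a χ = 1) := by
    intro χ hχ
    have : ((a χ, Chars.deg χ, v χ) : Block7.Opt) ∈ (Block7.target : Multiset Block7.Opt) :=
      hM ▸ Multiset.mem_map_of_mem _ hχ
    simp [Block7.target] at this
    omega
  have hcount : ∀ d : ℕ, (S.filter fun χ => Chars.deg χ = d).card =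
      (Multiset.filter (fun y : Block7.Opt => y.2.1 = d) (Block7.target : Multiset Block7.Opt)).card := by
    intro d
    rw [← hM, hMd, Multiset.filter_map, Multiset.card_map, Finset.card_def, Finset.filter_val]
    rfl
  obtain ⟨χ8, h8⟩ := Finset.card_eq_one.1 ((hcount 8).trans (by decide))
  obtain ⟨χ36, χ36', hne36, h36⟩ := Finset.card_eq_two.1 ((hcount 36).trans (by decide))
  obtain ⟨χd, χe, χg, hde, hdg, heg, h27⟩ := Finset.card_eq_three.1 ((hcount 27).trans (by decide))
  have hin : ∀ {d : ℕ} {χ : Cfsg.IrrCharacter G}, χ ∈ (S.filter fun χ => Chars.deg χ = d) →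
      Chars.deg χ = d ∧ (w χ - d) % 4 = 0 ∧ (-(d : ℤ) < w χ ∧ w χ < d) := fun {d χ} hχ => by
    obtain ⟨hχS, hd⟩ := Finset.mem_filter.1 hχ
    subst hd
    exact ⟨rfl, hw4 χ, hwlt χ (Finset.mem_filter.1 hχS).2.1⟩
  have hsum : ∀ φ : Cfsg.IrrCharacter G → ℤ, ∑ χ ∈ S, φ χ =
      φ χ8 + (φ χ36 + φ χ36') + (φ χd + (φ χe + φ χg)) := by
    intro φ
    have hu' : S = (S.filter fun χ => Chars.deg χ = 8) ∪ (S.filter fun χ => Chars.deg χ = 36) ∪
        (S.filter fun χ => Chars.deg χ = 27) := by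
      ext χ
      simp only [Finset.mem_union, Finset.mem_filter]
      refine ⟨fun hχ => ?_, by tauto⟩
      rcases hSa χ hχ with e | e | e <;> simp [hχ, e.1]
    conv_lhs => rw [hu']
    rw [Finset.sum_union, Finset.sum_union, h8, h36, h27]
    · simp [hne36, hde, hdg, heg]
    · exact Finset.disjoint_filter.2 fun χ _ e1 e2 => by omega
    · rw [Finset.disjoint_union_left]
      exact ⟨Finset.disjoint_filter.2 fun χ _ e1 e2 => by omega,
        Finset.disjoint_filter.2 fun χ _ e1 e2 => by omega⟩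
  have m8 : χ8 ∈ S.filter fun χ => Chars.deg χ = 8 := by rw [h8]; simp
  have m36 : χ36 ∈ S.filter fun χ => Chars.deg χ = 36 := by rw [h36]; simp
  have m36' : χ36' ∈ S.filter fun χ => Chars.deg χ = 36 := by rw [h36]; simp
  have md : χd ∈ S.filter fun χ => Chars.deg χ = 27 := by rw [h27]; simp
  have me : χe ∈ S.filter fun χ => Chars.deg χ = 27 := by rw [h27]; simp
  have mg : χg ∈ S.filter fun χ => Chars.deg χ = 27 := by rw [h27]; simp
  obtain ⟨d8, p8, q8⟩ := hin m8
  obtain ⟨d36, p36, q36⟩ := hin m36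
  obtain ⟨d36', p36', q36'⟩ := hin m36'
  obtain ⟨dd, pd, qd⟩ := hin md
  obtain ⟨de, pe, qe⟩ := hin me
  obtain ⟨dg, -, qg⟩ := hin mg
  have hav : ∀ {d : ℕ} {χ : Cfsg.IrrCharacter G}, χ ∈ (S.filter fun χ => Chars.deg χ = d) →
      a χ = if d = 27 then -1 else 1 := fun {d χ} hχ => by
    obtain ⟨hχS, hd⟩ := Finset.mem_filter.1 hχ
    rcases hSa χ hχS with e | e | e <;> rw [← hd, e.1, e.2] <;> norm_num
  have A8 : a χ8 = 1 := hav m8
  have A36 : a χ36 = 1 := hav m36
  have A36' : a χ36' = 1 := hav m36'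
  have Ad : a χd = -1 := hav md
  have Ae : a χe = -1 := hav me
  have Ag : a χg = -1 := hav mg
  have L := hsplit (fun χ => a χ * w χ) fun χ e => by rw [e, zero_mul]
  have Qd := hsplit (fun χ => a χ * w χ * w χ * ((12096 / Chars.deg χ : ℕ) : ℤ))
    fun χ e => by rw [e, zero_mul, zero_mul, zero_mul]
  rw [hsum, eaw, ha1, hw1, A8, A36, A36', Ad, Ae, Ag] at L
  rw [hsum, ecl, ha1, hw1, hf1, A8, A36, A36', Ad, Ae, Ag, d8, d36, d36', dd, de, dg] at Qd
  norm_num at Qd L
  refine Block7.second_class (a := w χ8) (b := w χ36) (c := w χ36') (d := w χd) (e := w χe) (g := w χg)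
    p8 p36 p36' pd pe q8 q36 q36' qd qe qg (by linarith) ?_
  refine (mul_eq_zero.1 (?_ : (56 : ℤ) * _ = 0)).resolve_left (by norm_num)
  linear_combination Qd

end Cfsg.Agent.Lib.U33Recog.NotSimple
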