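import Cfsg.Agent.Lib.U33Recog.NotSimple
import Cfsg.Agent.Lib.U33Recog.Cases
import Cfsg.Agent.Lib.Classif.Order4032
import Cfsg.Agent.Lib.AutPSU.Card
import Cfsg.Agent.Lib.ChevStructure.G2Two

/-!
A group of order 12096 without elements of order 9, 14 or 21 is the automorphism group of PSU(3,3).
-/

set_option autoImplicit false

namespace Cfsg.Agent.Lib.U33Recog.Order12096

open Subgroup Cfsg.Agent.Lib.SmallGroups

variable {G : Type*} [Group G] [Finite G]

section Local

variable (h : Nat.card G = 12096) (h14 : ∀ g : G, orderOf g ≠ 14) (h21 : ∀ g : G, orderOf g ≠ 21)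
include h h14 h21

theorem card_centralizer_seven {x : G} (hx : orderOf x = 7) :
    Nat.card (centralizer ({x} : Set G)) = 7 := by
  have h7 : 7 ∣ Nat.card (centralizer ({x} : Set G)) := by
    have hm : zpowers x ≤ centralizer ({x} : Set G) :=
      zpowers_le.2 (mem_centralizer_singleton_iff.2 rfl)
    have := card_dvd_of_le hm
    rwa [Nat.card_zpowers, hx] at this
  obtain ⟨k, hk⟩ := h7
  have hkd : k ∣ 2 ^ 6 * 3 ^ 3 := by
    have hd : 7 * k ∣ 7 * (2 ^ 6 * 3 ^ 3) := by
      rw [← hk, show 7 * (2 ^ 6 * 3 ^ 3) = 12096 by norm_num, ← h]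
      exact card_subgroup_dvd_card _
    exact Nat.dvd_of_mul_dvd_mul_left (by norm_num) hd
  by_contra hne
  obtain ⟨q, hq, hqk⟩ := Nat.exists_prime_and_dvd (show k ≠ 1 by rintro rfl; exact hne (by rw [hk]))
  haveI := Fact.mk hq
  obtain ⟨⟨y, hy⟩, hyo⟩ := exists_prime_orderOf_dvd_card' (G := centralizer ({x} : Set G)) q
    (by rw [hk]; exact hqk.trans (dvd_mul_left k 7))
  rw [orderOf_mk] at hyo
  have hc : Commute y x := mem_centralizer_singleton_iff.1 hy
  rcases (Nat.Prime.dvd_mul hq).1 (hqk.trans hkd) with h2 | h2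
  · obtain rfl := (Nat.prime_dvd_prime_iff_eq hq Nat.prime_two).1 (hq.dvd_of_dvd_pow h2)
    exact h14 (y * x) (by rw [hc.orderOf_mul_eq_mul_orderOf_of_coprime (by rw [hyo, hx]; norm_num), hyo, hx])
  · obtain rfl := (Nat.prime_dvd_prime_iff_eq hq Nat.prime_three).1 (hq.dvd_of_dvd_pow h2)
    exact h21 (y * x) (by rw [hc.orderOf_mul_eq_mul_orderOf_of_coprime (by rw [hyo, hx]; norm_num), hyo, hx])

/-- An element of order 7 acts fixed-point-freely on a `7'`-subgroup that it normalizes. -/
theorem modEq_one {H : Subgroup G} {x : G} (hx : orderOf x = 7) (hn : x ∈ normalizer (H : Set G))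
    (h7 : ¬ 7 ∣ Nat.card H) : Nat.card H % 7 = 1 := by
  haveI : Fact (Nat.Prime 7) := ⟨by norm_num⟩
  let A := zpowers x
  have hA : IsPGroup 7 A := IsPGroup.of_card (n := 1) (by rw [Nat.card_zpowers, hx, pow_one])
  have hle : A ≤ normalizer (H : Set G) := zpowers_le.2 hn
  letI : MulAction A H :=
    { smul := fun a y => ⟨a.1 * y.1 * a.1⁻¹, (mem_normalizer_iff.1 (hle a.2) y.1).1 y.2⟩
      one_smul := fun y => Subtype.ext (show (1 : G) * y.1 * (1 : G)⁻¹ = y.1 by group)
      mul_smul := fun a b y => Subtype.ext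
        (show (a.1 * b.1) * y.1 * (a.1 * b.1)⁻¹ = a.1 * (b.1 * y.1 * b.1⁻¹) * a.1⁻¹ by group) }
  have hfix : MulAction.fixedPoints A H = {1} := by
    ext y
    refine ⟨fun hy => ?_, ?_⟩
    · have e : x * y.1 * x⁻¹ = y.1 := congrArg Subtype.val (hy ⟨x, mem_zpowers x⟩)
      have hm : y.1 ∈ centralizer ({x} : Set G) :=
        mem_centralizer_singleton_iff.2 (mul_inv_eq_iff_eq_mul.1 e).symm
      have hd : orderOf y.1 ∣ 7 := by
        have := card_dvd_of_le (zpowers_le.2 hm)
        rwa [Nat.card_zpowers, card_centralizer_seven h h14 h21 hx] at this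
      have hdH : orderOf y.1 ∣ Nat.card H := orderOf_dvd_natCard H y.2
      rcases (Nat.dvd_prime (by norm_num : Nat.Prime 7)).1 hd with e1 | e1
      · exact Subtype.ext (orderOf_eq_one_iff.1 e1)
      · exact absurd (e1 ▸ hdH) h7
    · rintro rfl a
      exact Subtype.ext (show a.1 * (1 : G) * a.1⁻¹ = 1 by group)
  have hmod := hA.card_modEq_card_fixedPoints H
  rw [hfix] at hmod
  simpa [Nat.ModEq] using hmod

theorem card_normalizer_seven (P : Sylow 7 G) :
    Nat.card (normalizer ((P : Subgroup G) : Set G)) = 42 := by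
  classical
  haveI : Fintype G := Fintype.ofFinite G
  haveI : Fact (Nat.Prime 7) := ⟨by norm_num⟩
  have hP : Nat.card (P : Subgroup G) = 7 := by
    rw [Sylow.card_sylow_eq P (show Nat.card G = 7 ^ 1 * 1728 by rw [h]; norm_num) (by norm_num), pow_one]
  obtain ⟨⟨x, hxP⟩, hx⟩ := exists_prime_orderOf_dvd_card' (G := (P : Subgroup G)) 7 (by rw [hP])
  rw [orderOf_mk] at hx
  set N := normalizer ((P : Subgroup G) : Set G) with hN
  set S : Finset G := Finset.univ.filter (· ∈ N) with hS
  set I : Finset G := (Finset.univ.filter (· ∈ (P : Subgroup G))).erase 1 with hI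
  have hmem : ∀ n ∈ S, n * x * n⁻¹ ∈ I := by
    intro n hn
    refine Finset.mem_erase.2 ⟨fun e => ?_, Finset.mem_filter.2 ⟨Finset.mem_univ _,
      (mem_normalizer_iff.1 (Finset.mem_filter.1 hn).2 x).1 hxP⟩⟩
    rw [conj_eq_one_iff.1 e, orderOf_one] at hx
    omega
  have hfib : ∀ b ∈ I, (S.filter fun n => n * x * n⁻¹ = b).card ≤ 7 := by
    intro b _
    rcases (S.filter fun n => n * x * n⁻¹ = b).eq_empty_or_nonempty with e | ⟨n₀, hn₀⟩
    · rw [e, Finset.card_empty]; omega
    have hn₀' := (Finset.mem_filter.1 hn₀).2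
    calc (S.filter fun n => n * x * n⁻¹ = b).card
        ≤ (Finset.univ.filter fun n => n * x * n⁻¹ = n₀ * x * n₀⁻¹).card :=
          Finset.card_le_card fun n hn => Finset.mem_filter.2
            ⟨Finset.mem_univ _, (Finset.mem_filter.1 hn).2.trans hn₀'.symm⟩
      _ = 7 := by
          rw [← Fintype.card_subtype, ← Nat.card_eq_fintype_card, NotSimple.card_conj_fibre,
            card_centralizer_seven h h14 h21 hx]
  have hle := Finset.card_le_mul_card_image_of_maps_to hmem 7 hfib
  have hSc : S.card = Nat.card N := by rw [hS, ← Fintype.card_subtype, ← Nat.card_eq_fintype_card]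
  have hIc : I.card = 6 := by
    rw [hI, Finset.card_erase_of_mem (Finset.mem_filter.2 ⟨Finset.mem_univ _, one_mem _⟩),
      ← Fintype.card_subtype, ← Nat.card_eq_fintype_card, hP]
  have hmul := Sylow.card_normalizer_mul P
  rw [← hN, h] at hmul
  have h7N : 7 ∣ Nat.card N := by
    have := card_dvd_of_le (le_normalizer (H := (P : Subgroup G)))
    rwa [hP] at this
  obtain ⟨e, he⟩ := h7N
  have hn := card_sylow_modEq_one 7 G
  unfold Nat.ModEq at hn
  have he6 : e ≤ 6 := by omega
  rw [he] at hmul ⊢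
  interval_cases e <;> omega

/-- A normal `7'`-subgroup has order prime to 3. -/
theorem not_three_dvd (N : Subgroup G) [N.Normal] (h7 : ¬ 7 ∣ Nat.card N) : ¬ 3 ∣ Nat.card N := by
  haveI : Fact (Nat.Prime 7) := ⟨by norm_num⟩
  haveI : Fact (Nat.Prime 3) := ⟨Nat.prime_three⟩
  intro h3
  obtain ⟨R⟩ := (inferInstance : Nonempty (Sylow 3 N))
  obtain ⟨n, hn⟩ := IsPGroup.iff_card.1 R.2
  have htop := R.normalizer_sup_eq_top
  set K := normalizer (((R : Subgroup N).map N.subtype : Subgroup G) : Set G) with hK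
  have h7' : 7 ∣ N.index := by
    have := N.card_mul_index
    rw [h] at this
    rcases (Nat.Prime.dvd_mul (by norm_num : Nat.Prime 7)).1 (this ▸ (by norm_num : 7 ∣ 12096)) with e | e
    exacts [absurd e h7, e]
  have h7K : 7 ∣ Nat.card K := by
    rw [← relIndex_top_right N, ← htop, relIndex_sup_right] at h7'
    exact h7'.trans (index_dvd_card _)
  obtain ⟨y, hy⟩ := exists_prime_orderOf_dvd_card' (G := K) 7 h7K
  have hy' : orderOf (y : G) = 7 := by rw [orderOf_coe, hy]
  have hcard : Nat.card ((R : Subgroup N).map N.subtype) = 3 ^ n := by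
    rw [card_map_of_injective N.subtype_injective, hn]
  have hn1 : 1 ≤ n := by
    by_contra hn0
    have := R.dvd_card_of_dvd_card h3
    rw [hn, show n = 0 by omega] at this
    norm_num at this
  have hn3 : n ≤ 3 := by
    have hd : 3 ^ n ∣ 7 * 2 ^ 6 * 3 ^ 3 := by
      rw [show 7 * 2 ^ 6 * 3 ^ 3 = 12096 by norm_num, ← h, ← hcard]
      exact card_subgroup_dvd_card _
    have hd' : 3 ^ n ∣ 3 ^ 3 :=
      (Nat.Coprime.pow_left n (by norm_num : Nat.Coprime 3 (7 * 2 ^ 6))).dvd_of_dvd_mul_left hd
    exact (Nat.pow_dvd_pow_iff_le_right (by norm_num)).1 hd'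
  have h7R : ¬ 7 ∣ Nat.card ((R : Subgroup N).map N.subtype) := by
    rw [hcard]
    intro e
    exact absurd ((by norm_num : Nat.Prime 7).dvd_of_dvd_pow e) (by norm_num)
  have := modEq_one h h14 h21 hy' y.2 h7R
  rw [hcard] at this
  interval_cases n <;> norm_num at this

/-- There is no non-trivial normal `7'`-subgroup. -/
theorem normal_eq_bot (N : Subgroup G) [N.Normal] (h7 : ¬ 7 ∣ Nat.card N) : N = ⊥ := by
  classical
  haveI : Fintype G := Fintype.ofFinite G
  haveI : Fact (Nat.Prime 7) := ⟨by norm_num⟩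
  haveI : Fact (Nat.Prime 2) := ⟨Nat.prime_two⟩
  by_contra hbot
  obtain ⟨x, hx⟩ := exists_prime_orderOf_dvd_card' (G := G) 7 (by rw [h]; norm_num)
  have hnormal : ∀ g : G, g ∈ normalizer (N : Set G) := fun g => by
    rw [normalizer_eq_top]; exact mem_top g
  have hm := modEq_one h h14 h21 hx (hnormal x) h7
  have hdvd : Nat.card N ∣ 2 ^ 6 * 3 ^ 3 := by
    have hcop : Nat.Coprime (Nat.card N) 7 := ((by norm_num : Nat.Prime 7).coprime_iff_not_dvd.2 h7).symm
    refine hcop.dvd_of_dvd_mul_left (show Nat.card N ∣ 7 * (2 ^ 6 * 3 ^ 3) from ?_)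
    rw [show 7 * (2 ^ 6 * 3 ^ 3) = 12096 by norm_num, ← h]
    exact card_subgroup_dvd_card _
  have h3 := not_three_dvd h h14 h21 N h7
  have h64 : Nat.card N ∣ 2 ^ 6 :=
    (Nat.Coprime.pow_right 3 ((Nat.prime_three.coprime_iff_not_dvd.2 h3).symm)).dvd_of_dvd_mul_right hdvd
  obtain ⟨k, hk6, hk⟩ := (Nat.dvd_prime_pow Nat.prime_two).1 h64
  obtain ⟨P⟩ := (inferInstance : Nonempty (Sylow 7 G))
  have hxN : ∀ z : G, orderOf z = 7 → z ∉ N := fun z hz hzN => h7 (hz ▸ orderOf_dvd_natCard N hzN)
  rcases (show k = 0 ∨ k = 3 ∨ k = 6 by rw [hk] at hm; interval_cases k <;> norm_num at hm <;> omega) with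
    rfl | rfl | rfl
  · exact hbot (eq_bot_of_card_eq N (by rw [hk]; norm_num))
  · -- the kernel of the action on `N` has order prime to 7
    let φ : G →* MulAut N := MulAut.conjNormal
    let ψ : MulAut N →* Equiv.Perm N := MulAut.toPerm N
    have hker : Nat.card (φ.ker) % 7 ≠ 0 := by
      intro e
      obtain ⟨⟨z, hz⟩, hzo⟩ := exists_prime_orderOf_dvd_card' (G := φ.ker) 7 (Nat.dvd_of_mod_eq_zero e)
      rw [orderOf_mk] at hzo
      obtain ⟨w, hw⟩ := exists_prime_orderOf_dvd_card' (G := N) 2 (by rw [hk]; norm_num)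
      have hc : (w : G) ∈ centralizer ({z} : Set G) := by
        rw [mem_centralizer_singleton_iff]
        have := congrArg Subtype.val (DFunLike.congr_fun (MonoidHom.mem_ker.1 hz) w)
        simp only [φ, MulAut.conjNormal_apply, MulAut.one_apply] at this
        exact (mul_inv_eq_iff_eq_mul.1 this).symm
      have := card_dvd_of_le (zpowers_le.2 hc)
      rw [Nat.card_zpowers, orderOf_coe, hw, card_centralizer_seven h h14 h21 hzo] at this
      norm_num at this
    have hkerd : Nat.card φ.ker ∣ 2 ^ 6 * 3 ^ 3 := by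
      have hcop : Nat.Coprime (Nat.card φ.ker) 7 :=
        ((by norm_num : Nat.Prime 7).coprime_iff_not_dvd.2 fun e => hker (Nat.mod_eq_zero_of_dvd e)).symm
      refine hcop.dvd_of_dvd_mul_left (show _ ∣ 7 * (2 ^ 6 * 3 ^ 3) from ?_)
      rw [show 7 * (2 ^ 6 * 3 ^ 3) = 12096 by norm_num, ← h]
      exact card_subgroup_dvd_card _
    have hidx : φ.ker.index ∣ Nat.card (Equiv.Perm N) := by
      have hψ : Function.Injective ψ := fun a b e => MulEquiv.ext fun z => DFunLike.congr_fun e z
      have e : (ψ.comp φ).ker = φ.ker := MonoidHom.ker_comp_of_injective φ ψ hψ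
      rw [← e, index_ker]
      exact card_subgroup_dvd_card _
    rw [Nat.card_perm, hk] at hidx
    have hmul := φ.ker.card_mul_index
    rw [h] at hmul
    have h3k := not_three_dvd h h14 h21 φ.ker fun e => hker (Nat.mod_eq_zero_of_dvd e)
    have h27 : 3 ^ 3 ∣ φ.ker.index :=
        (Nat.Coprime.pow_left 3 (Nat.prime_three.coprime_iff_not_dvd.2 h3k)).dvd_of_dvd_mul_left
          (hmul.symm ▸ (by norm_num : 3 ^ 3 ∣ 12096))
    exact absurd (h27.trans hidx) (by decide +kernel)
  · -- an involution of the normalizer of a Sylow 7-subgroup would centralize it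
    obtain ⟨t, ht⟩ := exists_prime_orderOf_dvd_card' (G := normalizer ((P : Subgroup G) : Set G)) 2
      (by rw [card_normalizer_seven h h14 h21 P]; norm_num)
    have ht' : orderOf (t : G) = 2 := by rw [orderOf_coe, ht]
    have htN : (t : G) ∈ N := by
      rw [← QuotientGroup.eq_one_iff, ← orderOf_eq_one_iff]
      have h1 : orderOf ((t : G) : G ⧸ N) ∣ 2 := ht' ▸ orderOf_map_dvd (QuotientGroup.mk' N) (t : G)
      have h2 : orderOf ((t : G) : G ⧸ N) ∣ Nat.card (G ⧸ N) := orderOf_dvd_natCard _
      have hq := N.card_mul_index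
      rw [h, hk, index_eq_card] at hq
      rw [show Nat.card (G ⧸ N) = 189 by omega] at h2
      exact Nat.dvd_one.1 (Nat.dvd_gcd h1 h2)
    have hP : Nat.card (P : Subgroup G) = 7 := by
      rw [Sylow.card_sylow_eq P (show Nat.card G = 7 ^ 1 * 1728 by rw [h]; norm_num) (by norm_num), pow_one]
    obtain ⟨⟨z, hzP⟩, hz⟩ := exists_prime_orderOf_dvd_card' (G := (P : Subgroup G)) 7 (by rw [hP])
    rw [orderOf_mk] at hz
    have hmem : (t : G) * z * (t : G)⁻¹ * z⁻¹ ∈ (P : Subgroup G) ⊓ N := by
      refine mem_inf.2 ⟨mul_mem ((mem_normalizer_iff.1 t.2 z).1 hzP) (inv_mem hzP), ?_⟩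
      rw [show (t : G) * z * (t : G)⁻¹ * z⁻¹ = (t : G) * (z * (t : G)⁻¹ * z⁻¹) by group]
      exact mul_mem htN (Normal.conj_mem inferInstance _ (inv_mem htN) z)
    have hbot' : (P : Subgroup G) ⊓ N = ⊥ := inf_eq_bot_of_coprime (by
      rw [hP]; exact (by norm_num : Nat.Prime 7).coprime_iff_not_dvd.2 h7)
    rw [hbot', mem_bot, mul_inv_eq_one] at hmem
    have hc : Commute (t : G) z := mul_inv_eq_iff_eq_mul.1 hmem
    exact h14 _ (by rw [hc.orderOf_mul_eq_mul_orderOf_of_coprime (by rw [ht', hz]; norm_num), ht', hz])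

/-- A minimal normal subgroup is simple of order 6048. -/
theorem exists_hyp (h9 : ∀ g : G, orderOf g ≠ 9) :
    ∃ N : Subgroup G, N.Normal ∧ Hyp N := by
  classical
  haveI : Fact (Nat.Prime 7) := ⟨by norm_num⟩
  haveI : Nontrivial G := Finite.one_lt_card_iff_nontrivial.1 (by rw [h]; norm_num)
  obtain ⟨N, hN, hN0, hNmin⟩ : ∃ N : Subgroup G, N.Normal ∧ N ≠ ⊥ ∧
      ∀ K : Subgroup G, K.Normal → K ≠ ⊥ → K ≤ N → K = N := by
    obtain ⟨N, ⟨hN, hN0⟩, hmin⟩ := Set.Finite.exists_minimal
      (Set.toFinite {K : Subgroup G | K.Normal ∧ K ≠ ⊥})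
      ⟨⊤, inferInstance, top_ne_bot⟩
    exact ⟨N, hN, hN0, fun K hK hK0 hle => le_antisymm hle (hmin ⟨hK, hK0⟩ hle)⟩
  haveI := hN
  have h7 : 7 ∣ Nat.card N := by
    by_contra e; exact hN0 (normal_eq_bot h h14 h21 N e)
  -- every element of order 7 lies in `N`
  have hNdvd : N.index ∣ 6 := by
    haveI : Fintype G := Fintype.ofFinite G
    obtain ⟨P⟩ := (inferInstance : Nonempty (Sylow 7 N))
    have hNidx7 : ¬ 7 ∣ N.index := by
      intro e
      have := mul_dvd_mul h7 e
      rw [N.card_mul_index, h] at this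
      norm_num at this
    set K := normalizer (((P : Subgroup N).map N.subtype : Subgroup G) : Set G) with hK
    have hidx : N.index = N.relIndex K := by
      rw [← relIndex_top_right N, ← P.normalizer_sup_eq_top, relIndex_sup_right]
    have hPG : ∃ Q : Sylow 7 G, (Q : Subgroup G) = (P : Subgroup N).map N.subtype := by
      obtain ⟨n, hn⟩ := IsPGroup.iff_card.1 P.2
      have hcard : Nat.card ((P : Subgroup N).map N.subtype) = 7 ^ n := by
        rw [card_map_of_injective N.subtype_injective, hn]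
      have hn1 : n = 1 := by
        have h1 := P.dvd_card_of_dvd_card h7
        rw [hn] at h1
        have h2 : 7 ^ n ∣ 7 * 1728 := by
          rw [show 7 * 1728 = 12096 by norm_num, ← h, ← hcard]; exact card_subgroup_dvd_card _
        rcases n with _ | _ | n
        · norm_num at h1
        · rfl
        · exfalso
          have : 7 * 7 ∣ 7 * 1728 := (Dvd.intro (7 ^ n) (by ring)).trans h2
          norm_num at this
      subst hn1
      refine ⟨Sylow.ofCard _ (by
        rw [hcard, h, show 12096 = 7 ^ 1 * 1728 by norm_num,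
          Classif.Order4032.factorization_pow_mul (by norm_num) (by norm_num)]), Sylow.coe_ofCard _ _⟩
    obtain ⟨Q, hQ⟩ := hPG
    have hK42 : Nat.card K = 42 := by rw [hK, ← hQ]; exact card_normalizer_seven h h14 h21 Q
    have hd : N.index ∣ 42 := hidx ▸ hK42 ▸ index_dvd_card _
    exact ((by norm_num : Nat.Prime 7).coprime_iff_not_dvd.2 hNidx7).symm.dvd_of_dvd_mul_left
      (show N.index ∣ 7 * 6 from hd)
  have hNle := Nat.le_of_dvd (by norm_num) hNdvd
  have hmulN := N.card_mul_index
  rw [h] at hmulN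
  have hcard : Nat.card N = 2016 ∨ Nat.card N = 4032 ∨ Nat.card N = 6048 ∨ Nat.card N = 12096 := by
    interval_cases hi : N.index <;> omega
  haveI : Nontrivial N := (nontrivial_iff_ne_bot N).2 hN0
  haveI hsimple : IsSimpleGroup N := by
    refine ⟨fun K hK => ?_⟩
    by_contra hne
    push Not at hne
    obtain ⟨hK0, hK1⟩ := hne
    by_cases hK7 : 7 ∣ Nat.card K
    · -- `K` contains all elements of order 7
      have hall : ∀ z : N, orderOf z = 7 → z ∈ K := by
        intro z hz
        obtain ⟨k, hk⟩ : ∃ k, Nat.card N = 7 ^ 1 * k ∧ ¬ 7 ∣ k := by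
          refine ⟨Nat.card N / 7, ?_, ?_⟩ <;> rcases hcard with e | e | e | e <;> rw [e] <;> norm_num
        have hind : ¬ 7 ∣ K.index := by
          intro e
          have := mul_dvd_mul hK7 e
          rw [K.card_mul_index, hk.1, pow_one] at this
          exact hk.2 (Nat.dvd_of_mul_dvd_mul_left (by norm_num) this)
        rw [← QuotientGroup.eq_one_iff, ← orderOf_eq_one_iff]
        have h1 : orderOf ((z : N) : N ⧸ K) ∣ 7 := hz ▸ orderOf_map_dvd (QuotientGroup.mk' K) z
        have h2 : orderOf ((z : N) : N ⧸ K) ∣ K.index := index_eq_card K ▸ orderOf_dvd_natCard _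
        rcases (Nat.dvd_prime (by norm_num : Nat.Prime 7)).1 h1 with e | e
        · exact e
        · exact absurd (e ▸ h2) hind
      set C := normalClosure {g : G | orderOf g = 7} with hC
      have hCK : C ≤ (K.map N.subtype) := by
        refine (closure_le _).2 ?_
        intro g hg
        rw [Group.mem_conjugatesOfSet_iff] at hg
        obtain ⟨a, ha, hc⟩ := hg
        obtain ⟨c, rfl⟩ := isConj_iff.1 hc
        have ho : orderOf (c * a * c⁻¹) = 7 := by
          rw [← MulAut.conj_apply, MulEquiv.orderOf_eq]; exact ha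
        have hmem : c * a * c⁻¹ ∈ N := by
          rw [← QuotientGroup.eq_one_iff, ← orderOf_eq_one_iff]
          have h1 : orderOf ((c * a * c⁻¹ : G) : G ⧸ N) ∣ 7 := ho ▸ orderOf_map_dvd (QuotientGroup.mk' N) _
          have h2 : orderOf ((c * a * c⁻¹ : G) : G ⧸ N) ∣ 6 :=
            (index_eq_card N ▸ orderOf_dvd_natCard _ : _ ∣ N.index).trans hNdvd
          exact Nat.dvd_one.1 (Nat.dvd_gcd h1 h2)
        exact ⟨⟨_, hmem⟩, hall _ (by rw [← orderOf_coe]; exact ho), rfl⟩
      have hC0 : C ≠ ⊥ := fun e => by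
        obtain ⟨x, hx⟩ := exists_prime_orderOf_dvd_card' (G := G) 7 (by rw [h]; norm_num)
        have : x ∈ C := subset_normalClosure hx
        rw [e, mem_bot] at this
        rw [this, orderOf_one] at hx
        norm_num at hx
      have hCN := hNmin C normalClosure_normal hC0 (hCK.trans (map_subtype_le K))
      refine hK1 (eq_top_iff.2 fun z _ => ?_)
      have hz : (z : G) ∈ K.map N.subtype := hCK (hCN.symm ▸ z.2)
      obtain ⟨w, hw, e⟩ := hz
      exact Subtype.ext e ▸ hw
    · -- otherwise `K` is a 2-group, and so is its normal closure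
      haveI := hK
      haveI : Fact (Nat.Prime 3) := ⟨Nat.prime_three⟩
      haveI : Fact (Nat.Prime 2) := ⟨Nat.prime_two⟩
      have h3 : ¬ 3 ∣ Nat.card K := by
        intro h3
        obtain ⟨R⟩ := (inferInstance : Nonempty (Sylow 3 K))
        obtain ⟨n, hn⟩ := IsPGroup.iff_card.1 R.2
        set L := normalizer (((R : Subgroup K).map K.subtype : Subgroup N) : Set N) with hL
        have h7' : 7 ∣ K.index := by
          rcases (Nat.Prime.dvd_mul (by norm_num : Nat.Prime 7)).1 (K.card_mul_index ▸ h7) with e | e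
          exacts [absurd e hK7, e]
        have h7L : 7 ∣ Nat.card L := by
          rw [← relIndex_top_right K, ← R.normalizer_sup_eq_top, relIndex_sup_right] at h7'
          exact h7'.trans (index_dvd_card _)
        obtain ⟨y, hy⟩ := exists_prime_orderOf_dvd_card' (G := L) 7 h7L
        have hy' : orderOf ((y : N) : G) = 7 := by rw [orderOf_coe, orderOf_coe, hy]
        set R' := ((R : Subgroup K).map K.subtype).map N.subtype with hR'
        have hcard : Nat.card R' = 3 ^ n := by
          rw [hR', card_map_of_injective N.subtype_injective, card_map_of_injective K.subtype_injective, hn]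
        have hn1 : 1 ≤ n := by
          by_contra hn0
          have := R.dvd_card_of_dvd_card h3
          rw [hn, show n = 0 by omega] at this
          norm_num at this
        have hn3 : n ≤ 3 := by
          have hd : 3 ^ n ∣ 7 * 2 ^ 6 * 3 ^ 3 := by
            rw [show 7 * 2 ^ 6 * 3 ^ 3 = 12096 by norm_num, ← h, ← hcard]
            exact card_subgroup_dvd_card _
          exact (Nat.pow_dvd_pow_iff_le_right (by norm_num)).1
            ((Nat.Coprime.pow_left n (by norm_num : Nat.Coprime 3 (7 * 2 ^ 6))).dvd_of_dvd_mul_left hd)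
        have hyR : ((y : N) : G) ∈ normalizer (R' : Set G) :=
          le_normalizer_map N.subtype ⟨y.1, y.2, rfl⟩
        have := modEq_one h h14 h21 hy' hyR (by
          rw [hcard]; intro e; exact absurd ((by norm_num : Nat.Prime 7).dvd_of_dvd_pow e) (by norm_num))
        rw [hcard] at this
        interval_cases n <;> norm_num at this
      have hKd : Nat.card K ∣ 2 ^ 6 := by
        have h1 : Nat.card K ∣ 7 * (3 ^ 3 * 2 ^ 6) := by
          rw [show 7 * (3 ^ 3 * 2 ^ 6) = 12096 by norm_num, ← h]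
          exact (card_subgroup_dvd_card K).trans (card_subgroup_dvd_card N)
        exact (Nat.Coprime.pow_right 3 (Nat.prime_three.coprime_iff_not_dvd.2 h3).symm).dvd_of_dvd_mul_left
          (((by norm_num : Nat.Prime 7).coprime_iff_not_dvd.2 hK7).symm.dvd_of_dvd_mul_left h1)
      obtain ⟨k, -, hk⟩ := (Nat.dvd_prime_pow Nat.prime_two).1 hKd
      have hK2 : IsPGroup 2 K := IsPGroup.of_card hk
      obtain ⟨Q, hQ⟩ := hK2.exists_le_sylow
      set C := normalClosure ((K.map N.subtype : Subgroup G) : Set G) with hC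
      have hCQ : C ≤ (Q : Subgroup N).map N.subtype := by
        refine (closure_le _).2 ?_
        intro g hg
        rw [Group.mem_conjugatesOfSet_iff] at hg
        obtain ⟨a, ha, hc⟩ := hg
        obtain ⟨c, rfl⟩ := isConj_iff.1 hc
        obtain ⟨w, hw, rfl⟩ := ha
        -- the conjugate of `K` by `c` is a normal 2-subgroup of `N`
        set σ : N ≃* N := MulAut.conjNormal c with hσ
        have hn' : (K.map σ.toMonoidHom).Normal := hK.map σ.toMonoidHom σ.surjective
        obtain ⟨Q', hQ'⟩ := (hK2.map σ.toMonoidHom).exists_le_sylow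
        obtain ⟨m, hm⟩ := MulAction.exists_smul_eq N Q' Q
        refine ⟨σ w, ?_, ?_⟩
        · rw [← hm, Sylow.coe_subgroup_smul, SetLike.mem_coe, mem_pointwise_smul_iff_inv_smul_mem]
          refine hQ' ?_
          have := hn'.conj_mem (σ w) ⟨w, hw, rfl⟩ m⁻¹
          simpa [MulAut.smul_def] using this
        · simp [hσ, MulAut.conjNormal_apply]
      have hC7 : ¬ 7 ∣ Nat.card C := by
        intro e
        obtain ⟨j, hj⟩ := IsPGroup.iff_card.1 Q.2
        have := e.trans (card_dvd_of_le hCQ)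
        rw [card_map_of_injective N.subtype_injective, hj] at this
        exact absurd ((by norm_num : Nat.Prime 7).dvd_of_dvd_pow this) (by norm_num)
      haveI : C.Normal := normalClosure_normal
      have hCb := normal_eq_bot h h14 h21 C hC7
      refine hK0 ((map_eq_bot_iff_of_injective K N.subtype_injective).1 (eq_bot_iff.2 fun g hg => ?_))
      have : g ∈ C := subset_normalClosure hg
      rwa [hCb] at this
  refine ⟨N, hN, hsimple, ?_, fun g => by rw [← orderOf_coe]; exact h9 _,
    fun g => by rw [← orderOf_coe]; exact h14 _, fun g => by rw [← orderOf_coe]; exact h21 _⟩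
  rcases hcard with e | e | e | e
  · exact absurd e Classif.SmallOrderKills4.card_ne_2016
  · exact absurd e Classif.Order4032.card_ne_4032
  · exact e
  · exact (NotSimple.false_of_simple e (fun g => by rw [← orderOf_coe]; exact h14 _)
      (fun g => by rw [← orderOf_coe]; exact h21 _)).elim

end Local

/-- The automorphism group of U₃(3) has order 12096. -/
theorem card_mulAut : Nat.card (MulAut U33.G) = 12096 := by
  haveI : Fact (Nat.Prime 3) := ⟨Nat.prime_three⟩
  have e : Cfsg.PSU 3 U33.K9 3 ≃* U33.G :=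
    (QuotientGroup.quotientMulEquivOfEq ChevStructure.G2Two.center_bot).trans QuotientGroup.quotientBot
  have h := AutPSU.card_mulAut_PSU (F := U33.K9) (q := 3) (n := 3) U33.card_k9 le_rfl (by norm_num)
    (p := 3) (f := 1) (pow_one 3).symm
  rw [Nat.card_congr (MulAut.congr e).toEquiv, Nat.card_congr e.toEquiv, U33.card_G] at h
  rw [h]
  norm_num

/-- A group of order 12096 without elements of order 9, 14, 21 is `Aut U₃(3)`. -/
theorem nonempty_mulEquiv (hU : Hyp U33.G) (h : Nat.card G = 12096) (h9 : ∀ g : G, orderOf g ≠ 9)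
    (h14 : ∀ g : G, orderOf g ≠ 14) (h21 : ∀ g : G, orderOf g ≠ 21) :
    Nonempty (G ≃* MulAut U33.G) := by
  obtain ⟨N, hN, hT⟩ := exists_hyp h h14 h21 h9
  haveI := hN
  haveI := hT.simple
  obtain ⟨e⟩ := hT.nonempty_mulEquiv hU
  let φ : G →* MulAut N := MulAut.conjNormal
  have hker : φ.ker = ⊥ := by
    refine normal_eq_bot h h14 h21 _ fun h7 => ?_
    haveI : Fact (Nat.Prime 7) := ⟨by norm_num⟩
    obtain ⟨⟨z, hz⟩, hzo⟩ := exists_prime_orderOf_dvd_card' (G := φ.ker) 7 h7
    rw [orderOf_mk] at hzo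
    have hle : N ≤ centralizer ({z} : Set G) := fun w hw => by
      rw [mem_centralizer_singleton_iff]
      have := congrArg Subtype.val (DFunLike.congr_fun (MonoidHom.mem_ker.1 hz) ⟨w, hw⟩)
      simp only [φ, MulAut.conjNormal_apply, MulAut.one_apply] at this
      exact (mul_inv_eq_iff_eq_mul.1 this).symm
    have := card_dvd_of_le hle
    rw [card_centralizer_seven h h14 h21 hzo, hT.card] at this
    norm_num at this
  let ψ : G →* MulAut U33.G := (MulAut.congr e).toMonoidHom.comp φ
  have hψ : Function.Injective ψ :=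
    (MulAut.congr e).injective.comp ((MonoidHom.ker_eq_bot_iff φ).1 hker)
  exact ⟨MulEquiv.ofBijective ψ (hψ.bijective_of_nat_card_le (by rw [h, card_mulAut]))⟩

end Cfsg.Agent.Lib.U33Recog.Order12096
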