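import Cfsg.Agent.Lib.U33Recog.Final112

/-!
The action on the 28 Sylow 3-subgroups: counting, parity and central involutions.
-/

set_option autoImplicit false

namespace Cfsg.Agent.Lib.U33Recog

open Subgroup
open Cfsg.Agent.Lib.SmallGroups

variable {T : Type*} [Group T] [Finite T]

theorem smul_eq_iff_mem {P : Sylow 3 T} {x : T} (hx : x ∈ (P : Subgroup T)) {Q : Sylow 3 T} :
    x • Q = Q ↔ x ∈ (Q : Subgroup T) := by
  haveI := three_prime
  rw [← mem_Nm_sylow]
  refine ⟨fun h => ?_, fun h => Subgroup.le_normalizer h⟩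
  have : x ∈ (P : Subgroup T) ⊓ (Q : Subgroup T) := P.2.inf_normalizer_sylow Q ▸ ⟨hx, h⟩
  exact this.2

theorem inf_smul {P : Sylow 3 T} {g : T} (hg : g ∈ Nm (P : Subgroup T)) (Q : Sylow 3 T) :
    (P : Subgroup T) ⊓ ((g • Q : Sylow 3 T) : Subgroup T) = cjg g ((P : Subgroup T) ⊓ Q) := by
  have e : cjg g (P : Subgroup T) = P := by
    rw [cjg, ← sylow_le_iff_conj, mem_Nm_sylow.1 hg]
  rw [sylow_le_iff_conj, cjg, Subgroup.map_inf _ _ _ (MulAut.conj g).injective]
  conv_lhs => rw [← e]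

theorem cjg_of_commute {D : Subgroup T} {u : T} (h : ∀ y ∈ D, u * y = y * u) : cjg u D = D := by
  ext y
  rw [cjg, mem_map_conj]
  constructor
  · intro hy
    have e := h _ hy
    have e2 : u * (u⁻¹ * y * u) = y * u := by group
    rw [e2] at e
    rw [← mul_right_cancel e] at hy
    exact hy
  · intro hy
    rwa [mul_assoc, ← h y hy, inv_mul_cancel_left]

/-- a product of a fixed element of order dividing 3 along a 2-element is trivial -/
theorem eq_one_of_fixed {u w c : T} {m : ℕ} (hu : u ^ (2 ^ m) = 1) (h : u * w * u⁻¹ = w * c)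
    (hc : u * c = c * u) (h3 : c ^ 3 = 1) : c = 1 := by
  have key : ∀ k : ℕ, u ^ k * w * (u ^ k)⁻¹ = w * c ^ k := by
    intro k
    induction k with
    | zero => simp
    | succ k ih =>
      have hc' : u * c ^ k = c ^ k * u := ((show Commute u c from hc).pow_right k).eq
      calc u ^ (k + 1) * w * (u ^ (k + 1))⁻¹ = u * (u ^ k * w * (u ^ k)⁻¹) * u⁻¹ := by
            rw [pow_succ']; group
        _ = u * w * (c ^ k * u⁻¹) := by rw [ih]; group
        _ = u * w * (u⁻¹ * c ^ k) := by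
            rw [show c ^ k * u⁻¹ = u⁻¹ * c ^ k from ((show Commute u (c ^ k) from hc').symm.inv_right).eq]
        _ = w * c * c ^ k := by rw [← mul_assoc, h]
        _ = w * c ^ (k + 1) := by rw [pow_succ', mul_assoc]
  have := key (2 ^ m)
  rw [hu, one_mul, inv_one, mul_one] at this
  exact pow_eq_one_iff_of_coprime (Nat.Coprime.pow_left m (by norm_num : Nat.Coprime 2 3))
    (left_eq_mul.1 this) h3
where
  pow_eq_one_iff_of_coprime {a b : ℕ} (hab : Nat.Coprime a b) {x : T} (ha : x ^ a = 1) (hb : x ^ b = 1) :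
      x = 1 := by
    have := Nat.Coprime.gcd_eq_one hab
    have h : x ^ Nat.gcd a b = 1 := pow_gcd_eq_one.2 ⟨ha, hb⟩
    simpa [this] using h

namespace Hyp

variable (hT : Hyp T) (h28 : Nat.card (Sylow 3 T) = 28)
include hT h28

theorem card_Nm_216 (P : Sylow 3 T) : Nat.card (Nm (P : Subgroup T)) = 216 := by
  haveI := three_prime
  have h := Sylow.card_normalizer_mul P
  rw [h28, hT.card] at h
  change Nat.card (Nm (P : Subgroup T)) * _ = _ at h
  omega

theorem faithful {u : T} (h : ∀ Q : Sylow 3 T, u • Q = Q) : u = 1 := by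
  haveI := hT.simple
  haveI := three_prime
  let N := (MulAction.toPermHom T (Sylow 3 T)).ker
  have hu : u ∈ N := MonoidHom.mem_ker.2 (Equiv.ext h)
  rcases IsSimpleGroup.eq_bot_or_eq_top_of_normal N inferInstance with e | e
  · rw [e] at hu; exact Subgroup.mem_bot.1 hu
  · exfalso
    have h1 : ∀ g : T, ∀ Q : Sylow 3 T, g • Q = Q := fun g Q => by
      have hg : g ∈ N := e ▸ Subgroup.mem_top g
      exact congrArg (fun f : Equiv.Perm (Sylow 3 T) => f Q) (MonoidHom.mem_ker.1 hg)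
    have : Nat.card (Sylow 3 T) = 1 := Nat.card_eq_one_iff_unique.2 ⟨⟨fun a b => by
      obtain ⟨g, rfl⟩ := MulAction.exists_smul_eq T a b
      exact (h1 g a).symm⟩, inferInstance⟩
    omega

theorem fixed_mod_four {u : T} (hu : u * u = 1) :
    Nat.card {Q : Sylow 3 T // u • Q ≠ Q} % 4 = 0 := by
  classical
  haveI := hT.simple
  haveI := Fintype.ofFinite (Sylow 3 T)
  let σ : Equiv.Perm (Sylow 3 T) := MulAction.toPermHom T (Sylow 3 T) u
  have hsign : Equiv.Perm.sign σ = 1 := by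
    let f : T →* ℤˣ := Equiv.Perm.sign.comp (MulAction.toPermHom T (Sylow 3 T))
    have : commutator T ≤ f.ker := Abelianization.commutator_subset_ker f
    rw [Sylow.commutator_eq_top hT.not_comm] at this
    exact MonoidHom.mem_ker.1 (this (Subgroup.mem_top u))
  have hmoved : Nat.card {Q : Sylow 3 T // u • Q ≠ Q} = σ.support.card := by
    rw [Nat.card_eq_fintype_card, Fintype.card_subtype]
    congr 1
  rw [hmoved]
  by_cases h1 : σ = 1
  · simp [h1]
  haveI : Fact (Nat.Prime 2) := ⟨Nat.prime_two⟩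
  have ho : orderOf σ = 2 := orderOf_eq_prime (by rw [← map_pow, sq, hu, map_one]) h1
  obtain ⟨k, hk⟩ := Equiv.Perm.cycleType_prime_order (σ := σ) (by rw [ho]; exact Nat.prime_two)
  rw [Equiv.Perm.sign_of_cycleType, hk, Multiset.sum_replicate, Multiset.card_replicate, ho,
    smul_eq_mul] at hsign
  rw [← Equiv.Perm.sum_cycleType, hk, Multiset.sum_replicate, ho, smul_eq_mul]
  have he : Even ((k + 1) * 2 + (k + 1)) := by
    by_contra hodd
    rw [Nat.not_even_iff_odd] at hodd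
    rw [hodd.neg_one_pow] at hsign
    exact absurd hsign (by decide)
  rw [Nat.even_iff] at he
  omega

theorem fix_of_commute {P Q : Sylow 3 T} {u x : T} (hu : u * u = 1)
    (huP : ∀ y ∈ (P : Subgroup T), u * y = y * u) (hx : x ∈ (P : Subgroup T)) (h : u • Q = x • Q) :
    u • Q = Q := by
  have h2 : x * x ∈ (Q : Subgroup T) := by
    refine (smul_eq_iff_mem (mul_mem hx hx)).1 ?_
    calc (x * x) • Q = x • u • Q := by rw [mul_smul, h]
      _ = u • x • Q := by rw [← mul_smul, ← huP x hx, mul_smul]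
      _ = u • u • Q := by rw [h]
      _ = Q := by rw [← mul_smul, hu, one_smul]
  have hx' : x ∈ (Q : Subgroup T) := by
    have h3 := hT.pow_three_of_mem hx
    have e : x = x * x * (x * x) := by
      rw [show x * x * (x * x) = x ^ 3 * x by simp [pow_succ, mul_assoc], h3, one_mul]
    rw [e]; exact mul_mem h2 h2
  rw [h, (smul_eq_iff_mem hx).2 hx']

theorem nine_dvd (P : Sylow 3 T) (W : Sylow 3 T → Prop)
    (hinv : ∀ x ∈ (P : Subgroup T), ∀ Q, W Q → W (x • Q))
    (hsm : ∀ Q, W Q → Nat.card ↥((P : Subgroup T) ⊓ Q) ≤ 3) :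
    9 ∣ Nat.card {Q // W Q} := by
  classical
  haveI := three_prime
  letI : MulAction ↥(P : Subgroup T) {Q // W Q} :=
    { smul := fun x Q => ⟨(x : T) • Q.1, hinv x.1 x.2 Q.1 Q.2⟩
      one_smul := fun Q => Subtype.ext (one_smul T Q.1)
      mul_smul := fun a b Q => Subtype.ext (mul_smul (a : T) b Q.1) }
  haveI := Fintype.ofFinite (MulAction.orbitRel.Quotient ↥(P : Subgroup T) {Q // W Q})
  rw [Nat.card_congr (MulAction.selfEquivSigmaOrbitsQuotientStabilizer ↥(P : Subgroup T) {Q // W Q}),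
    Nat.card_sigma]
  refine Finset.dvd_sum fun ω _ => ?_
  have hst : MulAction.stabilizer ↥(P : Subgroup T) ω.out =
      ((ω.out.1 : Sylow 3 T) : Subgroup T).subgroupOf (P : Subgroup T) := by
    ext x
    rw [MulAction.mem_stabilizer_iff, Subgroup.mem_subgroupOf, ← smul_eq_iff_mem x.2]
    exact ⟨fun e => congrArg Subtype.val e, fun e => Subtype.ext e⟩
  have hmul := card_inf_mul_relIndex (P : Subgroup T) (ω.out.1 : Subgroup T)
  rw [← Subgroup.index_eq_card]
  rw [hst]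
  change 9 ∣ ((ω.out.1 : Sylow 3 T) : Subgroup T).relIndex (P : Subgroup T)
  rw [hT.card_sylow] at hmul
  have h3 := hsm _ ω.out.2
  set r := ((ω.out.1 : Sylow 3 T) : Subgroup T).relIndex (P : Subgroup T)
  obtain ⟨j, hj, hr⟩ := (Nat.dvd_prime_pow Nat.prime_three (m := 3)).1
    (by norm_num; exact ⟨_, (hmul ▸ (mul_comm _ r) : 27 = r * _)⟩ : r ∣ 3 ^ 3)
  rw [hr] at hmul ⊢
  rcases (show j ≤ 1 ∨ 2 ≤ j by omega) with hj' | hj'
  · exfalso
    have : 3 ^ j ≤ 3 := (Nat.pow_le_pow_right (by norm_num) hj').trans (by norm_num)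
    have := Nat.mul_le_mul h3 this
    omega
  · exact (show 9 = 3 ^ 2 by norm_num) ▸ Nat.pow_dvd_pow 3 hj'

/-- The outside of the centre. -/
theorem card_outside {P : Sylow 3 T} (hna : ¬ Ab (P : Subgroup T)) :
    Nat.card {y : T // y ∈ (P : Subgroup T) ∧ y ∉ Zs (P : Subgroup T)} = 24 := by
  classical
  haveI := Fintype.ofFinite T
  have h1 := hT.card_sylow P
  have h2 := hT.card_Zs_mul hna
  rw [Nat.card_eq_fintype_card, Fintype.card_subtype] at *
  have hsub : (Finset.univ.filter fun y => y ∈ Zs (P : Subgroup T)) ⊆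
      Finset.univ.filter fun y => y ∈ (P : Subgroup T) := fun y hy => by
    simp only [Finset.mem_filter, Finset.mem_univ, true_and] at hy ⊢
    exact hy.1
  have e : (Finset.univ.filter fun y => y ∈ (P : Subgroup T) ∧ y ∉ Zs (P : Subgroup T)) =
      (Finset.univ.filter fun y => y ∈ (P : Subgroup T)) \ Finset.univ.filter fun y => y ∈ Zs (P : Subgroup T) := by
    ext y; simp
  rw [e, Finset.card_sdiff_of_subset hsub, h1, h2]

/-- A set of 18 elements invariant under the normalizer gives an involution centralising `P`. -/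
theorem exists_central_involution {P : Sylow 3 T} (hna : ¬ Ab (P : Subgroup T)) (B : T → Prop)
    (hBP : ∀ y, B y → y ∈ (P : Subgroup T) ∧ y ∉ Zs (P : Subgroup T))
    (hBz : ∀ y, B y → ∀ z ∈ Zs (P : Subgroup T), B (y * z))
    (hBi : ∀ y, B y → B y⁻¹)
    (hBN : ∀ y, B y → ∀ g ∈ Nm (P : Subgroup T), B (g * y * g⁻¹))
    (hB : Nat.card {y // B y} = 18) :
    ∃ u : T, u * u = 1 ∧ u ≠ 1 ∧ u ∈ Nm (P : Subgroup T) ∧ ∀ y ∈ (P : Subgroup T), u * y = y * u := by
  classical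
  haveI := three_prime
  haveI := Fintype.ofFinite T
  set Z := Zs (P : Subgroup T)
  have hZ3 := hT.card_Zs_mul hna
  obtain ⟨y, ⟨hyP, hyZ⟩, hyB⟩ : ∃ y, (y ∈ (P : Subgroup T) ∧ y ∉ Z) ∧ ¬ B y := by
    by_contra hc
    push Not at hc
    have := hT.card_outside h28 hna
    rw [Nat.card_congr (Equiv.subtypeEquivRight fun y => ⟨fun h => hc y h, hBP y⟩), hB] at this
    omega
  obtain ⟨b, hbB⟩ : ∃ b, B b := by
    by_contra hc
    push Not at hc
    haveI : IsEmpty {y // B y} := ⟨fun y => hc y.1 y.2⟩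
    rw [Nat.card_of_isEmpty] at hB; omega
  obtain ⟨hbP, hbZ⟩ := hBP b hbB
  have hzc : ∀ z ∈ Z, ∀ w ∈ (P : Subgroup T), w * z = z * w := fun z hz w hw => hz.2 w hw
  -- the non-B elements outside the centre
  let A : Set T := {w | ∃ z ∈ Z, w = y * z ∨ w = y⁻¹ * z}
  have hy3 := hT.pow_three_of_mem hyP
  have hA : ∀ w ∈ A, w ∈ (P : Subgroup T) ∧ w ∉ Z ∧ ¬ B w := by
    rintro w ⟨z, hz, rfl | rfl⟩
    · refine ⟨mul_mem hyP hz.1, fun h => hyZ ?_, fun h => hyB ?_⟩
      · simpa using mul_mem h (inv_mem hz)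
      · simpa using hBz _ h _ (inv_mem hz)
    · refine ⟨mul_mem (inv_mem hyP) hz.1, fun h => hyZ ?_, fun h => hyB ?_⟩
      · simpa using inv_mem (mul_mem h (inv_mem hz))
      · simpa using hBi _ (hBz _ h _ (inv_mem hz))
  have hAc : ∀ w ∈ (P : Subgroup T), w ∉ Z → ¬ B w → w ∈ A := by
    intro w hwP hwZ hwB
    by_contra hwA
    let f : {v // B v} ⊕ (Z × Bool) → {v : T // v ∈ (P : Subgroup T) ∧ v ∉ Z ∧ v ≠ w} := fun s =>
      match s with
      | Sum.inl v => ⟨v.1, (hBP _ v.2).1, (hBP _ v.2).2, fun e => hwB (e ▸ v.2)⟩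
      | Sum.inr (z, true) => ⟨y * z.1, (hA _ ⟨z.1, z.2, Or.inl rfl⟩).1, (hA _ ⟨z.1, z.2, Or.inl rfl⟩).2.1,
          fun e => hwA ⟨z.1, z.2, Or.inl e.symm⟩⟩
      | Sum.inr (z, false) => ⟨y⁻¹ * z.1, (hA _ ⟨z.1, z.2, Or.inr rfl⟩).1, (hA _ ⟨z.1, z.2, Or.inr rfl⟩).2.1,
          fun e => hwA ⟨z.1, z.2, Or.inr e.symm⟩⟩
    have hdiff : ∀ z z' : Z, y * z.1 ≠ y⁻¹ * z'.1 := fun z z' e => hyZ (by
      have e2 : y * y = z'.1 * z.1⁻¹ := by
        have hz := hzc z.1⁻¹ (inv_mem z.2) y hyP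
        calc y * y = y * (y * z.1) * z.1⁻¹ := by group
          _ = y * (y⁻¹ * z'.1) * z.1⁻¹ := by rw [e]
          _ = _ := by group
      have hyy : y * y ∈ Z := e2 ▸ mul_mem z'.2 (inv_mem z.2)
      have e3 : y = y * y * (y * y) := by
        rw [show y * y * (y * y) = y ^ 3 * y by simp [pow_succ, mul_assoc], hy3, one_mul]
      rw [e3]; exact mul_mem hyy hyy)
    have hf : Function.Injective f := by
      intro s s' e
      have e' := congrArg Subtype.val e
      rcases s with ⟨v, hv⟩ | ⟨z, _ | _⟩ <;> rcases s' with ⟨v', hv'⟩ | ⟨z', _ | _⟩ <;>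
        simp only [f] at e'
      · subst e'; rfl
      · exact absurd (e' ▸ hv) (hA _ ⟨z'.1, z'.2, Or.inr rfl⟩).2.2
      · exact absurd (e' ▸ hv) (hA _ ⟨z'.1, z'.2, Or.inl rfl⟩).2.2
      · exact absurd (e' ▸ hv') (hA _ ⟨z.1, z.2, Or.inr rfl⟩).2.2
      · rw [Subtype.ext (mul_left_cancel e')]
      · exact absurd e'.symm (hdiff z' z)
      · exact absurd (e' ▸ hv') (hA _ ⟨z.1, z.2, Or.inl rfl⟩).2.2
      · exact absurd e' (hdiff z z')
      · rw [Subtype.ext (mul_left_cancel e')]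
    have h := Nat.card_le_card_of_injective f hf
    have hlt : Nat.card {v : T // v ∈ (P : Subgroup T) ∧ v ∉ Z ∧ v ≠ w} < 24 := by
      rw [← hT.card_outside h28 hna]
      simp only [Nat.card_eq_fintype_card]
      exact Fintype.card_lt_of_injective_of_notMem (b := ⟨w, hwP, hwZ⟩)
        (fun v : {v : T // v ∈ (P : Subgroup T) ∧ v ∉ Z ∧ v ≠ w} => (⟨v.1, v.2.1, v.2.2.1⟩ : {v : T // v ∈ (P : Subgroup T) ∧ v ∉ Z}))
        (fun a c e => Subtype.ext (congrArg (fun s : {v : T // v ∈ (P : Subgroup T) ∧ v ∉ Z} => s.1) e))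
        (by rintro ⟨v, hv⟩; exact v.2.2.2 (congrArg Subtype.val hv))
    rw [Nat.card_sum, Nat.card_prod, hB, hZ3, Nat.card_eq_fintype_card (α := Bool), Fintype.card_bool] at h
    omega
  -- the subgroup generated by y and the centre
  let A0 : Subgroup T :=
    { carrier := {w | ∃ j : ℕ, ∃ z ∈ Z, w = y ^ j * z}
      one_mem' := ⟨0, 1, one_mem _, by simp⟩
      mul_mem' := by
        rintro _ _ ⟨i, z, hz, rfl⟩ ⟨j, z', hz', rfl⟩
        exact ⟨i + j, z * z', mul_mem hz hz', by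
          rw [pow_add, mul_assoc, ← mul_assoc z, ← hzc z hz _ (pow_mem hyP j)]; group⟩
      inv_mem' := by
        rintro _ ⟨i, z, hz, rfl⟩
        refine ⟨2 * i, z⁻¹, inv_mem hz, ?_⟩
        have e : (y ^ i)⁻¹ = y ^ (2 * i) := inv_eq_of_mul_eq_one_right (by
          rw [← pow_add, show i + 2 * i = 3 * i by ring, pow_mul, hy3, one_pow])
        rw [mul_inv_rev, ← hzc _ (inv_mem hz) _ (inv_mem (pow_mem hyP i)), e] }
  have hA0 : ∀ w, w ∈ A0 ↔ ∃ j : ℕ, ∃ z ∈ Z, w = y ^ j * z := fun w => Iff.rfl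
  have hA0P : A0 ≤ P := by
    rintro w ⟨j, z, hz, rfl⟩; exact mul_mem (pow_mem hyP j) hz.1
  have hbA0 : b ∉ A0 := by
    rintro ⟨j, z, hz, e⟩
    have : j % 3 = 0 ∨ j % 3 = 1 ∨ j % 3 = 2 := by omega
    rw [← Nat.div_add_mod j 3, pow_add, pow_mul, hy3, one_pow, one_mul] at e
    rcases this with h | h | h <;> rw [h] at e
    · rw [pow_zero, one_mul] at e; exact hbZ (e ▸ hz)
    · rw [pow_one] at e; exact (hA b ⟨z, hz, Or.inl e⟩).2.2 hbB
    · rw [show y ^ 2 = y⁻¹ from (eq_inv_of_mul_eq_one_left (by rw [← pow_succ]; exact hy3))] at e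
      exact (hA b ⟨z, hz, Or.inr e⟩).2.2 hbB
  have hA9 : Nat.card A0 = 9 ∧ A0 ⊔ zpowers b = (P : Subgroup T) := by
    have h1 := Subgroup.card_dvd_of_le hA0P
    have hne : A0 ⊔ zpowers b ≤ (P : Subgroup T) := sup_le hA0P (zpowers_le.2 hbP)
    have h2 := Subgroup.card_dvd_of_le hne
    have hlt : Nat.card A0 < Nat.card ↥(A0 ⊔ zpowers b) := lt_of_le_of_ne (Subgroup.card_le_of_le le_sup_left)
      fun e => hbA0 ((Subgroup.eq_of_le_of_card_ge le_sup_left e.ge).symm ▸ Subgroup.mem_sup_right (mem_zpowers b))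
    have h9 : 3 < Nat.card A0 := by
      have hle : Z ≤ A0 := fun z hz => ⟨0, z, hz, by simp⟩
      rcases lt_or_eq_of_le (Subgroup.card_le_of_le hle) with h | h
      · rw [hZ3] at h; exact h
      · exact absurd ((Subgroup.eq_of_le_of_card_ge hle h.ge).symm ▸
          (⟨1, 1, one_mem _, by simp⟩ : y ∈ A0)) hyZ
    rw [hT.card_sylow] at h1 h2
    have d1 := Nat.mem_divisors.2 ⟨h1, by norm_num⟩
    have d2 := Nat.mem_divisors.2 ⟨h2, by norm_num⟩
    rw [show Nat.divisors 27 = {1, 3, 9, 27} from by decide] at d1 d2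
    simp only [Finset.mem_insert, Finset.mem_singleton] at d1 d2
    exact ⟨by omega, Subgroup.eq_of_le_of_card_ge hne (by rw [hT.card_sylow]; omega)⟩
  have hA0n : (P : Subgroup T) ≤ Nm A0 := sylow_le_Nm hA0P (by rw [hA9.1, hT.card_sylow])
  have hgZ : ∀ g ∈ Nm (P : Subgroup T), ∀ z, z ∈ Z → g * z * g⁻¹ ∈ Z := fun g hg z hz =>
    conj_mem (hT.Zs_le_Nm hg) hz
  have hgA : ∀ g ∈ Nm (P : Subgroup T), g * y * g⁻¹ ∈ A := fun g hg => hAc _ (conj_mem hg hyP)
    (fun h => hyZ (by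
      have := hgZ g⁻¹ (inv_mem hg) _ h
      simpa [mul_assoc] using this))
    (fun h => hyB (by
      have := hBN _ h g⁻¹ (inv_mem hg)
      simpa [mul_assoc] using this))
  have hgA0 : ∀ g ∈ Nm (P : Subgroup T), g ∈ Nm A0 := fun g hg => mem_Nm_of_conj (by
    rintro _ ⟨j, z, hz, rfl⟩
    obtain ⟨z', hz', e⟩ := hgA g hg
    have e2 : g * (y ^ j * z) * g⁻¹ = (g * y * g⁻¹) ^ j * (g * z * g⁻¹) := by
      rw [conj_pow]; group
    rw [e2]
    refine mul_mem (pow_mem ?_ j) ⟨0, _, hgZ g hg z hz, by simp⟩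
    rcases e with e | e <;> rw [e]
    · exact ⟨1, z', hz', by simp⟩
    · exact mul_mem (inv_mem ⟨1, 1, one_mem _, by simp⟩) ⟨0, z', hz', by simp⟩)
  obtain ⟨S', hS'⟩ := _root_.Sylow.exists_subgroup_card_pow_prime (G := Nm (P : Subgroup T)) 2 (n := 3)
    (by haveI : Fact (Nat.Prime 2) := ⟨Nat.prime_two⟩; rw [hT.card_Nm_216 h28]; norm_num)
  let cls : S' → Bool × Bool := fun h =>
    (decide (∃ z ∈ Z, (h : T) * y * (h : T)⁻¹ = y * z), decide ((h : T) * b * (h : T)⁻¹ * b⁻¹ ∈ A0))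
  obtain ⟨h, h', hne, he⟩ : ∃ h h' : S', h ≠ h' ∧ cls h = cls h' := by
    haveI := Fintype.ofFinite S'
    refine Fintype.exists_ne_map_eq_of_card_lt cls ?_
    rw [← Nat.card_eq_fintype_card (α := S'), hS', Fintype.card_prod, Fintype.card_bool]; norm_num
  simp only [cls, Prod.mk.injEq, decide_eq_decide] at he
  obtain ⟨he1, he2⟩ := he
  set p : T := (h : T) with hp
  set q : T := (h' : T) with hq
  have hpN : p ∈ Nm (P : Subgroup T) := h.1.2
  have hqN : q ∈ Nm (P : Subgroup T) := h'.1.2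
  set u0 := p⁻¹ * q with hu0
  have hu0ne : u0 ≠ 1 := fun e => hne (Subtype.ext (Subtype.ext (inv_mul_eq_one.1 e)))
  have hu0N : u0 ∈ Nm (P : Subgroup T) := mul_mem (inv_mem hpN) hqN
  obtain ⟨m, hm⟩ : ∃ m : ℕ, u0 ^ (2 ^ m) = 1 := by
    refine ⟨3, ?_⟩
    have := pow_card_eq_one' (x := h⁻¹ * h')
    rw [hS'] at this
    exact congrArg Subtype.val (congrArg Subtype.val this)
  -- action on y
  obtain ⟨c, hc, huy⟩ : ∃ c ∈ Z, u0 * y * u0⁻¹ = y * c := by
    obtain ⟨a, ha, e⟩ := hgA q hqN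
    obtain ⟨a', ha', e'⟩ := hgA p hpN
    have hcases : (q * y * q⁻¹ = y * a ∧ p * y * p⁻¹ = y * a') ∨ (q * y * q⁻¹ = y⁻¹ * a ∧ p * y * p⁻¹ = y⁻¹ * a') := by
      rcases e with e | e <;> rcases e' with e' | e'
      · exact Or.inl ⟨e, e'⟩
      · exfalso
        obtain ⟨w, hw, ew⟩ := he1.2 ⟨a, ha, e⟩
        rw [ew] at e'
        apply hyZ
        have e2 : y * y = a' * w⁻¹ := by
          calc y * y = y * (y * w) * w⁻¹ := by group
            _ = y * (y⁻¹ * a') * w⁻¹ := by rw [e']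
            _ = _ := by group
        have hyy : y * y ∈ Z := e2 ▸ mul_mem ha' (inv_mem hw)
        have e3 : y = y * y * (y * y) := by
          rw [show y * y * (y * y) = y ^ 3 * y by simp [pow_succ, mul_assoc], hy3, one_mul]
        rw [e3]; exact mul_mem hyy hyy
      · exfalso
        obtain ⟨w, hw, ew⟩ := he1.1 ⟨a', ha', e'⟩
        rw [ew] at e
        apply hyZ
        have e2 : y * y = a * w⁻¹ := by
          calc y * y = y * (y * w) * w⁻¹ := by group
            _ = y * (y⁻¹ * a) * w⁻¹ := by rw [e]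
            _ = _ := by group
        have hyy : y * y ∈ Z := e2 ▸ mul_mem ha (inv_mem hw)
        have e3 : y = y * y * (y * y) := by
          rw [show y * y * (y * y) = y ^ 3 * y by simp [pow_succ, mul_assoc], hy3, one_mul]
        rw [e3]; exact mul_mem hyy hyy
      · exact Or.inr ⟨e, e'⟩
    refine ⟨p⁻¹ * (a'⁻¹ * a) * p, ?_, ?_⟩
    · have := hgZ p⁻¹ (inv_mem hpN) _ (mul_mem (inv_mem ha') ha)
      rwa [inv_inv] at this
    · have e1 : u0 * y * u0⁻¹ = p⁻¹ * (q * y * q⁻¹) * p := by rw [hu0]; group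
      have e2 : p⁻¹ * (q * y * q⁻¹) * p = y * (p⁻¹ * ((p * y * p⁻¹)⁻¹ * (q * y * q⁻¹)) * p) := by group
      rw [e1, e2]
      rcases hcases with ⟨f1, f2⟩ | ⟨f1, f2⟩ <;> rw [f1, f2] <;> group
  -- action on b
  obtain ⟨d, hd, hub⟩ : ∃ d ∈ A0, u0 * b * u0⁻¹ = b * d := by
    have key : ∀ g ∈ Nm (P : Subgroup T),
        g * b * g⁻¹ * b⁻¹ ∈ A0 ∨ g * b * g⁻¹ * b ∈ A0 := by
      intro g hg
      have hgb : g * b * g⁻¹ ∈ (P : Subgroup T) := conj_mem hg hbP
      haveI : (A0.subgroupOf (P : Subgroup T)).Normal := (normal_subgroupOf_iff_le_normalizer hA0P).2 hA0n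
      let π := QuotientGroup.mk' (A0.subgroupOf (P : Subgroup T))
      have hcard : Nat.card (↥(P : Subgroup T) ⧸ A0.subgroupOf (P : Subgroup T)) = 3 := by
        have := Subgroup.card_eq_card_quotient_mul_card_subgroup (A0.subgroupOf (P : Subgroup T))
        rw [hT.card_sylow, Nat.card_congr (subgroupOfEquivOfLe hA0P).toEquiv, hA9.1] at this
        omega
      have hb1 : π ⟨b, hbP⟩ ≠ 1 := fun e => hbA0 ((QuotientGroup.eq_one_iff (N := A0.subgroupOf (P : Subgroup T)) (⟨b, hbP⟩ : ↥(P : Subgroup T))).1 e)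
      have hmem := mem_zpowers_of_prime_card (p := 3) hcard (g' := π ⟨g * b * g⁻¹, hgb⟩) hb1
      obtain ⟨k, hk⟩ := mem_zpowers_iff.1 hmem
      have hgb1 : π ⟨g * b * g⁻¹, hgb⟩ ≠ 1 := fun e => hbA0 (by
        have h0 : g * b * g⁻¹ ∈ A0 :=
          (QuotientGroup.eq_one_iff (N := A0.subgroupOf (P : Subgroup T)) (⟨g * b * g⁻¹, hgb⟩ : ↥(P : Subgroup T))).1 e
        have := conj_mem (inv_mem (hgA0 g hg)) h0
        simpa [mul_assoc] using this)
      have ho : orderOf (π ⟨b, hbP⟩) = 3 := orderOf_eq_prime (by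
        rw [← map_pow]
        exact (QuotientGroup.eq_one_iff _).2 (by
          show b ^ 3 ∈ A0
          rw [hT.pow_three_of_mem hbP]; exact one_mem _)) hb1
      rw [← zpow_mod_orderOf, ho] at hk
      rcases (show k % 3 = 0 ∨ k % 3 = 1 ∨ k % 3 = 2 by omega) with e | e | e <;>
        simp only [Nat.cast_ofNat, e] at hk
      · rw [zpow_zero] at hk; exact absurd hk.symm hgb1
      · left
        rw [zpow_one] at hk
        have := (QuotientGroup.eq.1 hk.symm : (⟨g * b * g⁻¹, hgb⟩ : ↥(P : Subgroup T))⁻¹ * ⟨b, hbP⟩ ∈ _)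
        have h2 : (g * b * g⁻¹)⁻¹ * b ∈ A0 := this
        have h3 := conj_mem (hgA0 g hg) (inv_mem h2)
        have h4 := conj_mem (hA0n (conj_mem hg hbP)) (inv_mem h2)
        convert conj_mem (hA0n hbP) (inv_mem h2) using 1
        group
      · right
        have hb3 : π ⟨b, hbP⟩ ^ (3 : ℕ) = 1 := orderOf_dvd_iff_pow_eq_one.1 (dvd_of_eq ho)
        have h1 : π (⟨g * b * g⁻¹, hgb⟩ * ⟨b, hbP⟩) = 1 := by
          rw [map_mul, ← hk, ← zpow_add_one, show ((2 : ℤ) + 1) = ((3 : ℕ) : ℤ) by norm_num, zpow_natCast,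
            hb3]
        exact ((QuotientGroup.ker_mk' (A0.subgroupOf (P : Subgroup T))).le (MonoidHom.mem_ker.2 h1) :)
    have hnot : ∀ g ∈ Nm (P : Subgroup T), g * b * g⁻¹ * b⁻¹ ∈ A0 → g * b * g⁻¹ * b ∈ A0 → False := by
      intro g _ h1 h2
      apply hbA0
      have h3 : b * b ∈ A0 := by
        have := mul_mem (inv_mem h1) h2
        rwa [show (g * b * g⁻¹ * b⁻¹)⁻¹ * (g * b * g⁻¹ * b) = b * b by group] at this
      have e : b = b * b * (b * b) := by
        rw [show b * b * (b * b) = b ^ 3 * b by simp [pow_succ, mul_assoc], hT.pow_three_of_mem hbP, one_mul]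
      rw [e]; exact mul_mem h3 h3
    refine ⟨b⁻¹ * (u0 * b * u0⁻¹), ?_, by group⟩
    have e0 : b⁻¹ * (u0 * b * u0⁻¹) = p⁻¹ * ((p * b * p⁻¹)⁻¹ * (q * b * q⁻¹)) * p := by rw [hu0]; group
    rw [e0]
    suffices h : (p * b * p⁻¹)⁻¹ * (q * b * q⁻¹) ∈ A0 by
      have := conj_mem (inv_mem (hgA0 p hpN)) h
      rwa [inv_inv] at this
    have hcm : ∀ s : T, s ∈ A0 → b⁻¹ * s * b ∈ A0 := fun s hs => by
      have := conj_mem (inv_mem (hA0n hbP)) hs
      rwa [inv_inv] at this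
    rcases key q hqN with hq1 | hq1 <;> rcases key p hpN with hp1 | hp1
    · have := hcm _ (mul_mem (inv_mem hp1) hq1)
      convert this using 1; group
    · exact (hnot p hpN (he2.2 hq1) hp1).elim
    · exact (hnot q hqN (he2.1 hp1) hq1).elim
    · have := conj_mem (hA0n hbP) (mul_mem (inv_mem hp1) hq1)
      convert this using 1; group
  -- the centre is fixed
  have hy_ne : y * b ≠ b * y := by
    intro e
    apply hyZ
    refine ⟨hyP, ?_⟩
    have hle : A0 ⊔ zpowers b ≤ centralizer ({y} : Set T) := sup_le (by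
      rintro _ ⟨j, z, hz, rfl⟩
      rw [mem_centralizer_singleton_iff]
      exact ((Commute.refl y).pow_left j).mul_left (show Commute z y from (hzc z hz y hyP).symm))
      (zpowers_le.2 (mem_centralizer_singleton_iff.2 e.symm))
    rw [hA9.2] at hle
    exact fun w hw => mem_centralizer_singleton_iff.1 (hle hw)
  have hyd : y * d = d * y := by
    obtain ⟨j, z, hz, rfl⟩ := hd
    exact (((Commute.refl y).pow_right j).mul_right (show Commute y z from hzc z hz y hyP)).eq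
  set w := y⁻¹ * b⁻¹ * y * b with hw
  have hwZ : w ∈ Z := Subgroup.mem_inf.2 ⟨mul_mem (mul_mem (mul_mem (inv_mem hyP) (inv_mem hbP)) hyP) hbP,
    fun s hs => ((hT.center_ne P y b hyP hbP s hs).eq).symm⟩
  have hwfix : u0 * w * u0⁻¹ = w := by
    have e : u0 * w * u0⁻¹ = (u0 * y * u0⁻¹)⁻¹ * (u0 * b * u0⁻¹)⁻¹ * (u0 * y * u0⁻¹) * (u0 * b * u0⁻¹) := by
      rw [hw]; group
    rw [e, huy, hub]
    have hdP : d ∈ (P : Subgroup T) := hA0P hd
    have cd : c * d = d * c := (hzc c hc d hdP).symm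
    have cb : c * b = b * c := (hzc c hc b hbP).symm
    have wd : w * d = d * w := (hzc w hwZ d hdP).symm
    calc (y * c)⁻¹ * (b * d)⁻¹ * (y * c) * (b * d)
        = c⁻¹ * (y⁻¹ * d⁻¹) * b⁻¹ * y * (c * b) * d := by group
      _ = c⁻¹ * (d⁻¹ * y⁻¹) * b⁻¹ * y * (b * c) * d := by
          rw [show y⁻¹ * d⁻¹ = d⁻¹ * y⁻¹ by rw [← mul_inv_rev, ← mul_inv_rev, hyd], cb]
      _ = c⁻¹ * d⁻¹ * w * (c * d) := by rw [hw]; group
      _ = c⁻¹ * d⁻¹ * (w * d) * c := by rw [cd]; group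
      _ = c⁻¹ * d⁻¹ * (d * w) * c := by rw [wd]
      _ = w := by
          rw [show c⁻¹ * d⁻¹ * (d * w) * c = c⁻¹ * (w * c) by group, ← hzc w hwZ c hc.1,
            inv_mul_cancel_left]
  have hw1 : w ≠ 1 := fun e => hy_ne (by
    have : y * b = b * y * w := by rw [hw]; group
    rw [this, e, mul_one])
  have hzu : ∀ z ∈ Z, u0 * z = z * u0 := by
    intro z hz
    have : zpowers w = Z := Subgroup.eq_of_le_of_card_ge (zpowers_le.2 hwZ)
      (by rw [hZ3, Nat.card_zpowers, hT.orderOf_eq_three P.2 hwZ.1 hw1])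
    rw [← this] at hz
    obtain ⟨k, rfl⟩ := mem_zpowers_iff.1 hz
    exact ((show Commute u0 w from mul_inv_eq_iff_eq_mul.1 hwfix).zpow_right k).eq
  have hc1 : c = 1 := eq_one_of_fixed hm huy (hzu c hc) (hT.pow_three_of_mem hc.1)
  rw [hc1, mul_one] at huy
  have huyc : u0 * y = y * u0 := mul_inv_eq_iff_eq_mul.1 huy
  have hA0u : ∀ s ∈ A0, u0 * s = s * u0 := by
    rintro _ ⟨j, z, hz, rfl⟩
    exact (((show Commute u0 y from huyc).pow_right j).mul_right (hzu z hz)).eq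
  have hd1 : d = 1 := eq_one_of_fixed hm hub (hA0u d hd) (hT.pow_three_of_mem (hA0P hd))
  rw [hd1, mul_one] at hub
  have hub' : u0 * b = b * u0 := mul_inv_eq_iff_eq_mul.1 hub
  have hcP : (P : Subgroup T) ≤ centralizer ({u0} : Set T) := by
    rw [← hA9.2]
    exact sup_le (fun s hs => mem_centralizer_singleton_iff.2 (hA0u s hs).symm)
      (zpowers_le.2 (mem_centralizer_singleton_iff.2 hub'.symm))
  -- an involution among the powers
  obtain ⟨u, huz, hu2⟩ : ∃ u ∈ zpowers u0, orderOf u = 2 := exists_involution (by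
    rw [Nat.card_zpowers]
    obtain ⟨i, -, e⟩ := (Nat.dvd_prime_pow Nat.prime_two).1 (orderOf_dvd_of_pow_eq_one hm)
    rcases i with _ | i
    · rw [pow_zero, orderOf_eq_one_iff] at e; exact absurd e hu0ne
    · rw [e, pow_succ]; exact dvd_mul_left 2 _)
  obtain ⟨k, rfl⟩ := mem_zpowers_iff.1 huz
  refine ⟨u0 ^ k, by rw [← sq, ← hu2, pow_orderOf_eq_one], fun e => by rw [e, orderOf_one] at hu2; omega,
    zpow_mem hu0N k, fun s hs => ?_⟩
  exact ((show Commute u0 s from (mem_centralizer_singleton_iff.1 (hcP hs)).symm).zpow_left k).eq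

end Hyp

end Cfsg.Agent.Lib.U33Recog
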