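import Cfsg.Agent.Lib.U33Recog.Model

/-!
Correctness of the exhaustive search of `Model.lean`.
-/

set_option autoImplicit false
set_option maxRecDepth 100000

namespace Cfsg.Agent.Lib.U33Recog.Model

theorem allB_iff : ∀ {n : ℕ} {p : ℕ → Bool}, allB n p = true ↔ ∀ i < n, p i = true
  | 0, p => by simp [allB]
  | n + 1, p => by
    rw [allB, Bool.and_eq_true, allB_iff (n := n)]
    exact ⟨fun h i hi => (Nat.lt_succ_iff_lt_or_eq.1 hi).elim (h.2 i) (fun e => e ▸ h.1),
      fun h => ⟨h n (Nat.lt_succ_self n), fun i hi => h i (by omega)⟩⟩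

theorem anyB_iff : ∀ {n : ℕ} {p : ℕ → Bool}, anyB n p = true ↔ ∃ i < n, p i = true
  | 0, p => by simp [anyB]
  | n + 1, p => by
    rw [anyB, Bool.or_eq_true, anyB_iff (n := n)]
    constructor
    · rintro (h | ⟨i, hi, h⟩)
      exacts [⟨n, Nat.lt_succ_self n, h⟩, ⟨i, by omega, h⟩]
    · rintro ⟨i, hi, h⟩
      rcases Nat.lt_succ_iff_lt_or_eq.1 hi with hi | rfl
      exacts [Or.inr ⟨i, hi, h⟩, Or.inl h]

theorem findB_spec : ∀ {n : ℕ} {p : ℕ → Bool} {d : ℕ}, (∃ i < n, p i = true) →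
    findB d n p < n ∧ p (findB d n p) = true
  | 0, p, d, h => by obtain ⟨i, hi, -⟩ := h; omega
  | n + 1, p, d, h => by
    rw [findB]
    cases hn : p n
    · obtain ⟨i, hi, h⟩ := h
      have := findB_spec (n := n) (d := d) ⟨i, (Nat.lt_succ_iff_lt_or_eq.1 hi).resolve_right
        (fun e => by rw [e, hn] at h; exact Bool.false_ne_true h), h⟩
      exact ⟨by simp only [cond_false]; omega, this.2⟩
    · exact ⟨Nat.lt_succ_self n, hn⟩

theorem findB_none : ∀ {n : ℕ} {p : ℕ → Bool} {d : ℕ}, (∀ i < n, p i = false) → findB d n p = d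
  | 0, _, _, _ => rfl
  | n + 1, p, d, h => by
    rw [findB, h n (Nat.lt_succ_self n)]
    exact findB_none fun i hi => h i (by omega)

/-- `hs m` is injective in the index -/
theorem hs_inj_table : allB 6 (fun m => allB 8 fun i => allB 8 fun j =>
    Nat.beq i j || !allB 27 fun x => Nat.beq (hs m i x) (hs m j x)) = true := by decide +kernel

theorem hs_inj {m i j : ℕ} (hm : m < 6) (hi : i < 8) (hj : j < 8)
    (h : ∀ x < 27, hs m i x = hs m j x) : i = j := by
  have := allB_iff.1 (allB_iff.1 (allB_iff.1 hs_inj_table m hm) i hi) j hj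
  rw [Bool.or_eq_true] at this
  rcases this with e | e
  · exact Nat.eq_of_beq_eq_true e
  · have ht : (allB 27 fun x => Nat.beq (hs m i x) (hs m j x)) = true :=
      allB_iff.2 fun x hx => by rw [h x hx]; exact Nat.beq_refl _
    rw [ht] at e
    exact absurd e (by simp)

theorem hs_lt_table : allB 6 (fun m => allB 8 fun i => Nat.beq (hs m i 0) 0 &&
    allB 27 fun x => Nat.blt (hs m i x) 27) = true := by decide +kernel

theorem hs_lt {m i x : ℕ} (hm : m < 6) (hi : i < 8) (hx : x < 27) : hs m i x < 27 := by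
  have := allB_iff.1 (allB_iff.1 hs_lt_table m hm) i hi
  rw [Bool.and_eq_true] at this
  simpa [Nat.blt] using allB_iff.1 this.2 x hx

theorem hs_zero {m i : ℕ} (hm : m < 6) (hi : i < 8) : hs m i 0 = 0 := by
  have := allB_iff.1 (allB_iff.1 hs_lt_table m hm) i hi
  rw [Bool.and_eq_true] at this
  exact Nat.eq_of_beq_eq_true this.1

theorem hs_words : allB 6 (fun m => Nat.blt (gen1 m) 8 && Nat.blt (gen2 m) 8 && allB 8 fun i =>
    allB 27 fun x => Nat.beq (hs m i x) (wordApp m (gen1 m) (gen2 m) ((wordsD.getD m []).getD i []) x))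
      = true := by decide +kernel

theorem gen1_lt {m : ℕ} (hm : m < 6) : gen1 m < 8 := by
  have := allB_iff.1 hs_words m hm
  simp only [Bool.and_eq_true, Nat.blt_eq] at this
  exact this.1.1

theorem gen2_lt {m : ℕ} (hm : m < 6) : gen2 m < 8 := by
  have := allB_iff.1 hs_words m hm
  simp only [Bool.and_eq_true, Nat.blt_eq] at this
  exact this.1.2

theorem hs_word {m i x : ℕ} (hm : m < 6) (hi : i < 8) (hx : x < 27) :
    hs m i x = wordApp m (gen1 m) (gen2 m) ((wordsD.getD m []).getD i []) x := by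
  have := allB_iff.1 hs_words m hm
  simp only [Bool.and_eq_true] at this
  exact Nat.eq_of_beq_eq_true (allB_iff.1 (allB_iff.1 this.2 i hi) x hx)

theorem wordApp_lt {m u v : ℕ} (hm : m < 6) (hu : u < 8) (hv : v < 8) :
    ∀ (w : List ℕ) {x : ℕ}, x < 27 → wordApp m u v w x < 27
  | [], _, hx => hx
  | k :: w, x, hx => by
    rw [wordApp]
    refine hs_lt hm ?_ (wordApp_lt hm hu hv w hx)
    cases Nat.beq k 0
    exacts [hv, hu]

/-- a partial map compatible with `σ` -/
def Compat (σ : ℕ → ℕ) (s : ℕ) : Prop :=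
  tbl s 0 = 0 ∧ ∀ x < 27, tbl s x = 31 ∨ tbl s x = σ x

theorem tbl_eq (s x : ℕ) : tbl s x = (s >>> (5 * x)) % 2 ^ 5 := rfl

theorem tbl_xor {s x y w : ℕ} (hw : w < 32) :
    tbl (Nat.xor s (Nat.shiftLeft w (Nat.mul 5 x))) y =
      if y = x then Nat.xor (tbl s y) w else tbl s y := by
  change tbl (s ^^^ w <<< (5 * x)) y = if y = x then tbl s y ^^^ w else tbl s y
  rw [tbl_eq, tbl_eq]
  refine Nat.eq_of_testBit_eq fun j => ?_
  rw [Nat.testBit_mod_two_pow, Nat.testBit_shiftRight, Nat.testBit_xor, Nat.testBit_shiftLeft]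
  have hbit : ∀ k, 5 ≤ k → w.testBit k = false := fun k hk =>
    Nat.testBit_lt_two_pow (lt_of_lt_of_le hw (by simpa using Nat.pow_le_pow_right (show 0 < 2 by norm_num) hk))
  split_ifs with h
  · subst h
    rw [Nat.testBit_xor, Nat.testBit_mod_two_pow, Nat.testBit_shiftRight]
    by_cases hj : j < 5
    · simp [hj]
    · simp [hj, hbit j (by omega)]
  · rw [Nat.testBit_mod_two_pow, Nat.testBit_shiftRight]
    by_cases hj : j < 5
    · by_cases hge : 5 * y + j ≥ 5 * x
      · rw [hbit (5 * y + j - 5 * x) (by omega)]; simp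
      · simp [hge]
    · simp [hj]

theorem setPt_spec {σ : ℕ → ℕ} {s : ℕ} (hc : Compat σ s) {x : ℕ} (hx : x < 27) (hσ : σ x < 27) :
    ∃ s', setPt s x (σ x) = some s' ∧ Compat σ s' := by
  rw [setPt]
  cases h31 : Nat.beq (tbl s x) 31
  · have he : tbl s x = σ x := (hc.2 x hx).resolve_left fun e => by
      rw [e] at h31; simp at h31
    refine ⟨s, ?_, hc⟩
    rw [he, Nat.beq_refl]
    rfl
  · have h31' := Nat.eq_of_beq_eq_true h31
    have hw : Nat.xor 31 (σ x) < 32 :=
      Nat.xor_lt_two_pow (n := 5) (by norm_num) (lt_trans hσ (by norm_num))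
    refine ⟨_, rfl, ?_, fun y hy => ?_⟩
    · rw [tbl_xor hw, if_neg]
      · exact hc.1
      · intro h0; rw [← h0, hc.1] at h31'; simp at h31'
    · rw [tbl_xor hw]
      split_ifs with h
      · right
        subst h
        rw [h31']
        change 31 ^^^ (31 ^^^ σ y) = σ y
        rw [← Nat.xor_assoc, Nat.xor_self, Nat.zero_xor]
      · exact hc.2 y hy

/-- the properties of the true exchanging map -/
structure Real (m th : ℕ) (σ : ℕ → ℕ) : Prop where
  zero : σ 0 = 0
  pos : ∀ x, 0 < x → x < 27 → 0 < σ x ∧ σ x < 27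
  invol : ∀ x < 27, σ (σ x) = x
  th_lt : ∀ i < 8, tbl th i < 8
  comm : ∀ i < 8, ∀ x < 27, σ (hs m i x) = hs m (tbl th i) (σ x)

theorem Real.lt {m th : ℕ} {σ : ℕ → ℕ} (h : Real m th σ) {x : ℕ} (hx : x < 27) :
    σ x < 27 := by
  rcases Nat.eq_zero_or_pos x with rfl | h0
  · rw [h.zero]; exact hx
  · exact (h.pos x h0 hx).2

theorem prop_spec {m : ℕ} (hm : m < 6) {th : ℕ} {σ : ℕ → ℕ} (hr : Real m th σ) {a : ℕ}
    (ha : a < 27) : ∀ i ≤ 8, ∀ s, Compat σ s →
      ∃ s', prop m th a (σ a) i s = some s' ∧ Compat σ s'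
  | 0, _, s, hc => ⟨s, rfl, hc⟩
  | i + 1, hi, s, hc => by
    have h1 : hs m i a < 27 := hs_lt hm (by omega) ha
    have e : σ (hs m i a) = hs m (tbl th i) (σ a) := hr.comm i (by omega) a ha
    obtain ⟨s1, e1, hs1⟩ := setPt_spec hc h1 (hr.lt h1)
    obtain ⟨s2, e2, hs2⟩ := setPt_spec hs1 (hr.lt h1) (by rw [hr.invol _ h1]; exact h1)
    rw [hr.invol _ h1] at e2
    rw [e] at e1 e2
    obtain ⟨s3, e3, hs3⟩ := prop_spec hm hr ha i (by omega) s2 hs2
    refine ⟨s3, ?_, hs3⟩
    rw [prop, e1, Option.bind_some, e2, Option.bind_some, e3]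

theorem searchOK_spec {m : ℕ} (hm : m < 6) {th : ℕ} {σ : ℕ → ℕ} (hr : Real m th σ)
    (hv : ∀ s, (∀ x < 27, tbl s x = σ x) → valid m s = true) :
    ∀ (f : ℕ) (s : ℕ), Compat σ s → searchOK m th f s = true →
      m = 3 ∧ ((∀ x < 27, tbl sol0 x = σ x) ∨ ∀ x < 27, tbl sol1 x = σ x)
  | 0, s, _, h => by simp [searchOK] at h
  | f + 1, s, hc, h => by
    rw [searchOK] at h
    change (cond (Nat.blt (firstUndef s) 27) _ _) = true at h
    by_cases hex : ∃ x < 27, Nat.beq (tbl s x) 31 = true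
    · obtain ⟨ha, hat⟩ := findB_spec (d := 27) hex
      rw [show Nat.blt (firstUndef s) 27 = true by simpa [Nat.blt, firstUndef] using ha, cond_true] at h
      have hfu : Nat.beq (tbl s (firstUndef s)) 31 = true := hat
      have h0 : firstUndef s ≠ 0 := fun h0 => by rw [h0, hc.1] at hfu; simp at hfu
      have hpos := hr.pos _ (Nat.pos_of_ne_zero h0) ha
      have hb := allB_iff.1 h (σ (firstUndef s) - 1) (by omega)
      obtain ⟨s', e, hs'⟩ := prop_spec hm hr (a := firstUndef s) ha 8 le_rfl s hc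
      rw [show Nat.add (σ (firstUndef s) - 1) 1 = σ (firstUndef s) from by
        show σ (firstUndef s) - 1 + 1 = _; omega, e] at hb
      exact searchOK_spec hm hr hv f s' hs' hb
    · push Not at hex
      rw [show firstUndef s = 27 from findB_none fun x hx => Bool.eq_false_iff.2 (hex x hx)] at h
      have e : ∀ x < 27, tbl s x = σ x := fun x hx => (hc.2 x hx).resolve_left fun e => by
        have := hex x hx
        rw [e] at this
        simp at this
      rw [show Nat.blt 27 27 = false from rfl, cond_false, hv s e] at h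
      simp only [Bool.not_true, Bool.false_or, Bool.and_eq_true, Bool.or_eq_true] at h
      refine ⟨Nat.eq_of_beq_eq_true h.1, ?_⟩
      rcases h.2 with h' | h'
      · exact Or.inl fun x hx => Nat.eq_of_beq_eq_true h' ▸ e x hx
      · exact Or.inr fun x hx => Nat.eq_of_beq_eq_true h' ▸ e x hx

end Cfsg.Agent.Lib.U33Recog.Model
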