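import Cfsg.Agent.Lib.U33Recog.TI2

/-!
The two-point stabiliser: order 8, centralisers of its involutions, and the splitting of `P` by a
central involution.
-/

set_option autoImplicit false
set_option linter.unusedSectionVars false

namespace Cfsg.Agent.Lib.U33Recog

open Subgroup
open Cfsg.Agent.Lib.SmallGroups

variable {T : Type*} [Group T] [Finite T]

/-- the two-point stabiliser -/
abbrev stabH (P Q : Sylow 3 T) : Subgroup T := Nm (P : Subgroup T) ⊓ Nm (Q : Subgroup T)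

/-- the fixed part of `P` under `j` -/
def Lj (P : Sylow 3 T) (j : T) : Subgroup T := (P : Subgroup T) ⊓ centralizer ({j} : Set T)

theorem mem_Lj {P : Sylow 3 T} {j x : T} : x ∈ Lj P j ↔ x ∈ (P : Subgroup T) ∧ x * j = j * x := by
  simp [Lj, Subgroup.mem_centralizer_iff, eq_comm]

/-- the inverted part of `P` under `j` -/
def inI (P : Sylow 3 T) (j x : T) : Prop := x ∈ (P : Subgroup T) ∧ j * x * j⁻¹ = x⁻¹

/-- `j` is a central involution of the two-point stabiliser -/
structure Piv (P Q : Sylow 3 T) (j : T) : Prop where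
  ne : Q ≠ P
  memP : j ∈ Nm (P : Subgroup T)
  memQ : j ∈ Nm (Q : Subgroup T)
  sq : j * j = 1
  one : j ≠ 1
  comm : ∀ h ∈ stabH P Q, j * h = h * j

namespace Hyp

variable (hT : Hyp T) (h28 : Nat.card (Sylow 3 T) = 28)
include hT h28

variable {P Q : Sylow 3 T} (hne : Q ≠ P)
include hne

theorem reg_inj {x y : T} (hx : x ∈ (P : Subgroup T)) (hy : y ∈ (P : Subgroup T)) (h : x • Q = y • Q) :
    x = y := by
  have e : (y⁻¹ * x) • Q = Q := by rw [mul_smul, h, inv_smul_smul]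
  have hm : y⁻¹ * x ∈ (P : Subgroup T) ⊓ Q :=
    Subgroup.mem_inf.2 ⟨mul_mem (inv_mem hy) hx, (smul_eq_iff_mem (mul_mem (inv_mem hy) hx)).1 e⟩
  rw [hT.inf_eq_bot h28 hne] at hm
  exact (inv_mul_eq_one.1 (Subgroup.mem_bot.1 hm)).symm

theorem reg_surj {R : Sylow 3 T} (hR : R ≠ P) : ∃ x ∈ (P : Subgroup T), x • Q = R := by
  let f : ↥(P : Subgroup T) → {R : Sylow 3 T // R ≠ P} := fun x =>
    ⟨(x : T) • Q, hT.smul_ne h28 (Subgroup.le_normalizer x.2) hne⟩
  have hf : Function.Bijective f := Function.Injective.bijective_of_nat_card_le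
    (fun a b e => Subtype.ext (hT.reg_inj h28 hne a.2 b.2 (congrArg Subtype.val e)))
    (by rw [hT.card_others h28, hT.card_sylow])
  obtain ⟨x, hx⟩ := hf.2 ⟨R, hR⟩
  exact ⟨x.1, x.2, congrArg Subtype.val hx⟩

theorem decomp {g : T} (hg : g ∈ Nm (P : Subgroup T)) :
    ∃ x ∈ (P : Subgroup T), ∃ h ∈ stabH P Q, g = x * h := by
  obtain ⟨x, hx, e⟩ := hT.reg_surj h28 hne (hT.smul_ne h28 hg hne)
  refine ⟨x, hx, x⁻¹ * g, Subgroup.mem_inf.2 ⟨mul_mem (inv_mem (Subgroup.le_normalizer hx)) hg, ?_⟩, by group⟩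
  exact mem_Nm_sylow.2 (by rw [mul_smul, ← e, inv_smul_smul])

theorem eq_one_of_mem_both {x : T} (hx : x ∈ (P : Subgroup T)) (hH : x ∈ stabH P Q) : x = 1 :=
  hT.reg_inj h28 hne hx (one_mem _) (by rw [one_smul]; exact mem_Nm_sylow.1 hH.2)

theorem card_stabH : Nat.card (stabH P Q) = 8 := by
  let f : ↥(P : Subgroup T) × ↥(stabH P Q) → ↥(Nm (P : Subgroup T)) := fun s =>
    ⟨s.1.1 * s.2.1, mul_mem (Subgroup.le_normalizer s.1.2) s.2.2.1⟩
  have hf : Function.Bijective f := by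
    constructor
    · rintro ⟨x, h⟩ ⟨x', h'⟩ e
      have e' : x.1 * h.1 = x'.1 * h'.1 := congrArg Subtype.val e
      have e2 : x'.1⁻¹ * x.1 = h'.1 * h.1⁻¹ := by
        rw [eq_mul_inv_iff_mul_eq, mul_assoc, e', inv_mul_cancel_left]
      have h1 := hT.eq_one_of_mem_both h28 hne (mul_mem (inv_mem x'.2) x.2)
        (e2.symm ▸ mul_mem h'.2 (inv_mem h.2))
      have hxx : x'.1 = x.1 := inv_mul_eq_one.1 h1
      exact Prod.ext (Subtype.ext hxx.symm) (Subtype.ext (mul_left_cancel (hxx ▸ e')))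
    · intro g
      obtain ⟨x, hx, h, hh, e⟩ := hT.decomp h28 hne g.2
      exact ⟨(⟨x, hx⟩, ⟨h, hh⟩), Subtype.ext e.symm⟩
  have := Nat.card_congr (Equiv.ofBijective f hf)
  rw [Nat.card_prod, hT.card_sylow, hT.card_Nm_216 h28] at this
  omega

theorem eq_one_of_centralizes {u : T} (hu : u ∈ stabH P Q)
    (hc : ∀ x ∈ (P : Subgroup T), u * x = x * u) : u = 1 :=
  hT.faithful h28 fun R => by
    by_cases hR : R = P
    · exact hR ▸ mem_Nm_sylow.1 hu.1
    · obtain ⟨x, hx, rfl⟩ := hT.reg_surj h28 hne hR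
      rw [← mul_smul, hc x hx, mul_smul, mem_Nm_sylow.1 hu.2]

theorem pow_eight {u : T} (hu : u ∈ stabH P Q) : u ^ 8 = 1 := by
  have := pow_card_eq_one' (x := (⟨u, hu⟩ : stabH P Q))
  rw [hT.card_stabH h28 hne] at this
  exact congrArg Subtype.val this

theorem exists_piv : ∃ j, Piv P Q j := by
  haveI : Fact (Nat.Prime 2) := ⟨Nat.prime_two⟩
  have h8 := hT.card_stabH h28 hne
  haveI : Nontrivial (stabH P Q) := Finite.one_lt_card_iff_nontrivial.1 (by omega)
  have hp : IsPGroup 2 (stabH P Q) := IsPGroup.of_card (n := 3) (by rw [h8]; norm_num)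
  haveI := hp.center_nontrivial
  obtain ⟨c, hc⟩ := IsPGroup.iff_card.1 (hp.to_subgroup (Subgroup.center (stabH P Q)))
  have hc0 : c ≠ 0 := by
    rintro rfl
    exact (not_nontrivial_iff_subsingleton.2 (Nat.card_eq_one_iff_unique.1 hc).1) inferInstance
  obtain ⟨j, hj⟩ := exists_prime_orderOf_dvd_card' (G := Subgroup.center (stabH P Q)) 2
    (by rw [hc]; exact dvd_pow_self 2 hc0)
  have hj2 : orderOf (j.1 : stabH P Q).1 = 2 := by rw [Subgroup.orderOf_coe, Subgroup.orderOf_coe, hj]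
  refine ⟨j.1.1, hne, j.1.2.1, j.1.2.2, by rw [← sq, ← hj2, pow_orderOf_eq_one],
    fun e => by rw [e, orderOf_one] at hj2; omega, fun h hh => ?_⟩
  exact (congrArg Subtype.val (Subgroup.mem_center_iff.1 j.2 ⟨h, hh⟩)).symm

theorem card_centralized {h : T} (hh : h ∈ stabH P Q) (h2 : h * h = 1) (h1 : h ≠ 1) :
    Nat.card (Lj P h) = 3 := by
  classical
  haveI := Fintype.ofFinite (Sylow 3 T)
  have hmod := hT.fixed_mod_four h28 h2
  have key : ∀ x ∈ (P : Subgroup T), h • (x • Q) = x • Q ↔ x * h = h * x := by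
    intro x hx
    have hxP : h * x * h⁻¹ ∈ (P : Subgroup T) := conj_mem hh.1 hx
    constructor
    · intro e
      have e' : (h * x * h⁻¹) • Q = x • Q := by
        rw [mul_smul, mul_smul, mem_Nm_sylow.1 (inv_mem hh.2), e]
      exact (mul_inv_eq_iff_eq_mul.1 (hT.reg_inj h28 hne hxP hx e')).symm
    · intro e
      rw [← mul_smul, ← e, mul_smul, mem_Nm_sylow.1 hh.2]
  let g : Lj P h → {R : Sylow 3 T // h • R = R ∧ R ≠ P} := fun x =>
    ⟨(x : T) • Q, (key x.1 (mem_Lj.1 x.2).1).2 (mem_Lj.1 x.2).2,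
      hT.smul_ne h28 (Subgroup.le_normalizer (mem_Lj.1 x.2).1) hne⟩
  have hg : Function.Bijective g := by
    constructor
    · exact fun a b e => Subtype.ext (hT.reg_inj h28 hne (mem_Lj.1 a.2).1 (mem_Lj.1 b.2).1
        (congrArg Subtype.val e))
    · rintro ⟨R, hR, hRP⟩
      obtain ⟨x, hx, rfl⟩ := hT.reg_surj h28 hne hRP
      exact ⟨⟨x, mem_Lj.2 ⟨hx, (key x hx).1 hR⟩⟩, rfl⟩
  have hpart : Nat.card {R : Sylow 3 T // h • R ≠ R} + Nat.card {R : Sylow 3 T // h • R = R ∧ R ≠ P} = 27 := by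
    rw [← hT.card_others h28 P, Nat.card_eq_fintype_card, Nat.card_eq_fintype_card, Nat.card_eq_fintype_card,
      Fintype.card_subtype, Fintype.card_subtype, Fintype.card_subtype, ← Finset.card_union_of_disjoint]
    · congr 1
      ext R
      simp only [Finset.mem_union, Finset.mem_filter, Finset.mem_univ, true_and]
      constructor
      · rintro (e | ⟨-, e⟩)
        · exact fun e' => e (e' ▸ mem_Nm_sylow.1 hh.1)
        · exact e
      · intro e
        by_cases e' : h • R = R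
        exacts [Or.inr ⟨e', e⟩, Or.inl e']
    · rw [Finset.disjoint_left]
      intro R hA hB
      simp only [Finset.mem_filter, Finset.mem_univ, true_and] at hA hB
      exact hA hB.1
  rw [← Nat.card_congr (Equiv.ofBijective g hg)] at hpart
  have hPle : Lj P h ≤ (P : Subgroup T) := inf_le_left
  have hd := Subgroup.card_dvd_of_le hPle
  rw [hT.card_sylow] at hd
  have d1 := Nat.mem_divisors.2 ⟨hd, by norm_num⟩
  rw [show Nat.divisors 27 = {1, 3, 9, 27} from by decide] at d1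
  simp only [Finset.mem_insert, Finset.mem_singleton] at d1
  rcases d1 with e | e | e | e
  · omega
  · exact e
  · omega
  · exfalso
    have e2 := Subgroup.eq_of_le_of_card_ge hPle (by rw [e, hT.card_sylow])
    exact h1 (hT.eq_one_of_centralizes h28 hne hh fun x hx => ((mem_Lj.1 (e2.symm ▸ hx)).2).symm)

/-- An element of the stabiliser fixing more than three elements of `P` has square one and so is one. -/
theorem eq_one_of_fixes {u : T} (hu : u ∈ stabH P Q) {A : Subgroup T} (hA : A ≤ (P : Subgroup T))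
    (hcard : 3 < Nat.card A) (hc : ∀ x ∈ A, u * x = x * u) : u = 1 := by
  by_contra h1
  have h8 := hT.pow_eight h28 hne hu
  have key : ∀ v, v ∈ stabH P Q → (∀ x ∈ A, v * x = x * v) → v * v = 1 → v = 1 := by
    intro v hv hvc hv2
    by_contra hv1
    have := Subgroup.card_le_of_le (show A ≤ Lj P v from fun x hx => mem_Lj.2 ⟨hA hx, (hvc x hx).symm⟩)
    rw [hT.card_centralized h28 hne hv hv2 hv1] at this
    omega
  have hcp : ∀ n : ℕ, ∀ x ∈ A, u ^ n * x = x * u ^ n := fun n x hx =>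
    ((show Commute u x from hc x hx).pow_left n).eq
  have h4 : u ^ 4 = 1 := key _ (pow_mem hu 4) (hcp 4) (by rw [← pow_add]; exact h8)
  have h2 : u ^ 2 = 1 := key _ (pow_mem hu 2) (hcp 2) (by rw [← pow_add]; exact h4)
  exact h1 (key u hu hc (by rw [← pow_two]; exact h2))

end Hyp

namespace Piv

variable {P Q : Sylow 3 T} {j : T} (hT : Hyp T) (h28 : Nat.card (Sylow 3 T) = 28) (hj : Piv P Q j)
include hT h28 hj

omit hT h28 in
theorem memH : j ∈ stabH P Q := ⟨hj.memP, hj.memQ⟩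

omit hT h28 in
theorem inv_eq : j⁻¹ = j := inv_eq_of_mul_eq_one_right hj.sq

theorem card_Lj : Nat.card (Lj P j) = 3 := hT.card_centralized h28 hj.ne hj.memH hj.sq hj.one

omit hT h28 in
theorem conj_Lj {h x : T} (hh : h ∈ stabH P Q) (hx : x ∈ Lj P j) : h * x * h⁻¹ ∈ Lj P j := by
  obtain ⟨hxP, hxj⟩ := mem_Lj.1 hx
  refine mem_Lj.2 ⟨conj_mem hh.1 hxP, ?_⟩
  have e := hj.comm h hh
  have e' : h⁻¹ * j = j * h⁻¹ := by
    have := hj.comm h⁻¹ (inv_mem hh)
    exact this.symm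
  calc h * x * h⁻¹ * j = h * (x * j) * h⁻¹ := by rw [mul_assoc, e']; simp only [mul_assoc]
    _ = h * j * x * h⁻¹ := by rw [hxj]; simp only [mul_assoc]
    _ = j * (h * x * h⁻¹) := by rw [← e]; simp only [mul_assoc]

omit hT h28 in
theorem conj_inI {h x : T} (hh : h ∈ stabH P Q) (hx : inI P j x) : inI P j (h * x * h⁻¹) := by
  refine ⟨conj_mem hh.1 hx.1, ?_⟩
  have e := hj.comm h hh
  have e' : h⁻¹ * j⁻¹ = j⁻¹ * h⁻¹ := by rw [← mul_inv_rev, ← mul_inv_rev, e]
  calc j * (h * x * h⁻¹) * j⁻¹ = j * h * x * (h⁻¹ * j⁻¹) := by group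
    _ = h * (j * x * j⁻¹) * h⁻¹ := by rw [e', e]; group
    _ = (h * x * h⁻¹)⁻¹ := by rw [hx.2]; group

/-- `L` is the centre in the non-abelian case. -/
theorem Lj_eq_Zs (hna : ¬ Ab (P : Subgroup T)) : Lj P j = Zs (P : Subgroup T) := by
  classical
  have hL := hj.card_Lj hT h28
  have hZ := hT.card_Zs_mul hna
  by_contra hLZ
  haveI := three_prime
  set L := Lj P j with hLdef
  set Z := Zs (P : Subgroup T) with hZdef
  have hA : 3 < Nat.card ↥(L ⊔ Z) := by
    rw [← hL]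
    refine lt_of_le_of_ne (Subgroup.card_le_of_le le_sup_left) fun e => hLZ ?_
    have h' : L = L ⊔ Z := Subgroup.eq_of_le_of_card_ge le_sup_left e.ge
    exact (Subgroup.eq_of_le_of_card_ge (h'.symm ▸ le_sup_right) (by rw [hL, hZ])).symm
  -- every element of the stabiliser acts on `L` and on `Z` by a sign
  have sgn : ∀ (D : Subgroup T), Nat.card D = 3 → ∀ d ∈ D, d ≠ 1 → ∀ h, h * d * h⁻¹ ∈ D →
      h * d * h⁻¹ = d ∨ h * d * h⁻¹ = d⁻¹ := by
    intro D hD d hd hd1 h hm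
    have hd3 : orderOf d = 3 := by
      have := orderOf_dvd_natCard (⟨d, hd⟩ : D)
      rw [hD, Subgroup.orderOf_mk] at this
      exact ((Nat.dvd_prime Nat.prime_three).1 this).resolve_left (fun e => hd1 (orderOf_eq_one_iff.1 e))
    have hgen : zpowers d = D := Subgroup.eq_of_le_of_card_ge (zpowers_le.2 hd)
      (by rw [hD, Nat.card_zpowers, hd3])
    rw [← hgen] at hm
    obtain ⟨k, hk⟩ := mem_zpowers_iff.1 hm
    rw [← zpow_mod_orderOf, hd3] at hk
    rcases (show k % (3 : ℕ) = 0 ∨ k % (3 : ℕ) = 1 ∨ k % (3 : ℕ) = 2 by omega) with e | e | e <;>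
      simp only [Nat.cast_ofNat] at e hk <;> rw [e] at hk
    · exfalso
      rw [zpow_zero] at hk
      exact hd1 (conj_eq_one_iff.1 hk.symm)
    · left; rw [← hk, zpow_one]
    · right
      rw [← hk]
      refine eq_inv_of_mul_eq_one_left ?_
      rw [← zpow_add_one, show (2 : ℤ) + 1 = ((3 : ℕ) : ℤ) by norm_num, zpow_natCast, ← hd3, pow_orderOf_eq_one]
  obtain ⟨l, hl, hl1⟩ : ∃ l ∈ L, l ≠ 1 := by
    by_contra hc
    push Not at hc
    rw [(Subgroup.eq_bot_iff_forall L).2 hc, Subgroup.card_bot] at hL; omega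
  obtain ⟨z, hz, hz1⟩ : ∃ z ∈ Z, z ≠ 1 := by
    by_contra hc
    push Not at hc
    rw [(Subgroup.eq_bot_iff_forall Z).2 hc, Subgroup.card_bot] at hZ; omega
  let f : stabH P Q → Bool × Bool := fun h =>
    (decide ((h : T) * l * (h : T)⁻¹ = l), decide ((h : T) * z * (h : T)⁻¹ = z))
  have hf : Function.Injective f := by
    intro a b e
    have key : ∀ (D : Subgroup T), Nat.card D = 3 → ∀ d ∈ D, d ≠ 1 →
        (∀ h : stabH P Q, (h : T) * d * (h : T)⁻¹ ∈ D) →
        decide ((a : T) * d * (a : T)⁻¹ = d) = decide ((b : T) * d * (b : T)⁻¹ = d) →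
        (a : T) * d * (a : T)⁻¹ = (b : T) * d * (b : T)⁻¹ := by
      intro D hD d hd hd1 hm he
      rcases sgn D hD d hd hd1 a (hm a) with ea | ea <;> rcases sgn D hD d hd hd1 b (hm b) with eb | eb
      · rw [ea, eb]
      · simp [ea] at he; rw [ea, he]
      · simp [eb] at he; rw [eb, he]
      · rw [ea, eb]
    have e1 := key L hL l hl hl1 (fun h => hj.conj_Lj h.2 hl) (Prod.ext_iff.1 e).1
    have e2 := key Z hZ z hz hz1 (fun h => conj_mem (hT.Zs_le_Nm h.2.1) hz) (Prod.ext_iff.1 e).2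
    have hfix : ∀ d, (a : T) * d * (a : T)⁻¹ = (b : T) * d * (b : T)⁻¹ →
        d ∈ centralizer ({((b : T)⁻¹ * a)} : Set T) := fun d h => by
      rw [mem_centralizer_singleton_iff]
      calc d * ((b : T)⁻¹ * a) = (b : T)⁻¹ * ((b : T) * d * (b : T)⁻¹) * a := by group
        _ = (b : T)⁻¹ * ((a : T) * d * (a : T)⁻¹) * a := by rw [h]
        _ = (b : T)⁻¹ * a * d := by group
    have hle : L ⊔ Z ≤ centralizer ({((b : T)⁻¹ * a)} : Set T) := by
      refine sup_le ?_ ?_
      · intro x hx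
        have hgen : zpowers l = L := Subgroup.eq_of_le_of_card_ge (zpowers_le.2 hl) (by
          rw [hL, Nat.card_zpowers, hT.orderOf_eq_three P.2 (mem_Lj.1 hl).1 hl1])
        exact (zpowers_le.2 (hfix l e1)) (hgen.symm ▸ hx)
      · intro x hx
        have hgen : zpowers z = Z := Subgroup.eq_of_le_of_card_ge (zpowers_le.2 hz) (by
          rw [hZ, Nat.card_zpowers, hT.orderOf_eq_three P.2 hz.1 hz1])
        exact (zpowers_le.2 (hfix z e2)) (hgen.symm ▸ hx)
    have h1 : (b : T)⁻¹ * a = 1 := hT.eq_one_of_fixes h28 hj.ne (mul_mem (inv_mem b.2) a.2)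
      (sup_le inf_le_left inf_le_left) hA
      (fun x hx => (mem_centralizer_singleton_iff.1 (hle hx)).symm)
    exact Subtype.ext (inv_mul_eq_one.1 h1).symm
  have := Nat.card_le_card_of_injective f hf
  rw [hT.card_stabH h28 hj.ne, Nat.card_prod, Nat.card_eq_fintype_card, Fintype.card_bool] at this
  omega

theorem Lj_central {l x : T} (hl : l ∈ Lj P j) (hx : x ∈ (P : Subgroup T)) : l * x = x * l := by
  by_cases hab : Ab (P : Subgroup T)
  · exact hab l (mem_Lj.1 hl).1 x hx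
  · rw [hj.Lj_eq_Zs hT h28 hab] at hl
    exact (hl.2 x hx).symm

theorem comm_mem_Lj {x y : T} (hx : x ∈ (P : Subgroup T)) (hy : y ∈ (P : Subgroup T)) :
    x⁻¹ * y⁻¹ * x * y ∈ Lj P j := by
  have hm : x⁻¹ * y⁻¹ * x * y ∈ (P : Subgroup T) :=
    mul_mem (mul_mem (mul_mem (inv_mem hx) (inv_mem hy)) hx) hy
  by_cases hab : Ab (P : Subgroup T)
  · rw [show x⁻¹ * y⁻¹ * x * y = 1 by
      rw [mul_assoc (x⁻¹ * y⁻¹), hab x hx y hy]; group]
    exact one_mem _
  · rw [hj.Lj_eq_Zs hT h28 hab]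
    exact ⟨hm, fun w hw => ((hT.center_ne P x y hx hy w hw).eq).symm⟩

/-- Every element is an inverted one times a fixed one. -/
theorem exists_split {x : T} (hx : x ∈ (P : Subgroup T)) : ∃ i l, inI P j i ∧ l ∈ Lj P j ∧ x = i * l := by
  set y := j * x * j⁻¹ with hy
  have hyP : y ∈ (P : Subgroup T) := conj_mem hj.memP hx
  set w := x * y with hw
  have hc := hj.comm_mem_Lj hT h28 hyP hx
  -- `j` moves `w` inside its class
  have hjw : j * w * j⁻¹ = w * (y⁻¹ * x⁻¹ * y * x) := by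
    have hjy : j * y * j⁻¹ = x := by
      rw [hy, show j * (j * x * j⁻¹) * j⁻¹ = (j * j) * x * (j * j)⁻¹ by group, hj.sq]; group
    calc j * w * j⁻¹ = (j * x * j⁻¹) * (j * y * j⁻¹) := by rw [hw]; group
      _ = y * x := by rw [hjy]
      _ = w * (y⁻¹ * x⁻¹ * y * x) := by rw [hw]; group
  have hfix := eq_one_of_fixed (u := j) (m := 1) (by rw [pow_one, pow_two, hj.sq]) hjw
    (mem_Lj.1 hc).2.symm (hT.pow_three_of_mem (mem_Lj.1 hc).1)
  rw [hfix, mul_one] at hjw
  have hwL : w ∈ Lj P j := mem_Lj.2 ⟨mul_mem hx hyP, (mul_inv_eq_iff_eq_mul.1 hjw).symm⟩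
  refine ⟨x * w, w⁻¹, ⟨mul_mem hx (mem_Lj.1 hwL).1, ?_⟩, inv_mem hwL, by group⟩
  have hwx : w * x = x * w := hj.Lj_central hT h28 hwL hx
  have e1 : j * w * j⁻¹ = w := hjw
  have h3 := hT.pow_three_of_mem (mem_Lj.1 hwL).1
  rw [show j * (x * w) * j⁻¹ = y * (j * w * j⁻¹) by rw [hy]; group, e1,
    show y = x⁻¹ * w by rw [hw]; group]
  refine eq_inv_of_mul_eq_one_left ?_
  have hwwx : w * w * x = x * (w * w) := ((show Commute w x from hwx).mul_left hwx).eq
  calc x⁻¹ * w * w * (x * w) = x⁻¹ * (w * w * x) * w := by group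
    _ = w * w * w := by rw [hwwx]; group
    _ = w ^ 3 := by simp [pow_succ]
    _ = 1 := h3

theorem eq_of_inI {i i' l : T} (hi : inI P j i) (hi' : inI P j i') (hl : l ∈ Lj P j) (e : i' = i * l) :
    l = 1 := by
  have h1 : j * l * j⁻¹ = l := mul_inv_eq_iff_eq_mul.2 (mem_Lj.1 hl).2.symm
  have h2 := hi'.2
  rw [e, show j * (i * l) * j⁻¹ = j * i * j⁻¹ * (j * l * j⁻¹) by group, hi.2, h1, mul_inv_rev,
    ← hj.Lj_central hT h28 hl (inv_mem hi.1)] at h2
  have h4 : l * l = 1 := by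
    have := mul_right_cancel h2
    exact mul_eq_one_iff_eq_inv.2 this
  have h3 := hT.pow_three_of_mem (mem_Lj.1 hl).1
  rwa [pow_succ, pow_two, h4, one_mul] at h3

omit hT h28 in
theorem inI_inv {x : T} (hx : inI P j x) : inI P j x⁻¹ :=
  ⟨inv_mem hx.1, by rw [show j * x⁻¹ * j⁻¹ = (j * x * j⁻¹)⁻¹ by group, hx.2]⟩

omit hT h28 in
theorem inI_one : inI P j 1 := ⟨one_mem _, by simp⟩

/-- The stabiliser is faithful on the inverted elements. -/
theorem eq_one_of_fixes_inI {h : T} (hh : h ∈ stabH P Q) (hfix : ∀ x, inI P j x → h * x = x * h) :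
    h = 1 := by
  classical
  -- first for the squares
  have key : ∀ v ∈ stabH P Q, (∀ x, inI P j x → v * x = x * v) → (∀ l ∈ Lj P j, v * l = l * v) → v = 1 := by
    intro v hv hvI hvL
    refine hT.eq_one_of_centralizes h28 hj.ne hv fun x hx => ?_
    obtain ⟨i, l, hi, hl, rfl⟩ := hj.exists_split hT h28 hx
    exact ((show Commute v i from hvI i hi).mul_right (hvL l hl)).eq
  have h2 : h * h = 1 := by
    refine key _ (mul_mem hh hh) (fun x hx =>
      ((show Commute h x from hfix x hx).mul_left (hfix x hx)).eq) fun l hl => ?_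
    haveI := three_prime
    by_cases hl1 : l = 1
    · simp [hl1]
    have hgen : zpowers l = Lj P j := Subgroup.eq_of_le_of_card_ge (zpowers_le.2 hl) (by
      rw [hj.card_Lj hT h28, Nat.card_zpowers, hT.orderOf_eq_three P.2 (mem_Lj.1 hl).1 hl1])
    have h1 := hj.conj_Lj hh hl
    rw [← hgen] at h1
    obtain ⟨k, hk⟩ := mem_powers_iff_mem_zpowers.2 h1
    have hk' : l ^ k = h * l * h⁻¹ := hk
    have e : h * h * l * (h * h)⁻¹ = l ^ (k * k) := by
      rw [show h * h * l * (h * h)⁻¹ = h * (h * l * h⁻¹) * h⁻¹ by group, ← hk', ← conj_pow, ← hk', ← pow_mul]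
    have h3 : l ^ 3 = 1 := hT.pow_three_of_mem (mem_Lj.1 hl).1
    have hk3 : k % 3 ≠ 0 := fun h0 => by
      rw [pow_eq_pow_mod k h3, h0, pow_zero] at hk'
      exact hl1 (conj_eq_one_iff.1 hk'.symm)
    rw [pow_eq_pow_mod (k * k) h3, Nat.mul_mod] at e
    rw [show k % 3 * (k % 3) % 3 = 1 by
      rcases (show k % 3 = 1 ∨ k % 3 = 2 by omega) with e | e <;> rw [e], pow_one] at e
    exact mul_inv_eq_iff_eq_mul.1 e
  by_contra h1
  have hc := hT.card_centralized h28 hj.ne hh h2 h1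
  have hsplit : Nat.card (P : Subgroup T) ≤ Nat.card {x : T // inI P j x} * Nat.card (Lj P j) := by
    rw [← Nat.card_prod]
    let f : ↥(P : Subgroup T) → {x : T // inI P j x} × Lj P j := fun x =>
      (⟨(hj.exists_split hT h28 x.2).choose, (hj.exists_split hT h28 x.2).choose_spec.choose_spec.1⟩,
        ⟨(hj.exists_split hT h28 x.2).choose_spec.choose, (hj.exists_split hT h28 x.2).choose_spec.choose_spec.2.1⟩)
    refine Nat.card_le_card_of_injective f fun a b e => ?_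
    have ea := (hj.exists_split hT h28 a.2).choose_spec.choose_spec.2.2
    have eb := (hj.exists_split hT h28 b.2).choose_spec.choose_spec.2.2
    apply Subtype.ext
    have e1 := congrArg (fun p : {x : T // inI P j x} × Lj P j => p.1.1) e
    have e2 := congrArg (fun p : {x : T // inI P j x} × Lj P j => p.2.1) e
    rw [ea, eb]
    exact congrArg₂ (· * ·) e1 e2
  have hle : Nat.card {x : T // inI P j x} ≤ Nat.card (Lj P h) :=
    Nat.card_le_card_of_injective (fun x => ⟨x.1, mem_Lj.2 ⟨x.2.1, (hfix x.1 x.2).symm⟩⟩)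
      fun a b e => Subtype.ext (congrArg Subtype.val e :)
  rw [hc] at hle
  rw [hT.card_sylow, hj.card_Lj hT h28] at hsplit
  omega

end Piv

end Cfsg.Agent.Lib.U33Recog
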