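import Cfsg.Agent.Lib.U33Recog.Points

/-!
With 28 Sylow 3-subgroups, distinct ones meet trivially.
-/

set_option autoImplicit false

namespace Cfsg.Agent.Lib.U33Recog

open Subgroup
open Cfsg.Agent.Lib.SmallGroups

variable {T : Type*} [Group T] [Finite T]

/-- `Q` shares exactly three elements with `P`. -/
def Meet3 (P Q : Sylow 3 T) : Prop := Q ≠ P ∧ Nat.card ↥((P : Subgroup T) ⊓ Q) = 3

/-- `Q` shares exactly nine elements with `P`. -/
def Meet9 (P Q : Sylow 3 T) : Prop := Q ≠ P ∧ Nat.card ↥((P : Subgroup T) ⊓ Q) = 9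

namespace Hyp

variable (hT : Hyp T) (h28 : Nat.card (Sylow 3 T) = 28)
include hT

theorem card_inf_cases {P Q : Sylow 3 T} (hne : Q ≠ P) :
    Nat.card ↥((P : Subgroup T) ⊓ Q) ∈ ({1, 3, 9} : Finset ℕ) := by
  have h1 := Subgroup.card_dvd_of_le (inf_le_left : (P : Subgroup T) ⊓ Q ≤ P)
  rw [hT.card_sylow] at h1
  have d1 := Nat.mem_divisors.2 ⟨h1, by norm_num⟩
  rw [show Nat.divisors 27 = {1, 3, 9, 27} from by decide] at d1
  simp only [Finset.mem_insert, Finset.mem_singleton] at d1 ⊢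
  rcases d1 with h | h | h | h
  · exact Or.inl h
  · exact Or.inr (Or.inl h)
  · exact Or.inr (Or.inr h)
  · exfalso
    apply hne
    have e := Subgroup.eq_of_le_of_card_ge (inf_le_left : (P : Subgroup T) ⊓ Q ≤ P) (by rw [h, hT.card_sylow])
    exact Sylow.ext (Subgroup.eq_of_le_of_card_ge (e ▸ inf_le_right) (by rw [hT.card_sylow, hT.card_sylow])).symm

theorem isPGroup_inf (P Q : Sylow 3 T) : IsPGroup 3 ↥((P : Subgroup T) ⊓ Q) := P.2.to_le inf_le_left

include h28

theorem card_others (P : Sylow 3 T) : Nat.card {Q : Sylow 3 T // Q ≠ P} = 27 := by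
  classical
  haveI := Fintype.ofFinite (Sylow 3 T)
  rw [Nat.card_eq_fintype_card, Fintype.card_subtype_compl, Fintype.card_subtype_eq,
    ← Nat.card_eq_fintype_card, h28]

theorem index_inf {P Q : Sylow 3 T} (hQ : Q ≠ P) :
    Nat.card (MulAction.orbit ↥(P : Subgroup T) Q) * Nat.card ↥((P : Subgroup T) ⊓ Q) = 27 := by
  rw [Nat.card_congr (MulAction.orbitEquivQuotientStabilizer _ Q), ← Subgroup.index_eq_card]
  have hst : MulAction.stabilizer ↥(P : Subgroup T) Q = (Q : Subgroup T).subgroupOf (P : Subgroup T) := by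
    ext x
    rw [MulAction.mem_stabilizer_iff, Subgroup.mem_subgroupOf, ← smul_eq_iff_mem x.2]
    rfl
  rw [hst, mul_comm]
  exact (card_inf_mul_relIndex _ _).trans (hT.card_sylow P)

/-- A point with trivial intersection makes all points so. -/
theorem all_one {P Q : Sylow 3 T} (hQ : Q ≠ P) (h1 : Nat.card ↥((P : Subgroup T) ⊓ Q) = 1) :
    ∀ R : Sylow 3 T, R ≠ P → Nat.card ↥((P : Subgroup T) ⊓ R) = 1 := by
  intro R hR
  have horb := hT.index_inf h28 hQ
  rw [h1, mul_one] at horb
  let f : MulAction.orbit ↥(P : Subgroup T) Q → {R : Sylow 3 T // R ≠ P} := fun S => ⟨S.1, by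
    obtain ⟨x, hx⟩ := S.2
    intro e
    apply hQ
    have hx' : (x : T) • Q = P := hx.trans e
    exact smul_left_cancel (x : T) (hx'.trans (mem_Nm_sylow.1 (Subgroup.le_normalizer x.2)).symm)⟩
  have hf : Function.Bijective f := Function.Injective.bijective_of_nat_card_le
    (fun a b e => Subtype.ext (congrArg Subtype.val e :)) (by rw [hT.card_others h28, horb])
  obtain ⟨⟨S, x, hx⟩, hS⟩ := hf.2 ⟨R, hR⟩
  have hRS : (x : T) • Q = R := hx.trans (congrArg Subtype.val hS)
  rw [← hRS, inf_smul (Subgroup.le_normalizer x.2), cjg, card_conj, h1]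

/-- Sylow subgroups above a normalised subgroup. -/
theorem card_above {D : Subgroup T} (hD : IsPGroup 3 D) {P : Sylow 3 T} (hP : (P : Subgroup T) ≤ Nm D)
    (hQ : ∀ Q : Sylow 3 T, D ≤ Q → (Q : Subgroup T) ≤ Nm D) :
    Nat.card {Q : Sylow 3 T // D ≤ Q} = Nat.card (Sylow 3 (Nm D)) := by
  rw [hT.sylow_equiv hP]
  exact Nat.card_congr (Equiv.subtypeEquivRight fun Q => ⟨hQ Q, fun h => le_sylow_of_le_Nm hD h⟩)

theorem sylow_count {D : Subgroup T} (hD : IsPGroup 3 D) (hne : D ≠ ⊥) {P : Sylow 3 T}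
    (hP : (P : Subgroup T) ≤ Nm D) :
    Nat.card (Sylow 3 (Nm D)) ∈ ({1, 4, 16} : Finset ℕ) ∧
      (Nat.card (Sylow 3 (Nm D)) = 16 → ∀ g ∈ Nm (P : Subgroup T), g ∈ Nm D → g ∈ (P : Subgroup T)) := by
  haveI := three_prime
  have h := card_eq_sylow_mul (Nm D) hP
  have h27 := Subgroup.card_dvd_of_le (le_inf hP Subgroup.le_normalizer :
    (P : Subgroup T) ≤ Nm D ⊓ Nm (P : Subgroup T))
  rw [hT.card_sylow] at h27
  obtain ⟨k, hk⟩ := h27
  obtain ⟨hd, hle⟩ := hT.card_Nm hD hne
  rw [hk] at h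
  have hn32 : Nat.card (Sylow 3 (Nm D)) ∣ 32 := by
    rw [h, show 864 = 27 * 32 by norm_num, mul_assoc] at hd
    exact (dvd_mul_left _ _).trans (Nat.dvd_of_mul_dvd_mul_left (by norm_num) hd)
  have hmod := hT.sylow_mod (L := Nm D)
  have hd' := Nat.mem_divisors.2 ⟨hn32, by norm_num⟩
  rw [show Nat.divisors 32 = {1, 2, 4, 8, 16, 32} from by decide] at hd'
  simp only [Finset.mem_insert, Finset.mem_singleton] at hd' ⊢
  refine ⟨by omega, fun h16 g hgP hgD => ?_⟩
  have hk1 : k = 1 := by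
    rw [h16] at h
    rcases Nat.eq_zero_or_pos k with rfl | hk0
    · have : 0 < Nat.card ↥(Nm D ⊓ Nm (P : Subgroup T)) := Nat.card_pos
      omega
    · omega
  have e : (P : Subgroup T) = Nm D ⊓ Nm (P : Subgroup T) :=
    Subgroup.eq_of_le_of_card_ge (le_inf hP Subgroup.le_normalizer) (by rw [hk, hk1, hT.card_sylow])
  rw [e]; exact ⟨hgD, hgP⟩

theorem meet9_orbit {P Q : Sylow 3 T} (h : Meet9 P Q) :
    Good ((P : Subgroup T) ⊓ Q) P ∧
      Nat.card {R : Sylow 3 T // R ≠ P ∧ (P : Subgroup T) ⊓ Q ≤ R} = 3 := by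
  haveI := three_prime
  classical
  set D := (P : Subgroup T) ⊓ Q with hD
  have hG : Good D P := ⟨inf_le_left, h.2, Q, h.1, inf_le_right⟩
  have hD3 : IsPGroup 3 D := isPGroup_of_card_nine h.2
  have hne : D ≠ ⊥ := fun e => by
    have := h.2
    rw [← hD, e, Subgroup.card_bot] at this; omega
  have hP : (P : Subgroup T) ≤ Nm D := hG.le_Nm hT
  have hQs : ∀ R : Sylow 3 T, D ≤ R → (R : Subgroup T) ≤ Nm D := fun R hR =>
    sylow_le_Nm hR (by rw [h.2, hT.card_sylow])
  obtain ⟨hn, h16⟩ := hT.sylow_count h28 hD3 hne hP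
  have habove := hT.card_above h28 hD3 hP hQs
  have hothers : Nat.card {R : Sylow 3 T // R ≠ P ∧ D ≤ R} + 1 = Nat.card (Sylow 3 (Nm D)) := by
    haveI := Fintype.ofFinite (Sylow 3 T)
    rw [← habove, Nat.card_eq_fintype_card, Nat.card_eq_fintype_card, Fintype.card_subtype, Fintype.card_subtype,
      ← Finset.card_insert_of_notMem (a := P) (by simp)]
    congr 1
    ext R
    simp only [Finset.mem_insert, Finset.mem_filter, Finset.mem_univ, true_and]
    constructor
    · rintro (rfl | ⟨-, hR⟩)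
      exacts [inf_le_left, hR]
    · intro hR
      by_cases e : R = P
      exacts [Or.inl e, Or.inr ⟨e, hR⟩]
  refine ⟨hG, ?_⟩
  simp only [Finset.mem_insert, Finset.mem_singleton] at hn
  rcases hn with hn | hn | hn
  · exfalso
    haveI : Nonempty {R : Sylow 3 T // R ≠ P ∧ D ≤ R} := ⟨⟨Q, h.1, inf_le_right⟩⟩
    have : 0 < Nat.card {R : Sylow 3 T // R ≠ P ∧ D ≤ R} := Nat.card_pos
    omega
  · omega
  exfalso
  rw [hn] at hothers
  let Pn := (P : Subgroup T).subgroupOf (Nm (P : Subgroup T))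
  have hinf : ∀ (g : T), g ∈ Nm (P : Subgroup T) → ∀ R : Sylow 3 T, R ≠ P → D ≤ R →
      (P : Subgroup T) ⊓ ((g • R : Sylow 3 T) : Subgroup T) = cjg g D := by
    intro g hg R hR hDR
    rw [inf_smul hg]
    congr 1
    refine (Subgroup.eq_of_le_of_card_ge (le_inf inf_le_left hDR) ?_).symm
    have h9 := h.2
    have := hT.card_inf_cases hR
    simp only [Finset.mem_insert, Finset.mem_singleton] at this
    change _ ≤ Nat.card ↥((P : Subgroup T) ⊓ Q)
    omega
  let f : (↥(Nm (P : Subgroup T)) ⧸ Pn) × {R : Sylow 3 T // R ≠ P ∧ D ≤ R} → {R : Sylow 3 T // R ≠ P} :=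
    fun s => ⟨s.1.out.1 • s.2.1, fun e => s.2.2.1 (smul_left_cancel s.1.out.1
      (e.trans (mem_Nm_sylow.1 s.1.out.2).symm))⟩
  have hf : Function.Injective f := by
    rintro ⟨a, R, hR, hDR⟩ ⟨b, R', hR', hDR'⟩ e
    have e' : a.out.1 • R = b.out.1 • R' := congrArg Subtype.val e
    have e2 : cjg a.out.1 D = cjg b.out.1 D := by
      rw [← hinf _ a.out.2 R hR hDR, ← hinf _ b.out.2 R' hR' hDR', e']
    have hab : a.out.1⁻¹ * b.out.1 ∈ Nm D := mem_Nm_of_conj fun y hy => by
      have hb : b.out.1 * y * b.out.1⁻¹ ∈ cjg a.out.1 D := e2 ▸ ⟨y, hy, rfl⟩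
      have := mem_map_conj.1 hb
      rwa [show a.out.1⁻¹ * b.out.1 * y * (a.out.1⁻¹ * b.out.1)⁻¹ =
        a.out.1⁻¹ * (b.out.1 * y * b.out.1⁻¹) * a.out.1 by group]
    have hmem := h16 hn _ (mul_mem (inv_mem a.out.2) b.out.2) hab
    have hab' : a = b := by
      rw [← a.out_eq, ← b.out_eq, Quotient.eq, QuotientGroup.leftRel_apply, Subgroup.mem_subgroupOf]
      exact hmem
    subst hab'
    have hRR : R = R' := smul_left_cancel _ e'
    subst hRR
    rfl
  have hle := Nat.card_le_card_of_injective f hf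
  have hq : Nat.card (↥(Nm (P : Subgroup T)) ⧸ Pn) = 8 := by
    have := Subgroup.card_eq_card_quotient_mul_card_subgroup Pn
    rw [Nat.card_congr (subgroupOfEquivOfLe Subgroup.le_normalizer).toEquiv, hT.card_sylow, hT.card_Nm_216 h28] at this
    omega
  rw [Nat.card_prod, hq, hT.card_others h28] at hle
  omega

theorem dvd_meet9 {P : Sylow 3 T} (h9 : ∃ Q, Meet9 P Q) :
    (∀ Q : Sylow 3 T, Q ≠ P → Meet9 P Q ∨ Meet3 P Q) ∧ 9 ∣ Nat.card {Q // Meet3 P Q} ∧
      Nat.card {Q // Meet3 P Q} + Nat.card {Q // Meet9 P Q} = 27 := by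
  classical
  obtain ⟨Q0, hQ0⟩ := h9
  have hall : ∀ Q : Sylow 3 T, Q ≠ P → Meet9 P Q ∨ Meet3 P Q := by
    intro Q hQ
    have := hT.card_inf_cases hQ
    simp only [Finset.mem_insert, Finset.mem_singleton] at this
    rcases this with h | h | h
    · have := hT.all_one h28 hQ h Q0 hQ0.1
      rw [hQ0.2] at this; omega
    · exact Or.inr ⟨hQ, h⟩
    · exact Or.inl ⟨hQ, h⟩
  refine ⟨hall, hT.nine_dvd h28 P _ ?_ (fun Q h => h.2.le), ?_⟩
  · rintro x hx Q ⟨hQ, hc⟩
    refine ⟨fun e => hQ (smul_left_cancel x (e.trans (mem_Nm_sylow.1 (Subgroup.le_normalizer hx)).symm)), ?_⟩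
    rw [inf_smul (Subgroup.le_normalizer hx), cjg, card_conj, hc]
  · haveI := Fintype.ofFinite (Sylow 3 T)
    have h27 := hT.card_others h28 P
    rw [Nat.card_eq_fintype_card, Fintype.card_subtype] at h27 ⊢
    rw [Nat.card_eq_fintype_card, Fintype.card_subtype, ← Finset.card_union_of_disjoint, ← h27]
    · congr 1
      ext Q
      simp only [Finset.mem_union, Finset.mem_filter, Finset.mem_univ, true_and]
      constructor
      · rintro (h | h) <;> exact h.1
      · intro h; exact (hall Q h).symm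
    · rw [Finset.disjoint_left]
      intro Q hA hB
      simp only [Finset.mem_filter, Finset.mem_univ, true_and] at hA hB
      have := hA.2.symm.trans hB.2
      omega

theorem false_meet9_ab {P : Sylow 3 T} (hab : Ab (P : Subgroup T)) (h9 : ∃ Q, Meet9 P Q) : False := by
  classical
  haveI := three_prime
  haveI := Fintype.ofFinite T
  haveI := Fintype.ofFinite (Sylow 3 T)
  obtain ⟨Q0, hQ0⟩ := h9
  obtain ⟨hall, hd, hsum⟩ := hT.dvd_meet9 h28 ⟨Q0, hQ0⟩
  have hge : 9 ≤ Nat.card {Q // Meet9 P Q} := by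
    haveI : Nonempty {Q // Meet9 P Q} := ⟨⟨Q0, hQ0⟩⟩
    have h1 : 0 < Nat.card {Q // Meet9 P Q} := Nat.card_pos
    obtain ⟨c, hc⟩ := hd
    omega
  have habQ : ∀ S : Sylow 3 T, Ab (S : Subgroup T) := fun S a ha b hb => by
    obtain ⟨g, rfl⟩ := MulAction.exists_smul_eq T P S
    rw [sylow_le_iff_conj] at ha hb
    obtain ⟨a', ha', rfl⟩ := ha
    obtain ⟨b', hb', rfl⟩ := hb
    rw [← map_mul, ← map_mul, hab a' ha' b' hb']
  set Xs : Finset T := Finset.univ.filter fun x => x ∈ (P : Subgroup T) ∧ x ≠ 1 with hXs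
  set Os : Finset (Sylow 3 T) := Finset.univ.filter fun Q => Q ≠ P with hOs
  -- the double count
  have hswap := Finset.sum_card_bipartiteAbove_eq_sum_card_bipartiteBelow
    (fun (x : T) (Q : Sylow 3 T) => x ∈ (Q : Subgroup T)) (s := Xs) (t := Os)
  have hright : ∀ Q ∈ Os, (Finset.bipartiteBelow (fun (x : T) (Q : Sylow 3 T) => x ∈ (Q : Subgroup T)) Xs Q).card + 1 =
      Nat.card ↥((P : Subgroup T) ⊓ Q) := by
    intro Q _
    rw [Nat.card_eq_fintype_card, Fintype.card_subtype, ← Finset.card_insert_of_notMem (a := (1 : T))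
      (by simp [Finset.bipartiteBelow, Xs])]
    congr 1
    ext x
    simp only [Finset.bipartiteBelow, Xs, Finset.mem_insert, Finset.mem_filter, Finset.mem_univ, true_and,
      Subgroup.mem_inf]
    constructor
    · rintro (rfl | ⟨⟨h1, -⟩, h2⟩)
      exacts [⟨one_mem _, one_mem _⟩, ⟨h1, h2⟩]
    · rintro ⟨h1, h2⟩
      by_cases e : x = 1
      exacts [Or.inl e, Or.inr ⟨⟨h1, e⟩, h2⟩]
  -- the count at one element
  have hf : ∀ x ∈ Xs, ∀ g, g = Nat.card (Sylow 3 (Nm (zpowers x))) →
      (Finset.bipartiteAbove (fun (x : T) (Q : Sylow 3 T) => x ∈ (Q : Subgroup T)) Os x).card + 1 = g := by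
    intro x hx g hg
    simp only [Xs, Finset.mem_filter, Finset.mem_univ, true_and] at hx
    have hx3 : IsPGroup 3 (zpowers x) := P.2.to_le (zpowers_le.2 hx.1)
    have hle : ∀ R : Sylow 3 T, zpowers x ≤ R → (R : Subgroup T) ≤ Nm (zpowers x) := fun R hR s hs =>
      mem_Nm_of_conj fun w hw => by
        rw [habQ R s hs w (hR hw), mul_inv_cancel_right]; exact hw
    rw [hg, ← hT.card_above h28 hx3 (hle P (zpowers_le.2 hx.1)) hle, Nat.card_eq_fintype_card,
      Fintype.card_subtype, ← Finset.card_insert_of_notMem (a := P) (by simp [Finset.bipartiteAbove, Os])]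
    congr 1
    ext R
    simp only [Finset.bipartiteAbove, Os, Finset.mem_insert, Finset.mem_filter, Finset.mem_univ, true_and,
      zpowers_le]
    constructor
    · rintro (rfl | ⟨-, h⟩)
      exacts [hx.1, h]
    · intro h
      by_cases e : R = P
      exacts [Or.inl e, Or.inr ⟨e, h⟩]
  have hXcard : Xs.card = 26 := by
    have h := hT.card_sylow P
    rw [Nat.card_eq_fintype_card, Fintype.card_subtype] at h
    have e : Xs = (Finset.univ.filter fun x => x ∈ (P : Subgroup T)).erase 1 := by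
      ext x; simp [Xs, and_comm]
    rw [e, Finset.card_erase_of_mem (by simp), h]
  have hOcard : Os.card = 27 := by
    have h := hT.card_others h28 P
    rwa [Nat.card_eq_fintype_card, Fintype.card_subtype] at h
  set L := ∑ x ∈ Xs, (Finset.bipartiteAbove (fun (x : T) (Q : Sylow 3 T) => x ∈ (Q : Subgroup T)) Os x).card
  set R := ∑ Q ∈ Os, (Finset.bipartiteBelow (fun (x : T) (Q : Sylow 3 T) => x ∈ (Q : Subgroup T)) Xs Q).card
  have hRle : R ≤ 27 * 8 := by
    rw [← hOcard, ← smul_eq_mul]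
    refine Finset.sum_le_card_nsmul _ _ _ fun Q hQ => ?_
    have h1 := hright Q hQ
    have h2 := hT.card_inf_cases (Finset.mem_filter.1 hQ).2
    simp only [Finset.mem_insert, Finset.mem_singleton] at h2
    omega
  -- no element with 16 Sylow subgroups
  have h4 : ∀ x ∈ Xs, Nat.card (Sylow 3 (Nm (zpowers x))) ≤ 4 := by
    intro x hx
    have hx' := hx
    simp only [Xs, Finset.mem_filter, Finset.mem_univ, true_and] at hx'
    have hx3 : IsPGroup 3 (zpowers x) := P.2.to_le (zpowers_le.2 hx'.1)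
    have hPx : (P : Subgroup T) ≤ Nm (zpowers x) := fun s hs => mem_Nm_of_conj fun w hw => by
      rw [hab s hs w ((zpowers_le.2 hx'.1) hw), mul_inv_cancel_right]; exact hw
    obtain ⟨hn, h16⟩ := hT.sylow_count h28 hx3 (fun e => hx'.2 (Subgroup.zpowers_eq_bot.1 e)) hPx
    simp only [Finset.mem_insert, Finset.mem_singleton] at hn
    rcases hn with hn | hn | hn
    · omega
    · omega
    exfalso
    -- sixteen elements, each on fifteen other points
    obtain ⟨S', hS'⟩ := _root_.Sylow.exists_subgroup_card_pow_prime (G := Nm (P : Subgroup T)) 2 (n := 3)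
      (by haveI : Fact (Nat.Prime 2) := ⟨Nat.prime_two⟩; rw [hT.card_Nm_216 h28]; norm_num)
    haveI := Fintype.ofFinite S'
    let c : S' × Bool → T := fun s => (s.1 : T) * (if s.2 then x else x⁻¹) * (s.1 : T)⁻¹
    have hcz : ∀ s : S' × Bool, (s.1 : T)⁻¹ * c s * (s.1 : T) = (if s.2 then x else x⁻¹) := fun s => by
      simp only [c]; group
    have hmemz : ∀ b : Bool, (if b then x else x⁻¹) ∈ zpowers x ∧ x ∈ zpowers (if b then x else x⁻¹) := by
      rintro (_ | _) <;> simp [mem_zpowers, inv_mem_iff]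
    have hcinj : Function.Injective c := by
      intro s s' e
      have hg : (s'.1 : T)⁻¹ * (s.1 : T) ∈ Nm (zpowers x) := by
        refine mem_Nm_of_conj fun w hw => ?_
        obtain ⟨k, rfl⟩ := mem_zpowers_iff.1 hw
        obtain ⟨j, hj⟩ := mem_zpowers_iff.1 (hmemz s.2).2
        have h1 : (s'.1 : T)⁻¹ * (s.1 : T) * (if s.2 then x else x⁻¹) * ((s'.1 : T)⁻¹ * (s.1 : T))⁻¹ =
            (if s'.2 then x else x⁻¹) := by
          rw [← hcz s', ← e]; simp only [c]; group
        have hw' : x ^ k = (if s.2 then x else x⁻¹) ^ (j * k) := by rw [zpow_mul, hj]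
        rw [hw', ← MulAut.conj_apply, map_zpow, MulAut.conj_apply, h1]
        exact zpow_mem (hmemz s'.2).1 _
      have hP' := h16 hn _ (mul_mem (inv_mem s'.1.1.2) s.1.1.2) hg
      have hss : s'.1 = s.1 := by
        have h8 : orderOf ((s'.1⁻¹ * s.1 : S') : T) ∣ 8 := by
          rw [← show orderOf (s'.1⁻¹ * s.1) = orderOf ((s'.1⁻¹ * s.1 : S') : T) by
            rw [← Subgroup.orderOf_coe, ← Subgroup.orderOf_coe]]
          have := orderOf_dvd_natCard (s'.1⁻¹ * s.1)
          rwa [hS', show 2 ^ 3 = 8 by norm_num] at this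
        by_contra hne
        have hne1 : ((s'.1⁻¹ * s.1 : S') : T) ≠ 1 := fun e1 =>
          hne (inv_mul_eq_one.1 (Subtype.ext (Subtype.ext e1)))
        rw [hT.orderOf_eq_three P.2 (x := ((s'.1⁻¹ * s.1 : S') : T)) hP' hne1] at h8
        norm_num at h8
      refine Prod.ext hss.symm ?_
      have h2 : (if s.2 then x else x⁻¹) = (if s'.2 then x else x⁻¹) := by
        rw [← hcz s, ← hcz s', hss, e]
      have hxx : x ≠ x⁻¹ := fun e1 => by
        have h3 := hT.pow_three_of_mem hx'.1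
        rw [pow_succ, sq, eq_inv_iff_mul_eq_one.1 e1, one_mul] at h3
        exact hx'.2 h3
      cases hb : s.2 <;> cases hb' : s'.2 <;> simp [hb, hb'] at h2 ⊢
      · exact hxx h2.symm
      · exact hxx h2
    have hcX : ∀ s, c s ∈ Xs := fun s => by
      simp only [Xs, Finset.mem_filter, Finset.mem_univ, true_and]
      refine ⟨conj_mem s.1.1.2 ((zpowers_le.2 hx'.1) (hmemz s.2).1), fun e => hx'.2 ?_⟩
      have := hcz s
      rw [e, mul_one, inv_mul_cancel] at this
      cases hb : s.2 <;> simp [hb] at this <;> simp [this]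
    have h15 : ∀ s, 15 ≤ (Finset.bipartiteAbove (fun (x : T) (Q : Sylow 3 T) => x ∈ (Q : Subgroup T)) Os (c s)).card := by
      intro s
      have hz : zpowers (c s) = cjg (s.1 : T) (zpowers x) := by
        have e : zpowers (if s.2 then x else x⁻¹) = zpowers x :=
          le_antisymm (zpowers_le.2 (hmemz s.2).1) (zpowers_le.2 (hmemz s.2).2)
        rw [cjg, ← e, MonoidHom.map_zpowers]
        rfl
      have hcardeq : Nat.card (Sylow 3 (Nm (zpowers (c s)))) = 16 := by
        rw [hz, Nm_mono_conj, ← hn]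
        let e := (Nm (zpowers x)).equivMapOfInjective (MulAut.conj (s.1 : T)).toMonoidHom (MulAut.conj (s.1 : T)).injective
        exact le_antisymm
          (Nat.card_le_card_of_surjective _ (Sylow.mapSurjective_surjective (f := e.toMonoidHom) e.surjective 3))
          (Nat.card_le_card_of_surjective _ (Sylow.mapSurjective_surjective (f := e.symm.toMonoidHom) e.symm.surjective 3))
      have := hf (c s) (hcX s) _ rfl
      omega
    have h240 : 240 ≤ L := by
      have hsub : Finset.univ.image c ⊆ Xs := fun y hy => by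
        obtain ⟨s, -, rfl⟩ := Finset.mem_image.1 hy; exact hcX s
      refine le_trans ?_ (Finset.sum_le_sum_of_subset hsub)
      rw [Finset.sum_image fun a _ b _ e => hcinj e]
      have h := Finset.card_nsmul_le_sum (Finset.univ : Finset (S' × Bool)) _ 15 fun s _ => h15 s
      rw [Finset.card_univ, Fintype.card_prod, Fintype.card_bool, ← Nat.card_eq_fintype_card, hS', smul_eq_mul] at h
      exact h
    omega
  have hLle : L ≤ 26 * 3 := by
    rw [← hXcard, ← smul_eq_mul]
    refine Finset.sum_le_card_nsmul _ _ _ fun x hx => ?_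
    have h1 := hf x hx _ rfl
    have h2 := h4 x hx
    omega
  have hRge : 108 ≤ R := by
    have hsplit : ∀ Q ∈ Os, (if Meet9 P Q then 8 else 2) ≤
        (Finset.bipartiteBelow (fun (x : T) (Q : Sylow 3 T) => x ∈ (Q : Subgroup T)) Xs Q).card := by
      intro Q hQ
      have h1 := hright Q hQ
      split_ifs with h
      · rw [h.2] at h1; omega
      · have h' := ((hall Q (Finset.mem_filter.1 hQ).2).resolve_left h).2
        rw [h'] at h1; omega
    refine le_trans ?_ (Finset.sum_le_sum hsplit)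
    rw [Finset.sum_ite, Finset.sum_const, Finset.sum_const, smul_eq_mul, smul_eq_mul]
    have hc9 : (Os.filter fun Q => Meet9 P Q).card = Nat.card {Q // Meet9 P Q} := by
      rw [Nat.card_eq_fintype_card, Fintype.card_subtype]
      congr 1
      ext Q
      simp only [Os, Finset.mem_filter, Finset.mem_univ, true_and]
      exact ⟨fun h => h.2, fun h => ⟨h.1, h⟩⟩
    have := Finset.card_filter_add_card_filter_not (s := Os) (fun Q => Meet9 P Q)
    omega
  omega

end Hyp

end Cfsg.Agent.Lib.U33Recog
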