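import Cfsg.Agent.Lib.U33Recog.TI

/-!
With 28 Sylow 3-subgroups, distinct ones meet trivially: the remaining cases.
-/

set_option autoImplicit false
set_option linter.unusedSectionVars false

namespace Cfsg.Agent.Lib.U33Recog

open Subgroup
open Cfsg.Agent.Lib.SmallGroups

variable {T : Type*} [Group T] [Finite T]

namespace Hyp

variable (hT : Hyp T) (h28 : Nat.card (Sylow 3 T) = 28)
include hT h28

theorem smul_ne {P Q : Sylow 3 T} {g : T} (hg : g ∈ Nm (P : Subgroup T)) (hQ : Q ≠ P) : g • Q ≠ P :=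
  fun e => hQ (smul_left_cancel g (e.trans (mem_Nm_sylow.1 hg).symm))

/-- Abelian or not, `P` cannot share nine elements with another point. -/
theorem false_meet9 {P : Sylow 3 T} (h9 : ∃ Q, Meet9 P Q) : False := by
  classical
  haveI := three_prime
  haveI := Fintype.ofFinite T
  haveI := Fintype.ofFinite (Sylow 3 T)
  by_cases hab : Ab (P : Subgroup T)
  · exact hT.false_meet9_ab h28 hab h9
  obtain ⟨Q0, hQ0⟩ := h9
  obtain ⟨hall, hd, hsum⟩ := hT.dvd_meet9 h28 ⟨Q0, hQ0⟩
  set Z := Zs (P : Subgroup T) with hZdef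
  have hZ3 : Nat.card Z = 3 := hT.card_Zs_mul hab
  have hZD : ∀ Q, Meet9 P Q → Z ≤ (P : Subgroup T) ⊓ Q := fun Q h => hT.Zs_le hab inf_le_left h.2
  let B : T → Prop := fun y => y ∈ (P : Subgroup T) ∧ y ∉ Z ∧ ∃ Q, Meet9 P Q ∧ y ∈ (Q : Subgroup T)
  have hexact : ∀ y Q, Meet9 P Q → y ∈ (P : Subgroup T) → y ∉ Z → y ∈ (Q : Subgroup T) →
      ∀ R : Sylow 3 T, (Meet9 P R ∧ y ∈ (R : Subgroup T)) ↔ (R ≠ P ∧ (P : Subgroup T) ⊓ Q ≤ R) := by
    intro y Q hQ hyP hyZ hyQ R
    constructor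
    · rintro ⟨hR, hyR⟩
      refine ⟨hR.1, ?_⟩
      have key : ∀ S, Meet9 P S → y ∈ (S : Subgroup T) → Z ⊔ zpowers y = (P : Subgroup T) ⊓ S := by
        intro S hS hyS
        have hle : Z ⊔ zpowers y ≤ (P : Subgroup T) ⊓ S := sup_le (hZD S hS) (zpowers_le.2 ⟨hyP, hyS⟩)
        refine Subgroup.eq_of_le_of_card_ge hle ?_
        have h1 := Subgroup.card_dvd_of_le hle
        have h3 : Nat.card Z < Nat.card ↥(Z ⊔ zpowers y) := lt_of_le_of_ne
          (Subgroup.card_le_of_le le_sup_left) fun e =>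
            hyZ ((Subgroup.eq_of_le_of_card_ge le_sup_left e.ge).symm ▸ Subgroup.mem_sup_right (mem_zpowers y))
        rw [hZ3] at h3
        rw [hS.2] at h1 ⊢
        have d1 := Nat.mem_divisors.2 ⟨h1, by norm_num⟩
        rw [show Nat.divisors 9 = {1, 3, 9} from by decide] at d1
        simp only [Finset.mem_insert, Finset.mem_singleton] at d1
        omega
      rw [← key Q hQ hyQ, key R hR hyR]
      exact inf_le_right
    · rintro ⟨hR, hle⟩
      have h := Subgroup.card_le_of_le (le_inf inf_le_left hle : (P : Subgroup T) ⊓ Q ≤ (P : Subgroup T) ⊓ R)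
      have hc := hT.card_inf_cases hR
      simp only [Finset.mem_insert, Finset.mem_singleton] at hc
      rw [hQ.2] at h
      exact ⟨⟨hR, by omega⟩, hle ⟨hyP, hyQ⟩⟩
  set Bs : Finset T := Finset.univ.filter B with hBs
  set Ms : Finset (Sylow 3 T) := Finset.univ.filter (Meet9 P) with hMs
  have hswap := Finset.sum_card_bipartiteAbove_eq_sum_card_bipartiteBelow
    (fun (y : T) (Q : Sylow 3 T) => y ∈ (Q : Subgroup T)) (s := Bs) (t := Ms)
  have hl : ∀ y ∈ Bs, (Finset.bipartiteAbove (fun (y : T) (Q : Sylow 3 T) => y ∈ (Q : Subgroup T)) Ms y).card = 3 := by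
    intro y hy
    obtain ⟨hyP, hyZ, Q, hQ, hyQ⟩ := (Finset.mem_filter.1 hy).2
    refine Eq.trans ?_ (hT.meet9_orbit h28 hQ).2
    rw [Nat.card_eq_fintype_card, Fintype.card_subtype]
    congr 1
    ext R
    simp only [Finset.bipartiteAbove, Ms, Finset.mem_filter, Finset.mem_univ, true_and]
    exact hexact y Q hQ hyP hyZ hyQ R
  have hr : ∀ Q ∈ Ms, (Finset.bipartiteBelow (fun (y : T) (Q : Sylow 3 T) => y ∈ (Q : Subgroup T)) Bs Q).card = 6 := by
    intro Q hQ
    have hQ' : Meet9 P Q := (Finset.mem_filter.1 hQ).2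
    have e : Finset.bipartiteBelow (fun (y : T) (Q : Sylow 3 T) => y ∈ (Q : Subgroup T)) Bs Q =
        (Finset.univ.filter fun y => y ∈ (P : Subgroup T) ⊓ Q) \ Finset.univ.filter fun y => y ∈ Z := by
      ext y
      simp only [Finset.bipartiteBelow, Bs, B, Finset.mem_sdiff, Finset.mem_filter, Finset.mem_univ, true_and,
        Subgroup.mem_inf]
      exact ⟨fun h => ⟨⟨h.1.1, h.2⟩, h.1.2.1⟩, fun h => ⟨⟨h.1.1, h.2, Q, hQ', h.1.2⟩, h.1.2⟩⟩
    rw [e, Finset.card_sdiff_of_subset (fun y hy => by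
      simp only [Finset.mem_filter, Finset.mem_univ, true_and] at hy ⊢
      exact hZD Q hQ' hy)]
    have h1 := hQ'.2
    rw [Nat.card_eq_fintype_card, Fintype.card_subtype] at h1 hZ3
    omega
  rw [Finset.sum_const_nat hl, Finset.sum_const_nat hr] at hswap
  have hMc : Ms.card = Nat.card {Q // Meet9 P Q} := by
    rw [Nat.card_eq_fintype_card, Fintype.card_subtype]
  have hBc : Bs.card = Nat.card {y // B y} := by
    rw [Nat.card_eq_fintype_card, Fintype.card_subtype]
  have hB24 : Nat.card {y // B y} ≤ 24 := by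
    rw [← hT.card_outside h28 hab]
    exact Nat.card_le_card_of_injective (fun y : {y // B y} => ⟨y.1, y.2.1, y.2.2.1⟩)
      fun a b e => Subtype.ext (congrArg Subtype.val e :)
  have hpos : 0 < Nat.card {Q // Meet9 P Q} := by
    haveI : Nonempty {Q // Meet9 P Q} := ⟨⟨Q0, hQ0⟩⟩
    exact Nat.card_pos
  obtain ⟨c, hc⟩ := hd
  have hB18 : Nat.card {y // B y} = 18 := by omega
  obtain ⟨u, hu2, hu1, huN, huP⟩ := hT.exists_central_involution h28 hab B
    (fun y h => ⟨h.1, h.2.1⟩)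
    (fun y h z hz => by
      obtain ⟨hyP, hyZ, Q, hQ, hyQ⟩ := h
      exact ⟨mul_mem hyP hz.1, fun h' => hyZ (by simpa using mul_mem h' (inv_mem hz)), Q, hQ,
        mul_mem hyQ (hZD Q hQ hz).2⟩)
    (fun y h => by
      obtain ⟨hyP, hyZ, Q, hQ, hyQ⟩ := h
      exact ⟨inv_mem hyP, fun h' => hyZ (inv_mem_iff.1 h'), Q, hQ, inv_mem hyQ⟩)
    (fun y h g hg => by
      obtain ⟨hyP, hyZ, Q, hQ, hyQ⟩ := h
      refine ⟨conj_mem hg hyP, fun h' => hyZ ?_, g • Q, ⟨hT.smul_ne h28 hg hQ.1, ?_⟩, ?_⟩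
      · have := conj_mem (hT.Zs_le_Nm (inv_mem hg)) h'
        rwa [show g⁻¹ * (g * y * g⁻¹) * g⁻¹⁻¹ = y by group] at this
      · rw [inf_smul hg, cjg, card_conj, hQ.2]
      · rw [sylow_le_iff_conj]
        exact ⟨y, hyQ, rfl⟩)
    hB18
  -- the fixed points
  have hfix9 : ∀ Q, Meet9 P Q → u • Q = Q := by
    intro Q hQ
    set D := (P : Subgroup T) ⊓ Q with hD
    let f : MulAction.orbit ↥(P : Subgroup T) Q → {R : Sylow 3 T // R ≠ P ∧ D ≤ R} := fun S => ⟨S.1, by
      obtain ⟨x, hx⟩ := S.2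
      have hx' : (x : T) • Q = S.1 := hx
      have hg : (x : T) ∈ Nm D := (hT.meet9_orbit h28 hQ).1.le_Nm hT x.2
      refine ⟨hx' ▸ hT.smul_ne h28 (Subgroup.le_normalizer x.2) hQ.1, ?_⟩
      rw [← hx', sylow_le_iff_conj]
      intro d hd
      rw [mem_map_conj]
      have := conj_mem (inv_mem hg) hd
      rw [inv_inv] at this
      exact (this : _ ∈ (P : Subgroup T) ⊓ Q).2⟩
    have hcard := hT.index_inf h28 hQ.1
    rw [hQ.2] at hcard
    have hf : Function.Bijective f := Function.Injective.bijective_of_nat_card_le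
      (fun a b e => Subtype.ext (congrArg Subtype.val e :)) (by rw [(hT.meet9_orbit h28 hQ).2]; omega)
    have hDu : D ≤ (u • Q : Sylow 3 T) := by
      rw [sylow_le_iff_conj]
      intro d hd
      rw [mem_map_conj, mul_assoc, ← huP d hd.1, inv_mul_cancel_left]
      exact hd.2
    obtain ⟨⟨S, x, hx⟩, hS⟩ := hf.2 ⟨u • Q, hT.smul_ne h28 huN hQ.1, hDu⟩
    exact hT.fix_of_commute h28 hu2 huP x.2 ((congrArg Subtype.val hS).symm.trans hx.symm)
  have hmoved : Nat.card {Q : Sylow 3 T // u • Q ≠ Q} = 0 := by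
    have h1 := hT.fixed_mod_four h28 hu2
    have h2 : 9 ∣ Nat.card {Q : Sylow 3 T // u • Q ≠ Q} := by
      refine hT.nine_dvd h28 P _ (fun x hx Q hQ e => hQ ?_) (fun Q hQ => ?_)
      · rw [← mul_smul, huP x hx, mul_smul] at e
        exact smul_left_cancel x e
      · have hne : Q ≠ P := fun e => hQ (e ▸ mem_Nm_sylow.1 huN)
        rcases hall Q hne with h | h
        · exact absurd (hfix9 Q h) hQ
        · exact h.2.le
    have h3 : Nat.card {Q : Sylow 3 T // u • Q ≠ Q} ≤ 27 := by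
      rw [← hT.card_others h28 P]
      exact Nat.card_le_card_of_injective
        (fun Q : {Q : Sylow 3 T // u • Q ≠ Q} => ⟨Q.1, fun e => Q.2 (e ▸ mem_Nm_sylow.1 huN)⟩)
        fun a b e => Subtype.ext (congrArg Subtype.val e :)
    obtain ⟨k, hk⟩ := h2
    omega
  exact hu1 (hT.faithful h28 fun Q => by
    by_contra hQ
    haveI : Nonempty {Q : Sylow 3 T // u • Q ≠ Q} := ⟨⟨Q, hQ⟩⟩
    exact absurd hmoved (Nat.card_pos).ne')

section Three

variable (h3 : ∀ P Q : Sylow 3 T, Q ≠ P → Nat.card ↥((P : Subgroup T) ⊓ Q) = 3)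
include h3

theorem eq_of_two_nine {P Q : Sylow 3 T} {A : Subgroup T} (hP : A ≤ P) (hQ : A ≤ Q) (hA : 9 ≤ Nat.card A) :
    Q = P := by
  by_contra hne
  have := Subgroup.card_le_of_le (le_inf hP hQ)
  rw [h3 P Q hne] at this
  omega

theorem not_le_Nm_left {P Q : Sylow 3 T} (hne : Q ≠ P) :
    ¬ (P : Subgroup T) ≤ Nm ((P : Subgroup T) ⊓ Q) := by
  classical
  haveI := three_prime
  intro hP
  set R := (P : Subgroup T) ⊓ Q with hR
  have hR3 : IsPGroup 3 R := isPGroup_inf hT P Q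
  have hRne : R ≠ ⊥ := fun e => by
    have := h3 P Q hne
    rw [← hR, e, Subgroup.card_bot] at this; omega
  by_cases hQ : (Q : Subgroup T) ≤ Nm R
  · have h1 : 9 ∣ Nat.card {S : Sylow 3 T // S ≠ P ∧ (S : Subgroup T) ≤ Nm R} :=
      hT.nine_dvd h28 P _ (fun x hx S ⟨hS, hle⟩ => ⟨hT.smul_ne h28 (Subgroup.le_normalizer hx) hS, by
        rw [sylow_le_iff_conj]
        rintro _ ⟨s, hs, rfl⟩
        exact mul_mem (mul_mem (hP hx) (hle hs)) (inv_mem (hP hx))⟩)
      (fun S ⟨hS, _⟩ => (h3 P S hS).le)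
    have h2 : Nat.card {S : Sylow 3 T // S ≠ P ∧ (S : Subgroup T) ≤ Nm R} + 1 = Nat.card (Sylow 3 (Nm R)) := by
      haveI := Fintype.ofFinite (Sylow 3 T)
      rw [hT.sylow_equiv hP, Nat.card_eq_fintype_card, Nat.card_eq_fintype_card, Fintype.card_subtype,
        Fintype.card_subtype, ← Finset.card_insert_of_notMem (a := P) (by simp)]
      congr 1
      ext S
      simp only [Finset.mem_insert, Finset.mem_filter, Finset.mem_univ, true_and]
      constructor
      · rintro (rfl | ⟨-, h⟩)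
        exacts [hP, h]
      · intro h
        by_cases e : S = P
        exacts [Or.inl e, Or.inr ⟨e, h⟩]
    haveI : Nonempty {S : Sylow 3 T // S ≠ P ∧ (S : Subgroup T) ≤ Nm R} := ⟨⟨Q, hne, hQ⟩⟩
    have h4 : 0 < Nat.card {S : Sylow 3 T // S ≠ P ∧ (S : Subgroup T) ≤ Nm R} := Nat.card_pos
    obtain ⟨hn, -⟩ := hT.sylow_count h28 hR3 hRne hP
    simp only [Finset.mem_insert, Finset.mem_singleton] at hn
    omega
  · have hnab : ¬ Ab (Q : Subgroup T) := fun hab => hQ fun s hs => mem_Nm_of_conj fun y hy => by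
      rw [hab s hs y hy.2, mul_inv_cancel_right]; exact hy
    set A := R ⊔ Zs (Q : Subgroup T) with hA
    have hAQ : A ≤ Q := sup_le inf_le_right inf_le_left
    have hAN : A ≤ Nm R := sup_le Subgroup.le_normalizer fun z hz => mem_Nm_of_conj fun y hy => by
      rw [← hz.2 y hy.2, mul_inv_cancel_right]; exact hy
    have hA9 : 9 ≤ Nat.card A := by
      have hlt : Nat.card R < Nat.card A := lt_of_le_of_ne (Subgroup.card_le_of_le le_sup_left) fun e => by
        have hle : Zs (Q : Subgroup T) ≤ R :=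
          le_sup_right.trans (Subgroup.eq_of_le_of_card_ge (le_sup_left : R ≤ A) e.ge).ge
        have hZR : Zs (Q : Subgroup T) = R := Subgroup.eq_of_le_of_card_ge hle (by
          rw [hT.card_Zs_mul hnab, hR, h3 P Q hne])
        exact hQ (hZR ▸ (Subgroup.le_normalizer.trans hT.Zs_le_Nm))
      have hd := Subgroup.card_dvd_of_le hAQ
      rw [hT.card_sylow] at hd
      rw [hR, h3 P Q hne] at hlt
      have d1 := Nat.mem_divisors.2 ⟨hd, by norm_num⟩
      rw [show Nat.divisors 27 = {1, 3, 9, 27} from by decide] at d1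
      simp only [Finset.mem_insert, Finset.mem_singleton] at d1
      omega
    obtain ⟨X, hX⟩ := ((Q.2.to_le hAQ).comap_subtype (K := Nm R)).exists_le_sylow
    obtain ⟨g, hg⟩ := MulAction.exists_smul_eq (Nm R) (P.subtype hP) X
    have hAS : A ≤ ((g : T) • P : Sylow 3 T) := by
      intro a ha
      have : (⟨a, hAN ha⟩ : Nm R) ∈ (X : Subgroup (Nm R)) := hX ha
      rw [← hg] at this
      obtain ⟨p, hp, e⟩ := this
      rw [sylow_le_iff_conj]
      exact ⟨p.1, hp, congrArg Subtype.val e⟩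
    have hS : ((g : T) • P : Sylow 3 T) ≠ Q := fun e => hQ (by
      rw [← e, sylow_le_iff_conj]
      rintro _ ⟨s, hs, rfl⟩
      exact mul_mem (mul_mem g.2 (hP hs)) (inv_mem g.2))
    exact hS (hT.eq_of_two_nine h28 h3 hAQ hAS hA9)

theorem no_sylow_in_Nm {P Q : Sylow 3 T} (hne : Q ≠ P) (S : Sylow 3 T) :
    ¬ (S : Subgroup T) ≤ Nm ((P : Subgroup T) ⊓ Q) := by
  intro hS
  by_cases e : S = P
  · exact hT.not_le_Nm_left h28 h3 hne (e ▸ hS)
  have hle : (P : Subgroup T) ⊓ Q ≤ S := le_sylow_of_le_Nm (isPGroup_inf hT P Q) hS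
  have heq : (P : Subgroup T) ⊓ Q = (S : Subgroup T) ⊓ P :=
    Subgroup.eq_of_le_of_card_ge (le_inf hle inf_le_left) (by rw [h3 P Q hne, h3 S P (Ne.symm e)])
  exact hT.not_le_Nm_left h28 h3 (Ne.symm e) (heq ▸ hS)

theorem not_ab_three {P Q : Sylow 3 T} (hne : Q ≠ P) : ¬ Ab (P : Subgroup T) := fun hab =>
  hT.not_le_Nm_left h28 h3 hne fun s hs => mem_Nm_of_conj fun y hy => by
    rw [hab s hs y hy.1, mul_inv_cancel_right]; exact hy

/-- Exactly three points share a given intersection with `P`. -/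
theorem card_fibre {P Q : Sylow 3 T} (hne : Q ≠ P) :
    Nat.card {S : Sylow 3 T // S ≠ P ∧ (P : Subgroup T) ⊓ S = (P : Subgroup T) ⊓ Q} = 3 := by
  classical
  haveI := three_prime
  haveI := Fintype.ofFinite (Sylow 3 T)
  set R := (P : Subgroup T) ⊓ Q with hR
  have hR3 : Nat.card R = 3 := h3 P Q hne
  have hRp : IsPGroup 3 R := isPGroup_inf hT P Q
  have hRne : R ≠ ⊥ := fun e => by rw [e, Subgroup.card_bot] at hR3; omega
  have hno : ∀ S : Sylow 3 T, ¬ (S : Subgroup T) ≤ Nm R := hT.no_sylow_in_Nm h28 h3 hne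
  -- 27 does not divide the order of the normalizer
  have h27 : ¬ 27 ∣ Nat.card (Nm R) := by
    intro h
    obtain ⟨K, hK⟩ := _root_.Sylow.exists_subgroup_card_pow_prime (G := Nm R) 3 (n := 3) (by
      rw [show 3 ^ 3 = 27 by norm_num]; exact h)
    have hKp : IsPGroup 3 (K.map (Nm R).subtype) := (IsPGroup.of_card hK).map _
    obtain ⟨S, hS⟩ := hKp.exists_le_sylow
    have e := Subgroup.eq_of_le_of_card_ge hS (by
      rw [hT.card_sylow, Subgroup.card_map_of_injective (Nm R).subtype_injective, hK]; norm_num)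
    exact hno S (e ▸ Subgroup.map_subtype_le K)
  have hfac : ∀ S : Sylow 3 T, R ≤ S → Nat.card ((S : Subgroup T).subgroupOf (Nm R)) = 9 ∧
      3 ^ (Nat.card (Nm R)).factorization 3 = 9 := by
    intro S hS
    have hnabS : ¬ Ab (S : Subgroup T) := by
      obtain ⟨S', hS'⟩ : ∃ S', S' ≠ S := by
        by_cases e : S = P
        · exact ⟨Q, e ▸ hne⟩
        · exact ⟨P, Ne.symm e⟩
      exact hT.not_ab_three h28 h3 hS'
    have hA : R ⊔ Zs (S : Subgroup T) ≤ (S : Subgroup T) ⊓ Nm R :=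
      sup_le (le_inf hS Subgroup.le_normalizer) fun z hz => ⟨hz.1, mem_Nm_of_conj fun y hy => by
        rw [← hz.2 y (hS hy), mul_inv_cancel_right]; exact hy⟩
    have hlt : Nat.card R < Nat.card ↥(R ⊔ Zs (S : Subgroup T)) :=
      lt_of_le_of_ne (Subgroup.card_le_of_le le_sup_left) fun e => by
        have hle : Zs (S : Subgroup T) ≤ R :=
          le_sup_right.trans (Subgroup.eq_of_le_of_card_ge (le_sup_left : R ≤ R ⊔ Zs (S : Subgroup T)) e.ge).ge
        have hZR : Zs (S : Subgroup T) = R := Subgroup.eq_of_le_of_card_ge hle (by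
          rw [hT.card_Zs_mul hnabS, hR3])
        exact hno S (hZR ▸ (Subgroup.le_normalizer.trans hT.Zs_le_Nm))
    have h9 : 9 ≤ Nat.card ↥((S : Subgroup T) ⊓ Nm R) := by
      have h1 := Subgroup.card_dvd_of_le hA
      have h2 := Subgroup.card_dvd_of_le (inf_le_left : (S : Subgroup T) ⊓ Nm R ≤ S)
      have h4 := Subgroup.card_le_of_le hA
      rw [hT.card_sylow] at h2
      rw [hR3] at hlt
      have d1 := Nat.mem_divisors.2 ⟨h2, by norm_num⟩
      rw [show Nat.divisors 27 = {1, 3, 9, 27} from by decide] at d1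
      simp only [Finset.mem_insert, Finset.mem_singleton] at d1
      omega
    rw [← inf_subgroupOf_right, Nat.card_congr (subgroupOfEquivOfLe inf_le_right).toEquiv]
    have hd := Subgroup.card_dvd_of_le (inf_le_left : (S : Subgroup T) ⊓ Nm R ≤ S)
    have hdN := Subgroup.card_dvd_of_le (inf_le_right : (S : Subgroup T) ⊓ Nm R ≤ Nm R)
    rw [hT.card_sylow] at hd
    have d1 := Nat.mem_divisors.2 ⟨hd, by norm_num⟩
    rw [show Nat.divisors 27 = {1, 3, 9, 27} from by decide] at d1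
    simp only [Finset.mem_insert, Finset.mem_singleton] at d1
    have e9 : Nat.card ↥((S : Subgroup T) ⊓ Nm R) = 9 := by
      rcases d1 with h | h | h | h
      · omega
      · omega
      · exact h
      · exact absurd (h ▸ hdN) h27
    refine ⟨e9, ?_⟩
    rw [e9] at hdN
    have hpos : Nat.card (Nm R) ≠ 0 := Nat.card_pos.ne'
    have h2 : 2 ≤ (Nat.card (Nm R)).factorization 3 :=
      (Nat.prime_three.pow_dvd_iff_le_factorization hpos).1 (by norm_num; exact hdN)
    have h3' : ¬ 3 ≤ (Nat.card (Nm R)).factorization 3 := fun h => h27 (by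
      have := (Nat.prime_three.pow_dvd_iff_le_factorization hpos).2 h
      norm_num at this; exact this)
    rw [show (Nat.card (Nm R)).factorization 3 = 2 by omega]; norm_num
  let Φ : {S : Sylow 3 T // R ≤ S} → Sylow 3 (Nm R) := fun S =>
    Sylow.ofCard ((S.1 : Subgroup T).subgroupOf (Nm R)) (by rw [(hfac S.1 S.2).1, (hfac S.1 S.2).2])
  have hΦ : Function.Bijective Φ := by
    constructor
    · intro S S' e
      have e' := congrArg (fun X : Sylow 3 (Nm R) => (X : Subgroup (Nm R))) e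
      simp only [Φ, Sylow.coe_ofCard] at e'
      apply Subtype.ext
      refine (hT.eq_of_two_nine h28 h3 (A := ((S.1 : Subgroup T).subgroupOf (Nm R)).map (Nm R).subtype)
        (Subgroup.map_le_iff_le_comap.2 fun a ha => ha)
        (Subgroup.map_le_iff_le_comap.2 fun a ha => (e' ▸ ha : a ∈ (S'.1 : Subgroup T).subgroupOf (Nm R))) ?_).symm
      rw [Subgroup.card_map_of_injective (Nm R).subtype_injective, (hfac S.1 S.2).1]
    · intro X
      haveI : (R.subgroupOf (Nm R)).Normal := Subgroup.normal_in_normalizer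
      have hRX := IsPGroup.le_sylow_of_normal (N := R.subgroupOf (Nm R)) hRp.comap_subtype X
      obtain ⟨S, hS⟩ := (X.2.map (Nm R).subtype).exists_le_sylow
      have hRS : R ≤ S := fun r hr => hS ⟨⟨r, Subgroup.le_normalizer hr⟩, hRX hr, rfl⟩
      refine ⟨⟨S, hRS⟩, Sylow.ext ?_⟩
      simp only [Φ, Sylow.coe_ofCard]
      refine X.3 ((S.2.comap_subtype (K := Nm R))) fun a ha => hS ⟨a, ha, rfl⟩
  have hn : Nat.card {S : Sylow 3 T // R ≤ S} = Nat.card (Sylow 3 (Nm R)) :=
    Nat.card_congr (Equiv.ofBijective Φ hΦ)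
  have hadd : Nat.card {S : Sylow 3 T // S ≠ P ∧ (P : Subgroup T) ⊓ S = R} + 1 =
      Nat.card {S : Sylow 3 T // R ≤ S} := by
    rw [Nat.card_eq_fintype_card, Nat.card_eq_fintype_card, Fintype.card_subtype, Fintype.card_subtype,
      ← Finset.card_insert_of_notMem (a := P) (by simp)]
    congr 1
    ext S
    simp only [Finset.mem_insert, Finset.mem_filter, Finset.mem_univ, true_and]
    constructor
    · rintro (rfl | ⟨-, h⟩)
      exacts [inf_le_left, h ▸ inf_le_right]
    · intro h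
      by_cases e : S = P
      exacts [Or.inl e, Or.inr ⟨e, (Subgroup.eq_of_le_of_card_ge (le_inf inf_le_left h)
        (by rw [h3 P S e, hR3])).symm⟩]
  have hdvd : Nat.card (Sylow 3 (Nm R)) ∣ 864 := by
    obtain ⟨X⟩ : Nonempty (Sylow 3 (Nm R)) := inferInstance
    exact ((Sylow.card_dvd_index X).trans (Subgroup.index_dvd_card _)).trans (hT.card_Nm hRp hRne).1
  have hmod := hT.sylow_mod (L := Nm R)
  have hn32 : Nat.card (Sylow 3 (Nm R)) ∣ 32 := by
    refine (Nat.Coprime.dvd_of_dvd_mul_left ?_ (show Nat.card (Sylow 3 (Nm R)) ∣ 27 * 32 by norm_num; exact hdvd))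
    exact (((Nat.Prime.coprime_iff_not_dvd Nat.prime_three).2 (by omega)).pow_left 3).symm
  have hd' := Nat.mem_divisors.2 ⟨hn32, by norm_num⟩
  rw [show Nat.divisors 32 = {1, 2, 4, 8, 16, 32} from by decide] at hd'
  simp only [Finset.mem_insert, Finset.mem_singleton] at hd'
  haveI : Nonempty {S : Sylow 3 T // S ≠ P ∧ (P : Subgroup T) ⊓ S = R} := ⟨⟨Q, hne, rfl⟩⟩
  have hpos : 0 < Nat.card {S : Sylow 3 T // S ≠ P ∧ (P : Subgroup T) ⊓ S = R} := Nat.card_pos
  by_contra hne3
  -- a conjugate of the intersection gives too many points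
  obtain ⟨x, hxP, hxN⟩ := SetLike.not_le_iff_exists.1 (hT.not_le_Nm_left h28 h3 hne)
  have hxP' : x ∈ Nm (P : Subgroup T) := Subgroup.le_normalizer hxP
  let f : {S : Sylow 3 T // S ≠ P ∧ (P : Subgroup T) ⊓ S = R} × Bool → {S : Sylow 3 T // S ≠ P} := fun s =>
    if s.2 then ⟨x • s.1.1, hT.smul_ne h28 hxP' s.1.2.1⟩ else ⟨s.1.1, s.1.2.1⟩
  have hf : Function.Injective f := by
    have hdiff : ∀ a b : {S : Sylow 3 T // S ≠ P ∧ (P : Subgroup T) ⊓ S = R}, x • a.1 ≠ b.1 := by
      intro a b e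
      apply hxN
      refine mem_Nm_of_conj fun y hy => ?_
      have e2 : cjg x R = R := by
        conv_rhs => rw [← b.2.2, ← e, inf_smul hxP', a.2.2]
      have : x * y * x⁻¹ ∈ cjg x R := ⟨y, hy, rfl⟩
      rwa [e2] at this
    rintro ⟨a, _ | _⟩ ⟨b, _ | _⟩ e <;> simp only [f, Bool.false_eq_true, if_false, if_true] at e <;>
      have e' := congrArg Subtype.val e
    · exact Prod.ext (Subtype.ext e') rfl
    · exact absurd e'.symm (hdiff b a)
    · exact absurd e' (hdiff a b)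
    · exact Prod.ext (Subtype.ext (smul_left_cancel x e')) rfl
  have h := Nat.card_le_card_of_injective f hf
  rw [Nat.card_prod, hT.card_others h28, Nat.card_eq_fintype_card (α := Bool), Fintype.card_bool] at h
  omega

theorem false_three : False := by
  classical
  haveI := three_prime
  haveI := Fintype.ofFinite T
  haveI := Fintype.ofFinite (Sylow 3 T)
  let P : Sylow 3 T := default
  obtain ⟨Q0, hQ0⟩ : ∃ Q0 : Sylow 3 T, Q0 ≠ P := by
    by_contra hc
    push Not at hc
    have : Nat.card (Sylow 3 T) = 1 := Nat.card_eq_one_iff_unique.2 ⟨⟨fun a b => (hc a).trans (hc b).symm⟩, ⟨P⟩⟩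
    omega
  have hna := hT.not_ab_three h28 h3 hQ0
  set Z := Zs (P : Subgroup T) with hZdef
  have hZ3 : Nat.card Z = 3 := hT.card_Zs_mul hna
  have hdisj : ∀ Q : Sylow 3 T, Q ≠ P → ∀ y ∈ (P : Subgroup T) ⊓ Q, y ≠ 1 →
      zpowers y = (P : Subgroup T) ⊓ Q := by
    intro Q hQ y hy hy1
    exact Subgroup.eq_of_le_of_card_ge (zpowers_le.2 hy)
      (by rw [h3 P Q hQ, Nat.card_zpowers, hT.orderOf_eq_three P.2 hy.1 hy1])
  let B : T → Prop := fun y => y ∈ (P : Subgroup T) ∧ y ≠ 1 ∧ ∃ Q : Sylow 3 T, Q ≠ P ∧ y ∈ (Q : Subgroup T)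
  have hBZ : ∀ y, B y → y ∉ Z := by
    rintro y ⟨hyP, hy1, Q, hQ, hyQ⟩ hyZ
    refine hT.not_le_Nm_left h28 h3 hQ ?_
    rw [← hdisj Q hQ y ⟨hyP, hyQ⟩ hy1]
    intro s hs
    refine mem_Nm_of_conj fun w hw => ?_
    rw [((zpowers_le.2 hyZ) hw).2 s hs, mul_inv_cancel_right]
    exact hw
  set Bs : Finset T := Finset.univ.filter B with hBs
  set Os : Finset (Sylow 3 T) := Finset.univ.filter fun Q => Q ≠ P with hOs
  have hswap := Finset.sum_card_bipartiteAbove_eq_sum_card_bipartiteBelow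
    (fun (y : T) (Q : Sylow 3 T) => y ∈ (Q : Subgroup T)) (s := Bs) (t := Os)
  have hl : ∀ y ∈ Bs, (Finset.bipartiteAbove (fun (y : T) (Q : Sylow 3 T) => y ∈ (Q : Subgroup T)) Os y).card = 3 := by
    intro y hy
    obtain ⟨hyP, hy1, Q, hQ, hyQ⟩ := (Finset.mem_filter.1 hy).2
    refine Eq.trans ?_ (hT.card_fibre h28 h3 hQ)
    rw [Nat.card_eq_fintype_card, Fintype.card_subtype]
    congr 1
    ext S
    simp only [Finset.bipartiteAbove, Os, Finset.mem_filter, Finset.mem_univ, true_and]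
    constructor
    · rintro ⟨hS, hyS⟩
      exact ⟨hS, (hdisj S hS y ⟨hyP, hyS⟩ hy1).symm.trans (hdisj Q hQ y ⟨hyP, hyQ⟩ hy1)⟩
    · rintro ⟨hS, e⟩
      exact ⟨hS, (e.symm ▸ (⟨hyP, hyQ⟩ : y ∈ (P : Subgroup T) ⊓ Q) : y ∈ (P : Subgroup T) ⊓ S).2⟩
  have hr : ∀ Q ∈ Os, (Finset.bipartiteBelow (fun (y : T) (Q : Sylow 3 T) => y ∈ (Q : Subgroup T)) Bs Q).card = 2 := by
    intro Q hQ
    have hQ' : Q ≠ P := (Finset.mem_filter.1 hQ).2
    have e : Finset.bipartiteBelow (fun (y : T) (Q : Sylow 3 T) => y ∈ (Q : Subgroup T)) Bs Q =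
        (Finset.univ.filter fun y => y ∈ (P : Subgroup T) ⊓ Q).erase 1 := by
      ext y
      simp only [Finset.bipartiteBelow, Bs, B, Finset.mem_erase, Finset.mem_filter, Finset.mem_univ, true_and,
        Subgroup.mem_inf]
      exact ⟨fun h => ⟨h.1.2.1, h.1.1, h.2⟩, fun h => ⟨⟨h.2.1, h.1, Q, hQ', h.2.2⟩, h.2.2⟩⟩
    have h := h3 P Q hQ'
    rw [Nat.card_eq_fintype_card, Fintype.card_subtype] at h
    rw [e, Finset.card_erase_of_mem (by simp), h]
  rw [Finset.sum_const_nat hl, Finset.sum_const_nat hr] at hswap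
  have hOc : Os.card = 27 := by
    have h := hT.card_others h28 P
    rwa [Nat.card_eq_fintype_card, Fintype.card_subtype] at h
  have hBc : Bs.card = Nat.card {y // B y} := by
    rw [Nat.card_eq_fintype_card, Fintype.card_subtype]
  have hB18 : Nat.card {y // B y} = 18 := by omega
  have hconj : ∀ y, B y → ∀ g ∈ Nm (P : Subgroup T), B (g * y * g⁻¹) := by
    rintro y ⟨hyP, hy1, Q, hQ, hyQ⟩ g hg
    refine ⟨conj_mem hg hyP, fun h => hy1 (by simpa using h), g • Q, hT.smul_ne h28 hg hQ, ?_⟩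
    rw [sylow_le_iff_conj]
    exact ⟨y, hyQ, rfl⟩
  obtain ⟨u, hu2, hu1, huN, huP⟩ := hT.exists_central_involution h28 hna B
    (fun y h => ⟨h.1, hBZ y h⟩)
    (fun y h z hz => by
      have hB := h
      obtain ⟨hyP, hy1, -⟩ := h
      -- a conjugate
      obtain ⟨x, hx, hne⟩ : ∃ x ∈ (P : Subgroup T), y * x ≠ x * y := by
        by_contra hc
        push Not at hc
        exact hBZ y hB ⟨hyP, fun w hw => (hc w hw).symm⟩
      set c := y⁻¹ * x * y * x⁻¹ with hc
      have hcZ : c ∈ Z := by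
        refine Subgroup.mem_inf.2 ⟨mul_mem (mul_mem (mul_mem (inv_mem hyP) hx) hyP) (inv_mem hx), ?_⟩
        intro w hw
        have := hT.center_ne P y x⁻¹ hyP (inv_mem hx) w hw
        rw [inv_inv] at this
        exact this.eq.symm
      have hc1 : c ≠ 1 := fun e => hne (by
        have e2 : y * x = y * (y⁻¹ * x * y * x⁻¹) * x := by rw [← hc, e, mul_one]
        rw [e2]; group)
      have hgen : zpowers c = Z := Subgroup.eq_of_le_of_card_ge (zpowers_le.2 hcZ)
        (by rw [hZ3, Nat.card_zpowers, hT.orderOf_eq_three P.2 hcZ.1 hc1])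
      obtain ⟨k, hk⟩ := mem_powers_iff_mem_zpowers.2 (hgen.symm ▸ hz : z ∈ zpowers c)
      have hk' : c ^ k = z := hk
      have key : ∀ j : ℕ, x ^ j * y * (x ^ j)⁻¹ = y * c ^ j := by
        intro j
        induction j with
        | zero => simp
        | succ j ih =>
          have hcx : x * c ^ j = c ^ j * x := (pow_mem hcZ j).2 x hx
          calc x ^ (j + 1) * y * (x ^ (j + 1))⁻¹ = x * (x ^ j * y * (x ^ j)⁻¹) * x⁻¹ := by
                rw [pow_succ']; group
            _ = x * y * (c ^ j * x⁻¹) := by rw [ih]; group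
            _ = x * y * (x⁻¹ * c ^ j) := by
                rw [show c ^ j * x⁻¹ = x⁻¹ * c ^ j from
                  ((show Commute x (c ^ j) from hcx).inv_left).eq.symm]
            _ = (x * y * x⁻¹) * c ^ j := by group
            _ = (y * c) * c ^ j := by rw [show y * c = x * y * x⁻¹ by rw [hc]; group]
            _ = y * c ^ (j + 1) := by rw [pow_succ', mul_assoc]
      rw [← hk', ← key k]
      exact hconj y hB _ (Subgroup.le_normalizer (pow_mem hx k)))
    (fun y h => by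
      obtain ⟨hyP, hy1, Q, hQ, hyQ⟩ := h
      exact ⟨inv_mem hyP, inv_ne_one.2 hy1, Q, hQ, inv_mem hyQ⟩)
    hconj hB18
  refine hu1 (hT.faithful h28 fun Q => ?_)
  by_cases hQ : Q = P
  · exact hQ ▸ mem_Nm_sylow.1 huN
  set R := (P : Subgroup T) ⊓ Q with hR
  let f : Z → {S : Sylow 3 T // S ≠ P ∧ (P : Subgroup T) ⊓ S = R} := fun z =>
    ⟨(z : T) • Q, hT.smul_ne h28 (Subgroup.le_normalizer z.2.1) hQ, by
      rw [inf_smul (Subgroup.le_normalizer z.2.1)]
      exact cjg_of_commute fun y hy => (z.2.2 y hy.1).symm⟩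
  have hf : Function.Bijective f := by
    refine Function.Injective.bijective_of_nat_card_le (fun a b e => ?_) (by rw [hT.card_fibre h28 h3 hQ, hZ3])
    have e' : ((b : T)⁻¹ * a) • Q = Q := by
      rw [mul_smul, show (a : T) • Q = (b : T) • Q from congrArg Subtype.val e, inv_smul_smul]
    have hmem : ((b : T)⁻¹ * a) ∈ (Q : Subgroup T) := (smul_eq_iff_mem (mul_mem (inv_mem b.2.1) a.2.1)).1 e'
    have hmz : ((b : T)⁻¹ * a) ∈ Z := mul_mem (inv_mem b.2) a.2
    by_cases h1 : (b : T)⁻¹ * a = 1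
    · exact Subtype.ext (inv_mul_eq_one.1 h1).symm
    · exact absurd hmz (hBZ _ ⟨hmz.1, h1, Q, hQ, hmem⟩)
  obtain ⟨z, hz⟩ := hf.2 ⟨u • Q, hT.smul_ne h28 huN hQ, by
    rw [inf_smul huN]; exact cjg_of_commute fun y hy => huP y hy.1⟩
  exact hT.fix_of_commute h28 hu2 huP z.2.1 (congrArg Subtype.val hz).symm

end Three

/-- Distinct Sylow 3-subgroups meet trivially. -/
theorem inf_eq_bot {P Q : Sylow 3 T} (hne : Q ≠ P) : (P : Subgroup T) ⊓ Q = ⊥ := by
  classical
  haveI := three_prime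
  apply Subgroup.eq_bot_of_card_eq
  have h := hT.card_inf_cases hne
  simp only [Finset.mem_insert, Finset.mem_singleton] at h
  rcases h with h | h | h
  · exact h
  · exfalso
    refine hT.false_three h28 fun P' Q' hne' => ?_
    have h' := hT.card_inf_cases hne'
    simp only [Finset.mem_insert, Finset.mem_singleton] at h'
    rcases h' with h' | h' | h'
    · exfalso
      obtain ⟨g, rfl⟩ := MulAction.exists_smul_eq T P' P
      have hQ : g⁻¹ • Q ≠ P' := fun e => hne (by rw [← e, smul_inv_smul])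
      have := hT.all_one h28 hne' h' _ hQ
      have e : ((g • P' : Sylow 3 T) : Subgroup T) ⊓ Q = cjg g ((P' : Subgroup T) ⊓ (g⁻¹ • Q : Sylow 3 T)) := by
        rw [cjg, Subgroup.map_inf _ _ _ (MulAut.conj g).injective, ← sylow_le_iff_conj, ← sylow_le_iff_conj,
          smul_inv_smul]
      rw [e, cjg, card_conj, this] at h
      omega
    · exact h'
    · exact absurd ⟨Q', hne', h'⟩ (hT.false_meet9 h28)
  · exact absurd ⟨Q, hne, h⟩ (hT.false_meet9 h28)

end Hyp

end Cfsg.Agent.Lib.U33Recog
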